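import Cfsg.Agent.Lib.SL4Max.Sympl

/-!
# SL₄ maximal subgroups: outcomes in the abelian-modulo-scalars case
-/

set_option autoImplicit false
set_option linter.unusedSectionVars false
set_option maxHeartbeats 600000

namespace Cfsg.Agent.Lib.SL4Max

open Cfsg Cfsg.Geo
open scoped Matrix

variable {F : Type*} [Field F] [Fintype F] {H N : Subgroup (GL (Fin 4) F)}

theorem roots_four {i c : F} (hi : i * i = -1) (h : c ^ 4 = 1) : c = 1 ∨ c = -1 ∨ c = i ∨ c = -i := by
  have h' : (c - 1) * (c + 1) * ((c - i) * (c + i)) = 0 := by linear_combination h - (c ^ 2 - 1) * hi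
  rcases mul_eq_zero.1 h' with h1 | h1 <;> rcases mul_eq_zero.1 h1 with h2 | h2
  · exact Or.inl (sub_eq_zero.1 h2)
  · exact Or.inr (Or.inl (eq_neg_of_add_eq_zero_left h2))
  · exact Or.inr (Or.inr (Or.inl (sub_eq_zero.1 h2)))
  · exact Or.inr (Or.inr (Or.inr (eq_neg_of_add_eq_zero_left h2)))

theorem AbData.six (hd : AbData H N) {p : ℕ} (hp : p.Prime) (hq : Fintype.card F = p) (hp4 : p % 4 = 1)
    {i : F} (hi : i * i = -1) : GSix H := by
  classical
  have h2 := hd.two_ne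
  have hi0 : i ≠ 0 := fun h => by simp [h] at hi
  set iu : Fˣ := Units.mk0 i hi0
  have hiu2 : (iu : F) * iu = -1 := hi
  let μ : Subgroup (GL (Fin 4) F) := (Subgroup.zpowers iu).map (Units.map (Matrix.scalar (Fin 4) : F →+* Matrix (Fin 4) (Fin 4) F).toMonoidHom)
  have hiu4 : iu ^ 4 = 1 := Units.ext (by push_cast; linear_combination (iu.val * iu.val - 1) * hiu2)
  have hone : iu ^ 2 ≠ 1 := fun h => h2 (by
    have := congrArg Units.val h; push_cast at this; linear_combination hiu2 - this)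
  have hordiu : orderOf iu = 4 := by
    haveI : Fact (Nat.Prime 2) := ⟨Nat.prime_two⟩
    exact orderOf_eq_prime_pow (p := 2) (n := 1) hone hiu4
  have hμ : ∀ g, g ∈ μ ↔ ∃ c : Fˣ, c ^ 4 = 1 ∧ g = sc c := by
    intro g
    constructor
    · rintro ⟨c, hc, rfl⟩
      obtain ⟨k, rfl⟩ := hc
      refine ⟨iu ^ k, ?_, rfl⟩
      rw [← zpow_natCast, ← zpow_mul, mul_comm, zpow_mul, zpow_natCast, hiu4, one_zpow]
    · rintro ⟨c, hc, rfl⟩
      refine ⟨c, ?_, rfl⟩
      rcases roots_four hi (show (c : F) ^ 4 = 1 by simpa using congrArg Units.val hc) with h | h | h | h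
      · exact ⟨0, Units.ext (by simp [h])⟩
      · exact ⟨2, Units.ext (by simp only [zpow_two, Units.val_mul, hiu2, h])⟩
      · exact ⟨1, Units.ext (by simp [h, iu])⟩
      · refine ⟨3, Units.ext ?_⟩
        change ((iu ^ (3 : ℤ) : Fˣ) : F) = (c : F)
        rw [h, show (3:ℤ) = 2 + 1 from rfl, zpow_add, zpow_two, zpow_one, Units.val_mul, Units.val_mul, hiu2, neg_one_mul]
        rfl
  have hμcard : Nat.card μ = 4 := by
    rw [show Nat.card μ = Nat.card (Subgroup.zpowers iu) from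
      (Nat.card_congr ((Subgroup.zpowers iu).equivMapOfInjective _ (fun a b h => sc_inj h)).toEquiv).symm,
      Nat.card_zpowers, hordiu]
  let R : Subgroup (GL (Fin 4) F) :=
  { carrier := {g | ∃ x ∈ N, ∃ c : Fˣ, c ^ 4 = 1 ∧ g = x * sc c}
    mul_mem' := by
      rintro _ _ ⟨x, hx, c, hc, rfl⟩ ⟨y, hy, d, hd', rfl⟩
      refine ⟨x * y, mul_mem hx hy, c * d, by rw [mul_pow, hc, hd', one_mul], ?_⟩
      rw [sc_mul, mul_assoc x (sc c), ← mul_assoc (sc c) y, sc_comm c y]; simp only [mul_assoc]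
    one_mem' := ⟨1, one_mem _, 1, one_pow _, by simp [sc]⟩
    inv_mem' := by
      rintro _ ⟨x, hx, c, hc, rfl⟩
      refine ⟨x⁻¹, inv_mem hx, c⁻¹, by rw [inv_pow, hc, inv_one], ?_⟩
      rw [mul_inv_rev, show (sc c⁻¹ : GL (Fin 4) F) = (sc c)⁻¹ from map_inv _ _, ← show (sc c⁻¹ : GL (Fin 4) F) = (sc c)⁻¹ from map_inv _ _, sc_comm] }
  have hNR : N ≤ R := fun x hx => ⟨x, hx, 1, one_pow _, by simp [sc]⟩
  have hμR : μ ≤ R := fun g hg => by obtain ⟨c, hc, rfl⟩ := (hμ g).1 hg; exact ⟨1, one_mem _, c, hc, (one_mul _).symm⟩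
  have hRμ : ∀ g ∈ R, g ∈ scalars (Fin 4) F → g ∈ μ := by
    rintro _ ⟨x, hx, c, hc, rfl⟩ hg
    have hxs : x ∈ scalars (Fin 4) F := by simpa using mul_mem hg (inv_mem (sc_mem c))
    obtain ⟨d, hd'⟩ := mem_sc hxs
    exact (hμ _).2 ⟨d * c, by rw [mul_pow, hd.scalar_pow hx hd', hc, one_mul], by rw [sc_mul, hd']⟩
  obtain ⟨Q, hQ16, hQN, hQrep, hQsep⟩ := hd.reps
  have hRcard : Nat.card R = 64 := by
    let f : Q × μ → R := fun z => ⟨z.1.1 * z.2.1, mul_mem (hNR (hQN _ z.1.2)) (hμR z.2.2)⟩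
    have hf : Function.Bijective f := by
      constructor
      · rintro ⟨⟨r, hr⟩, a, ha⟩ ⟨⟨s, hs⟩, b, hb⟩ h
        have h' : r * a = s * b := congrArg Subtype.val h
        have hrs : r⁻¹ * s = a * b⁻¹ := by rw [eq_mul_inv_iff_mul_eq, mul_assoc, ← h', inv_mul_cancel_left]
        obtain ⟨ca, -, rfl⟩ := (hμ a).1 ha
        obtain ⟨cb, -, rfl⟩ := (hμ b).1 hb
        have := hQsep r hr s hs (by rw [hrs]; exact mul_mem (sc_mem _) (inv_mem (sc_mem _)))
        subst this
        have := mul_left_cancel h'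
        simp [this]
      · rintro ⟨g, hg⟩
        obtain ⟨x, hx, c, hc, rfl⟩ := hg
        obtain ⟨r, hr, hrx⟩ := hQrep x hx
        have h1 : r⁻¹ * (x * sc c) ∈ μ := hRμ _ (mul_mem (inv_mem (hNR (hQN r hr)))
          ⟨x, hx, c, hc, rfl⟩) (by rw [← mul_assoc]; exact mul_mem hrx (sc_mem c))
        exact ⟨(⟨r, hr⟩, ⟨_, h1⟩), Subtype.ext (mul_inv_cancel_left r _)⟩
    rw [← Nat.card_congr (Equiv.ofBijective f hf), Nat.card_prod, hμcard, Nat.card_eq_fintype_card,
      Fintype.card_coe, hQ16]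
  have hRpow : ∀ g ∈ R, g ^ 4 = 1 := by
    rintro _ ⟨x, hx, c, hc, rfl⟩
    rw [(show Commute x (sc c) from (sc_comm c x).symm).mul_pow, hd.pow_four hx, sc, ← map_pow, hc, map_one, one_mul]
  have hRns : ¬ R ≤ scalars (Fin 4) F := fun h => hd.ns (hNR.trans h)
  have habsR : ActsAbsolutelyIrreducibly (matrixSet R) :=
    ⟨fun W hW => hd.absIrr.1 W fun s hs => hW s (by obtain ⟨x, hx, rfl⟩ := hs; exact ⟨x, hNR hx, rfl⟩),
     fun M hM => hd.absIrr.2 M fun s hs => hM s (by obtain ⟨x, hx, rfl⟩ := hs; exact ⟨x, hNR hx, rfl⟩)⟩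
  have hZ : Nat.card (Subgroup.center R) = 4 := by
    refine Eq.trans ?_ hμcard
    refine Nat.card_congr
      { toFun := fun g => ⟨g.1.1, ?_⟩
        invFun := fun g => ⟨⟨g.1, hμR g.2⟩, ?_⟩
        left_inv := fun g => rfl
        right_inv := fun g => rfl }
    · obtain ⟨c, hc⟩ := habsR.2 (g.1.1 : Matrix (Fin 4) (Fin 4) F) (by
        rintro _ ⟨y, hy, rfl⟩
        have := congrArg Subtype.val (Subgroup.mem_center_iff.1 g.2 ⟨y, hy⟩)
        exact (congrArg Units.val this).symm)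
      exact hRμ _ g.1.2 (scalar_of_val hc)
    · obtain ⟨c, -, hc⟩ := (hμ _).1 g.2
      rw [Subgroup.mem_center_iff]
      intro y
      refine Subtype.ext ?_
      change y.1 * g.1 = g.1 * y.1
      rw [hc, sc_comm]
  have hexp : Monoid.exponent R = 2 * Nat.gcd 2 2 := by
    refine Nat.dvd_antisymm (Monoid.exponent_dvd_of_forall_pow_eq_one fun g => Subtype.ext (hRpow g.1 g.2)) ?_
    have hm : (sc iu : GL (Fin 4) F) ∈ R := hμR ((hμ _).2 ⟨iu, hiu4, rfl⟩)
    have h1 : orderOf (⟨sc iu, hm⟩ : R) = 4 := by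
      rw [← Subgroup.orderOf_coe]; change orderOf (sc iu : GL (Fin 4) F) = 4
      exact (orderOf_injective _ (fun a b h => sc_inj h) iu).trans hordiu
    have h3 := Monoid.order_dvd_exponent (⟨sc iu, hm⟩ : R)
    rw [h1] at h3
    exact h3
  -- `1 + Y` normalises `R`
  have conjmem : ∀ Y : GL (Fin 4) F, Y ∈ R → Y ∉ scalars (Fin 4) F → (Y : Matrix (Fin 4) (Fin 4) F) * Y = (-1 : F) • 1 →
      ∀ g : GL (Fin 4) F, (g : Matrix (Fin 4) (Fin 4) F) = 1 + Y → ∀ r ∈ R,
        g * r * g⁻¹ ∈ R ∧ ((r : Matrix (Fin 4) (Fin 4) F) * Y = -((Y : Matrix (Fin 4) (Fin 4) F) * r) → g * r * g⁻¹ = Y * r) := by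
    intro Y hY hYs hY2 g hg r hr
    obtain ⟨x, hx, c, hc, rfl⟩ := hr
    obtain ⟨y, hy, d, hd', rfl⟩ := hY
    obtain ⟨e, he⟩ := (mem_scalars_iff _).1 (hd.comm x hx y hy)
    have hxy : (x : Matrix (Fin 4) (Fin 4) F) * y = (e : F) • ((y : Matrix (Fin 4) (Fin 4) F) * x) := by
      calc (x : Matrix (Fin 4) (Fin 4) F) * y
          = ((x * y * x⁻¹ * y⁻¹ : GL (Fin 4) F) : Matrix (Fin 4) (Fin 4) F) * ((y : Matrix (Fin 4) (Fin 4) F) * x) := by
            rw [← Units.val_mul, ← Units.val_mul, ← Units.val_mul]; congr 1; group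
        _ = _ := by rw [he, Matrix.smul_mul, one_mul]
    have hrY : ((x * sc c : GL (Fin 4) F) : Matrix (Fin 4) (Fin 4) F) * ((y * sc d : GL (Fin 4) F) : Matrix (Fin 4) (Fin 4) F)
        = (e : F) • (((y * sc d : GL (Fin 4) F) : Matrix (Fin 4) (Fin 4) F) * ((x * sc c : GL (Fin 4) F) : Matrix (Fin 4) (Fin 4) F)) := by
      simp only [Units.val_mul, sc_val, Matrix.mul_smul, Matrix.smul_mul, mul_one, hxy, smul_smul]
      congr 1; ring
    set r := x * sc c
    set Y := y * sc d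
    have he2 : (e : F) = 1 ∨ (e : F) = -1 := by
      refine sq_eq_one_iff.1 ?_
      have h1 : (r : Matrix (Fin 4) (Fin 4) F) * ((Y : Matrix (Fin 4) (Fin 4) F) * Y)
          = ((e : F) ^ 2) • (((Y : Matrix (Fin 4) (Fin 4) F) * Y) * r) := by
        rw [← mul_assoc, hrY, Matrix.smul_mul, mul_assoc, hrY, Matrix.mul_smul, smul_smul, ← mul_assoc, ← _root_.sq]
      rw [hY2, Matrix.mul_smul, mul_one, Matrix.smul_mul, one_mul, smul_smul] at h1
      by_contra hne
      have h2' : ((-1 : F) - (e:F) ^ 2 * -1) • (r : Matrix (Fin 4) (Fin 4) F) = 0 := by rw [sub_smul, h1, sub_self]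
      rcases smul_eq_zero.1 h2' with h | h
      · exact hne (by linear_combination h)
      · exact r.ne_zero h
    rcases he2 with h1 | h1
    · rw [h1, one_smul] at hrY
      refine ⟨?_, fun hanti => ?_⟩
      · have : g * r * g⁻¹ = r := by
          rw [mul_inv_eq_iff_eq_mul]
          refine Units.ext ?_
          rw [Units.val_mul g r, Units.val_mul r g, hg, add_mul, mul_add, one_mul, mul_one, hrY]
        rw [this]; exact ⟨x, hx, c, hc, rfl⟩
      · exfalso
        rw [hrY] at hanti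
        have h3 : (2 : F) • ((Y : Matrix (Fin 4) (Fin 4) F) * r) = 0 := by rw [two_smul]; exact eq_neg_iff_add_eq_zero.1 hanti
        rcases smul_eq_zero.1 h3 with h | h
        · exact h2 h
        · exact (Y * r).ne_zero (by rw [Units.val_mul]; exact h)
    · rw [h1, neg_one_smul] at hrY
      have : g * r * g⁻¹ = Y * r := by
        rw [mul_inv_eq_iff_eq_mul]
        refine Units.ext ?_
        rw [Units.val_mul g r, Units.val_mul (Y * r) g, Units.val_mul Y r, hg, add_mul, mul_add, one_mul, mul_one, mul_assoc,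
          hrY, mul_neg, ← mul_assoc, hY2, Matrix.smul_mul, one_mul, neg_one_smul, neg_neg, add_comm]
      exact ⟨this ▸ mul_mem ⟨y, hy, d, hd', rfl⟩ ⟨x, hx, c, hc, rfl⟩, fun _ => this⟩
  have hchar : ∀ A : Subgroup R, A.Characteristic → IsMulCommutative A → IsCyclic A := by
    intro A hA hAc
    have hAs : ∀ a ∈ A, (a : GL (Fin 4) F) ∈ scalars (Fin 4) F := by
      intro a ha
      by_contra has
      obtain ⟨x, hx, c, hc, hac⟩ := a.2
      have hxs : x ∉ scalars (Fin 4) F := fun h => has (by rw [hac]; exact mul_mem h (sc_mem c))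
      obtain ⟨-, y, hy, hyx⟩ := hd.anti hx hxs
      have hys : y ∉ scalars (Fin 4) F := fun h => by
        obtain ⟨d, rfl⟩ := mem_sc h
        rw [← Units.val_mul, sc_comm, Units.val_mul, mul_assoc, ← Units.val_mul, mul_inv_cancel, Units.val_one,
          mul_one] at hyx
        have h3 : (2 : F) • (x : Matrix (Fin 4) (Fin 4) F) = 0 := by rw [two_smul]; exact eq_neg_iff_add_eq_zero.1 hyx
        rcases smul_eq_zero.1 h3 with h | h
        exacts [h2 h, x.ne_zero h]
      obtain ⟨Y, hYR, hYs, hY2, hanti⟩ : ∃ Y ∈ R, Y ∉ scalars (Fin 4) F ∧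
          (Y : Matrix (Fin 4) (Fin 4) F) * Y = (-1 : F) • 1 ∧
          (a.1 : Matrix (Fin 4) (Fin 4) F) * Y = -((Y : Matrix (Fin 4) (Fin 4) F) * a.1) := by
        have han : (x : Matrix (Fin 4) (Fin 4) F) * y = -((y : Matrix (Fin 4) (Fin 4) F) * x) := by
          have := congrArg (fun M => M * (y : Matrix (Fin 4) (Fin 4) F)) hyx
          simp only [mul_assoc, ← Units.val_mul, inv_mul_cancel, mul_one, neg_mul] at this
          rw [Units.val_mul, Units.val_mul] at this
          rw [this, neg_neg]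
        have gen : ∀ d : Fˣ, ((a.1 : Matrix (Fin 4) (Fin 4) F) * ((y * sc d : GL (Fin 4) F) : Matrix (Fin 4) (Fin 4) F))
            = -(((y * sc d : GL (Fin 4) F) : Matrix (Fin 4) (Fin 4) F) * a.1) := by
          intro d
          simp only [hac, Units.val_mul, sc_val, Matrix.mul_smul, Matrix.smul_mul, mul_one, han, smul_neg, smul_smul,
            mul_comm (c : F)]
        rcases hd.sq_sign hy hys with h | h
        · refine ⟨y * sc iu, ⟨y, hy, iu, hiu4, rfl⟩, fun h' => hys ?_, ?_, gen iu⟩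
          · simpa using mul_mem h' (inv_mem (sc_mem iu))
          · simp [Units.val_mul, sc_val, Matrix.mul_smul, Matrix.smul_mul, smul_smul, h, hiu2]
        · exact ⟨y, hNR hy, hys, h, by
            have := gen 1
            simpa [sc] using this⟩
      have hY'R : Y⁻¹ ∈ R := inv_mem hYR
      have hYinv : ((Y⁻¹ : GL (Fin 4) F) : Matrix (Fin 4) (Fin 4) F) = -(Y : Matrix (Fin 4) (Fin 4) F) := by
        have h1 : (Y : Matrix (Fin 4) (Fin 4) F) * -(Y : Matrix (Fin 4) (Fin 4) F) = 1 := by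
          rw [mul_neg, hY2, neg_one_smul, neg_neg]
        rw [← mul_one ((Y⁻¹ : GL (Fin 4) F) : Matrix (Fin 4) (Fin 4) F), ← h1, ← mul_assoc, ← Units.val_mul,
          inv_mul_cancel, Units.val_one, one_mul]
      let g : GL (Fin 4) F := ⟨1 + Y, (2 : F)⁻¹ • (1 - (Y : Matrix (Fin 4) (Fin 4) F)), by
          rw [Matrix.mul_smul, show (1 + (Y : Matrix (Fin 4) (Fin 4) F)) * (1 - Y) = (2 : F) • 1 by
            simp only [add_mul, mul_sub, one_mul, mul_one, hY2]; module,
            smul_smul, inv_mul_cancel₀ h2, one_smul], by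
          rw [Matrix.smul_mul, show (1 - (Y : Matrix (Fin 4) (Fin 4) F)) * (1 + Y) = (2 : F) • 1 by
            simp only [sub_mul, mul_add, one_mul, mul_one, hY2]; module,
            smul_smul, inv_mul_cancel₀ h2, one_smul]⟩
      let g' : GL (Fin 4) F := sc (Units.mk0 2 h2) * g⁻¹
      have hg' : (g' : Matrix (Fin 4) (Fin 4) F) = 1 + ((Y⁻¹ : GL (Fin 4) F) : Matrix (Fin 4) (Fin 4) F) := by
        simp only [g', Units.val_mul, sc_val, hYinv]
        change ((2:F) • (1 : Matrix (Fin 4) (Fin 4) F)) * ((2:F)⁻¹ • (1 - (Y : Matrix (Fin 4) (Fin 4) F))) = _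
        rw [Matrix.smul_mul, one_mul, smul_smul, mul_inv_cancel₀ h2, one_smul, sub_eq_add_neg]
      have hback : ∀ r ∈ R, g⁻¹ * r * g ∈ R := by
        intro r hr
        have h := (conjmem Y⁻¹ hY'R (fun h => hYs (by simpa using inv_mem h))
          (by rw [hYinv, neg_mul_neg, hY2]) g' hg' r hr).1
        have e : g' * r * g'⁻¹ = g⁻¹ * r * g := by
          simp only [g', mul_inv_rev, inv_inv]
          rw [mul_assoc (sc _), sc_comm, mul_assoc, mul_assoc, mul_assoc]
          simp [mul_assoc, ← mul_assoc (sc (Units.mk0 (2:F) h2)), sc_comm]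
        rwa [e] at h
      let θ : R ≃* R :=
      { toFun := fun r => ⟨g * r.1 * g⁻¹, (conjmem Y hYR hYs hY2 g rfl r.1 r.2).1⟩
        invFun := fun r => ⟨g⁻¹ * r.1 * g, hback r.1 r.2⟩
        left_inv := fun r => Subtype.ext (by simp [mul_assoc])
        right_inv := fun r => Subtype.ext (by simp [mul_assoc])
        map_mul' := fun r s => Subtype.ext (by simp [mul_assoc]) }
      have hθ : θ a ∈ A := by
        have := (Subgroup.characteristic_iff_map_le.1 hA) θ
        exact this ⟨a, ha, rfl⟩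
      have hcomm := congrArg (fun z : A => (z.1.1 : Matrix (Fin 4) (Fin 4) F))
        (hAc.is_comm.comm ⟨a, ha⟩ ⟨θ a, hθ⟩)
      have hθv : (θ a).1 = Y * a.1 := (conjmem Y hYR hYs hY2 g rfl a.1 a.2).2 hanti
      simp only [Subgroup.coe_mul, Units.val_mul, hθv] at hcomm
      rw [← mul_assoc, hanti, neg_mul] at hcomm
      have h3 : (2 : F) • ((Y : Matrix (Fin 4) (Fin 4) F) * a.1 * a.1) = 0 := by
        rw [two_smul]; exact eq_neg_iff_add_eq_zero.1 hcomm.symm
      rcases smul_eq_zero.1 h3 with h | h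
      · exact h2 h
      · exact (Y * a.1 * a.1).ne_zero (by simpa [Units.val_mul] using h)
    let f : A →* F :=
    { toFun := fun a => (a.1.1 : Matrix (Fin 4) (Fin 4) F) 0 0
      map_one' := by simp
      map_mul' := fun a b => by
        obtain ⟨c, hc⟩ := mem_sc (hAs _ a.2)
        simp only [Subgroup.coe_mul, Units.val_mul, hc, sc_val, Matrix.smul_mul, one_mul, Matrix.smul_apply,
          Matrix.one_apply_eq, smul_eq_mul, mul_one] }
    refine isCyclic_of_subgroup_isDomain f ?_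
    intro a b h
    obtain ⟨c, hc⟩ := mem_sc (hAs _ a.2)
    obtain ⟨d, hd'⟩ := mem_sc (hAs _ b.2)
    have : (c : F) = d := by simpa [f, hc, hd', sc_val] using h
    refine Subtype.ext (Subtype.ext ?_)
    rw [hc, hd', Units.ext this]
  haveI : Fact p.Prime := ⟨hp⟩
  refine ⟨p, R, hp, hq, hp4, ⟨⟨Nat.prime_two, fun g => ⟨2, Subtype.ext (hRpow g.1 g.2)⟩, hchar, hexp⟩, habsR,
    p, 1, by omega, ?_, Or.inr (Or.inl ⟨rfl, rfl, hZ, by simp, 2, by rw [hRcard]; norm_num⟩)⟩,
    hRcard.le, hRns, fun h hh => ?_⟩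
  · have hchp : CharP F p := by
      obtain ⟨p', hp'⟩ := CharP.exists F
      haveI : Fact p'.Prime := ⟨CharP.char_is_prime F p'⟩
      obtain ⟨n, -, hn⟩ := FiniteField.card F p'
      rw [hq] at hn
      have := (Nat.prime_dvd_prime_iff_eq (Fact.out : p'.Prime) hp).1 (hn ▸ dvd_pow_self p' n.ne_zero)
      exact this ▸ hp'
    refine ⟨hp, hchp, by rw [pow_one, hq], ?_, fun d h1 h2 => by omega⟩
    rw [hZ, pow_one]; omega
  · rw [subgroupNormalizer, Subgroup.mem_normalizer_iff]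
    have key : ∀ h ∈ H, ∀ r ∈ R, h * r * h⁻¹ ∈ R := by
      rintro h hh _ ⟨x, hx, c, hc, rfl⟩
      exact ⟨h * x * h⁻¹, hd.normed h hh x hx, c, hc, by
        rw [mul_assoc (h * x) h⁻¹, ← sc_comm c h⁻¹]; simp only [mul_assoc]⟩
    exact fun r => ⟨key h hh r, fun hr => by simpa [mul_assoc] using key h⁻¹ (inv_mem hh) _ hr⟩

end Cfsg.Agent.Lib.SL4Max
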