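import Cfsg.Prelude.Def_GeometricClasses

/-!
# SL₄ maximal subgroups: transvections and properness of the geometric stabilisers
-/

set_option autoImplicit false
set_option linter.unusedSectionVars false

namespace Cfsg.Agent.Lib.SL4Max

open Cfsg Cfsg.Geo
open scoped Matrix

variable {F : Type*} [Field F]

theorem mem_sl {g : GL (Fin 4) F} : g ∈ specialLinear (Fin 4) F ↔ (g : Matrix (Fin 4) (Fin 4) F).det = 1 := by
  simp [specialLinear, MonoidHom.mem_ker, Units.ext_iff]

theorem mv_mul (g h : GL (Fin 4) F) (v : Fin 4 → F) :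
    ((g * h : GL (Fin 4) F) : Matrix (Fin 4) (Fin 4) F) *ᵥ v
      = (g : Matrix (Fin 4) (Fin 4) F) *ᵥ ((h : Matrix (Fin 4) (Fin 4) F) *ᵥ v) := by
  rw [Units.val_mul, Matrix.mulVec_mulVec]

theorem mv_inv (g : GL (Fin 4) F) (v : Fin 4 → F) :
    ((g⁻¹ : GL (Fin 4) F) : Matrix (Fin 4) (Fin 4) F) *ᵥ ((g : Matrix (Fin 4) (Fin 4) F) *ᵥ v) = v := by
  rw [← mv_mul]; simp

theorem mv_inv' (g : GL (Fin 4) F) (v : Fin 4 → F) :
    (g : Matrix (Fin 4) (Fin 4) F) *ᵥ (((g⁻¹ : GL (Fin 4) F) : Matrix (Fin 4) (Fin 4) F) *ᵥ v) = v := by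
  rw [← mv_mul]; simp

/-- A transvection moving `a` to `a + d` and fixing a given subspace containing `d`. -/
theorem exists_transvection (S : Submodule F (Fin 4 → F)) {a d : Fin 4 → F} (ha : a ∉ S) (hd : d ∈ S) :
    ∃ t ∈ specialLinear (Fin 4) F, (t : Matrix (Fin 4) (Fin 4) F) *ᵥ a = a + d ∧
      ∀ x ∈ S, (t : Matrix (Fin 4) (Fin 4) F) *ᵥ x = x := by
  obtain ⟨φ, hφ1, hφS⟩ := Submodule.exists_dual_map_eq_bot_of_notMem ha inferInstance
  have hS : ∀ x ∈ S, φ x = 0 := fun x hx => by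
    have : φ x ∈ S.map φ := ⟨x, hx, rfl⟩
    rwa [hφS, Submodule.mem_bot] at this
  set ψ : (Fin 4 → F) →ₗ[F] F := (φ a)⁻¹ • φ
  have hψa : ψ a = 1 := by simp [ψ, hφ1]
  set w : Fin 4 → F := fun i => ψ (Pi.single i 1)
  have hw : ∀ x, w ⬝ᵥ x = ψ x := by
    intro x
    conv_rhs => rw [pi_eq_sum_univ' x]
    simp only [map_sum, map_smul, smul_eq_mul, dotProduct, w]
    refine Finset.sum_congr rfl fun i _ => ?_
    rw [mul_comm]
  set M : Matrix (Fin 4) (Fin 4) F := 1 + Matrix.replicateCol Unit d * Matrix.replicateRow Unit w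
  have hdet : M.det = 1 := by
    rw [Matrix.det_one_add_replicateCol_mul_replicateRow, hw]
    simp [ψ, hS d hd]
  have hu : IsUnit M.det := by rw [hdet]; exact isUnit_one
  have hMx : ∀ x, M *ᵥ x = x + ψ x • d := by
    intro x
    rw [Matrix.add_mulVec, Matrix.one_mulVec, ← hw, ← Matrix.mulVec_mulVec]
    congr 1
    funext i
    simp [Matrix.mulVec, dotProduct, Matrix.replicateCol, Matrix.replicateRow, mul_comm]
  refine ⟨Matrix.GeneralLinearGroup.mk'' M hu, mem_sl.2 hdet, ?_, fun x hx => ?_⟩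
  · change M *ᵥ a = _
    rw [hMx, hψa, one_smul]
  · change M *ᵥ x = _
    rw [hMx]; simp [ψ, hS x hx]

theorem exists_sl_map {v u : Fin 4 → F} (hv : v ≠ 0) (hu : u ∉ Submodule.span F {v}) :
    ∃ t ∈ specialLinear (Fin 4) F, (t : Matrix (Fin 4) (Fin 4) F) *ᵥ v = u := by
  have hvS : v ∉ Submodule.span F {u - v} := by
    rw [Submodule.mem_span_singleton]
    rintro ⟨c, hc⟩
    rcases eq_or_ne c 0 with h | h
    · exact hv (by simpa [h] using hc.symm)
    · apply hu
      rw [Submodule.mem_span_singleton]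
      refine ⟨c⁻¹ + 1, ?_⟩
      have : u - v = c⁻¹ • v := by
        conv_rhs => rw [← hc]
        rw [smul_smul, inv_mul_cancel₀ h, one_smul]
      rw [add_smul, ← this, one_smul, sub_add_cancel]
  obtain ⟨t, ht, h1, -⟩ := exists_transvection _ hvS (Submodule.mem_span_singleton_self (u - v))
  exact ⟨t, ht, by rw [h1]; abel⟩

theorem exists_nmem (S : Submodule F (Fin 4 → F)) (h : S ≠ ⊤) : ∃ x, x ∉ S := by
  by_contra hc; push Not at hc
  exact h (eq_top_iff.2 fun x _ => hc x)

theorem finrank_span_singleton_le (v : Fin 4 → F) : Module.finrank F (Submodule.span F {v}) ≤ 1 := by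
  simpa using finrank_span_le_card (R := F) ({v} : Set (Fin 4 → F))

theorem not_sl_le_subspace (W : Submodule F (Fin 4 → F)) (h0 : W ≠ ⊥) (h1 : W ≠ ⊤) :
    ¬ specialLinear (Fin 4) F ≤ subspaceStabilizer W := by
  intro hle
  obtain ⟨v, hv, hv0⟩ := (Submodule.ne_bot_iff W).1 h0
  obtain ⟨u, hu⟩ := exists_nmem W h1
  have hus : u ∉ Submodule.span F {v} := fun hc => hu ((Submodule.span_singleton_le_iff_mem _ _).2 hv hc)
  obtain ⟨t, ht, htv⟩ := exists_sl_map hv0 hus
  apply hu
  have h := ((hle ht) v).1 hv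
  change (t : Matrix (Fin 4) (Fin 4) F) *ᵥ v ∈ (W : Set (Fin 4 → F)) at h
  rwa [htv] at h

theorem not_sl_le_decomposition {t m : ℕ} {D : Fin t → Submodule F (Fin 4 → F)} (hD : IsMDecomposition m D) :
    ¬ specialLinear (Fin 4) F ≤ decompositionStabilizer D := by
  intro hle
  have hne : ∀ i, D i ≠ ⊥ := fun i hc => by
    have := hD.finrank_eq i
    rw [hc, finrank_bot] at this
    exact absurd this.symm (Nat.pos_iff_ne_zero.1 hD.pos)
  have h0 : (⟨0, by have := hD.two_le; omega⟩ : Fin t) ≠ ⟨1, hD.two_le⟩ := by simp [Fin.ext_iff]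
  set i : Fin t := ⟨0, by have := hD.two_le; omega⟩
  set j : Fin t := ⟨1, hD.two_le⟩
  obtain ⟨v, hv, hv0⟩ := (Submodule.ne_bot_iff _).1 (hne i)
  obtain ⟨w, hw, hw0⟩ := (Submodule.ne_bot_iff _).1 (hne j)
  have key : ∀ l, v + w ∉ D l := by
    intro l hl
    by_cases hli : l = i
    · rw [hli] at hl
      have hw' : w ∈ D i := by simpa using (D i).sub_mem hl hv
      exact hw0 (Submodule.disjoint_def.1 (hD.indep.pairwiseDisjoint h0) w hw' hw)
    · by_cases hlj : l = j
      · rw [hlj] at hl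
        have hv' : v ∈ D j := by simpa using (D j).sub_mem hl hw
        exact hv0 (Submodule.disjoint_def.1 (hD.indep.pairwiseDisjoint h0) v hv hv')
      · have hvmem : v ∈ ⨆ (k : Fin t) (_ : k ≠ i), D k := by
          have h1 : v + w ∈ ⨆ (k : Fin t) (_ : k ≠ i), D k := Submodule.mem_iSup_of_mem l
            (Submodule.mem_iSup_of_mem hli hl)
          have h2 : w ∈ ⨆ (k : Fin t) (_ : k ≠ i), D k := Submodule.mem_iSup_of_mem j
            (Submodule.mem_iSup_of_mem (Ne.symm h0) hw)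
          simpa using Submodule.sub_mem _ h1 h2
        exact hv0 (Submodule.disjoint_def.1 (hD.indep i) v hv hvmem)
  have hus : v + w ∉ Submodule.span F {v} := fun hc =>
    key i ((Submodule.span_singleton_le_iff_mem _ _).2 hv hc)
  obtain ⟨g, hg, hgv⟩ := exists_sl_map hv0 hus
  obtain ⟨σ, hσ⟩ := hle hg
  apply key (σ i)
  rw [← hσ i]
  exact ⟨v, hv, by rw [Matrix.toLin'_apply]; exact hgv⟩

theorem exists_noneigen {k : Matrix (Fin 4) (Fin 4) F} (hk : ∀ c : F, k ≠ c • 1) :
    ∃ v : Fin 4 → F, v ≠ 0 ∧ k *ᵥ v ∉ Submodule.span F {v} := by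
  by_contra hc
  push Not at hc
  have h : ∀ v : Fin 4 → F, ∃ c : F, k *ᵥ v = c • v := by
    intro v
    rcases eq_or_ne v 0 with rfl | hv
    · exact ⟨0, by simp⟩
    · obtain ⟨c, h⟩ := Submodule.mem_span_singleton.1 (hc v hv)
      exact ⟨c, h.symm⟩
  choose c hc' using h
  have hd : ∀ i j, k j i = if j = i then c (Pi.single i 1) else 0 := by
    intro i j
    have := congrFun (hc' (Pi.single i 1)) j
    rw [Matrix.mulVec_single_one] at this
    simpa [Matrix.col, Pi.single_apply] using this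
  have hall : ∀ i, c (Pi.single i 1) = c (fun _ => (1:F)) := by
    intro i
    have := congrFun (hc' (fun _ => (1:F))) i
    simpa [Matrix.mulVec, dotProduct, hd] using this
  refine hk (c (fun _ => (1:F))) ?_
  ext j i
  rw [hd, hall]; simp [Matrix.one_apply]

/-- If SL₄ normalises a set of matrices with a non-scalar member, the set moves some vector almost everywhere. -/
theorem orbit_of_normalized {S : Set (Matrix (Fin 4) (Fin 4) F)} {k : Matrix (Fin 4) (Fin 4) F} (hk : k ∈ S)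
    (hks : ∀ c : F, k ≠ c • 1)
    (hn : ∀ t ∈ specialLinear (Fin 4) F, ∀ s ∈ S,
      (t : Matrix (Fin 4) (Fin 4) F) * s * ((t⁻¹ : GL (Fin 4) F) : Matrix (Fin 4) (Fin 4) F) ∈ S) :
    ∃ (v : Fin 4 → F) (U : Submodule F (Fin 4 → F)), Module.finrank F U ≤ 2 ∧
      ∀ b, b ∉ U → ∃ s ∈ S, s *ᵥ v = b := by
  classical
  obtain ⟨v, hv, hkv⟩ := exists_noneigen hks
  refine ⟨v, Submodule.span F {v, k *ᵥ v}, ?_, fun b hb => ?_⟩
  · have := finrank_span_le_card (R := F) ({v, k *ᵥ v} : Set (Fin 4 → F))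
    refine this.trans ?_
    simp [Finset.card_le_two]
  · set a := k *ᵥ v
    have haS : a ∉ Submodule.span F {v, b - a} := by
      intro h
      obtain ⟨x, y, hxy⟩ := Submodule.mem_span_pair.1 h
      rcases eq_or_ne y 0 with hy | hy
      · exact hkv (Submodule.mem_span_singleton.2 ⟨x, by simpa [hy] using hxy⟩)
      · apply hb
        refine Submodule.mem_span_pair.2 ⟨-(y⁻¹ * x), y⁻¹ + 1, ?_⟩
        have : b - a = y⁻¹ • (a - x • v) := by
          have e : a - x • v = y • (b - a) := by rw [sub_eq_iff_eq_add', hxy]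
          rw [e, smul_smul, inv_mul_cancel₀ hy, one_smul]
        calc (-(y⁻¹ * x)) • v + (y⁻¹ + 1) • a = y⁻¹ • (a - x • v) + a := by module
          _ = b := by rw [← this]; abel
    obtain ⟨t, ht, h1, h2⟩ := exists_transvection _ haS
      (Submodule.subset_span (Set.mem_insert_of_mem v rfl))
    refine ⟨_, hn t ht k hk, ?_⟩
    have hvfix := h2 v (Submodule.subset_span (Set.mem_insert v _))
    have hinv : ((t⁻¹ : GL (Fin 4) F) : Matrix (Fin 4) (Fin 4) F) *ᵥ v = v := by
      nth_rw 1 [← hvfix]; exact mv_inv t v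
    rw [← Matrix.mulVec_mulVec, ← Matrix.mulVec_mulVec, hinv, h1]; abel

theorem not_sl_le_subalgebra {K : Subalgebra F (Matrix (Fin 4) (Fin 4) F)} (hK : IsFieldSubalgebra 2 K) :
    ¬ specialLinear (Fin 4) F ≤ subalgebraNormalizer K := by
  intro hle
  have hex : ∃ k ∈ K, ∀ c : F, k ≠ c • 1 := by
    by_contra hc; push Not at hc
    have hbot : K = ⊥ := eq_bot_iff.2 fun k hk => by
      obtain ⟨c, rfl⟩ := hc k hk
      exact Subalgebra.smul_mem _ (one_mem _) c
    have h := hK.finrank_eq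
    rw [hbot, Subalgebra.finrank_bot] at h
    omega
  obtain ⟨k, hk, hks⟩ := hex
  obtain ⟨v, U, hU, h⟩ := orbit_of_normalized (S := (K : Set (Matrix (Fin 4) (Fin 4) F))) hk hks
    (fun t ht s hs => ((hle ht) s).1 hs)
  set ev : Matrix (Fin 4) (Fin 4) F →ₗ[F] (Fin 4 → F) :=
    { toFun := fun M => M *ᵥ v
      map_add' := fun A B => Matrix.add_mulVec A B v
      map_smul' := fun c A => Matrix.smul_mulVec c A v }
  have hcover : (⊤ : Submodule F (Fin 4 → F)) ≤ (Subalgebra.toSubmodule K).map ev ⊔ U := by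
    intro b _
    by_cases hb : b ∈ U
    · exact Submodule.mem_sup_right hb
    · obtain ⟨s, hs, rfl⟩ := h b hb
      exact Submodule.mem_sup_left ⟨s, hs, rfl⟩
  have hUne : U ≠ ⊤ := by
    intro hc; rw [hc, finrank_top] at hU; simp at hU
  obtain ⟨x, hx⟩ := exists_nmem U hUne
  -- every coset of `U` through a vector outside is covered, so the image alone is everything
  have himg : (⊤ : Submodule F (Fin 4 → F)) ≤ (Subalgebra.toSubmodule K).map ev := by
    intro b _
    have key : ∀ b, b ∉ U → b ∈ (Subalgebra.toSubmodule K).map ev := fun b hb => by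
      obtain ⟨s, hs, rfl⟩ := h b hb; exact ⟨s, hs, rfl⟩
    by_cases hb : b ∈ U
    · have h1 : b + x ∉ U := fun hc => hx (by simpa using U.sub_mem hc hb)
      simpa using Submodule.sub_mem _ (key _ h1) (key _ hx)
    · exact key _ hb
  have h1 := Submodule.finrank_mono himg
  have h2 := Submodule.finrank_map_le ev (Subalgebra.toSubmodule K)
  have h3 : Module.finrank F (Subalgebra.toSubmodule K) = 2 := hK.finrank_eq
  rw [finrank_top] at h1; simp at h1; omega

theorem scalar_of_val {g : GL (Fin 4) F} {c : F} (h : (g : Matrix (Fin 4) (Fin 4) F) = c • 1) :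
    g ∈ scalars (Fin 4) F := by
  have hc : c ≠ 0 := by
    rintro rfl
    have : (g : Matrix (Fin 4) (Fin 4) F).det = 0 := by rw [h]; simp
    exact (g.isUnit.map Matrix.detMonoidHom).ne_zero this
  exact (mem_scalars_iff g).2 ⟨Units.mk0 c hc, h⟩

theorem not_sl_le_groupNormalizer [Fintype F] (h5 : 5 ≤ Fintype.card F) {R : Subgroup (GL (Fin 4) F)}
    (hR : Nat.card R ≤ 64) (hns : ¬ R ≤ scalars (Fin 4) F) :
    ¬ specialLinear (Fin 4) F ≤ subgroupNormalizer R := by
  intro hle
  obtain ⟨k, hk, hks⟩ := SetLike.not_le_iff_exists.1 hns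
  obtain ⟨v, U, hU, h⟩ := orbit_of_normalized (S := matrixSet R) ⟨k, hk, rfl⟩
    (fun c hc => hks (scalar_of_val hc)) (fun t ht s hs => by
      obtain ⟨g, hg, rfl⟩ := hs
      refine ⟨t * g * t⁻¹, ?_, by simp⟩
      exact ((Subgroup.mem_normalizer_iff).1 (hle ht) g).1 hg)
  classical
  have h2 : Set.ncard (Set.univ : Set (Fin 4 → F)) ≤
      Set.ncard ((fun s => s *ᵥ v) '' matrixSet R) + Set.ncard (U : Set (Fin 4 → F)) := by
    refine (Set.ncard_le_ncard ?_ (Set.toFinite _)).trans (Set.ncard_union_le _ _)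
    intro b _
    by_cases hb : b ∈ U
    · exact Or.inr hb
    · exact Or.inl (h b hb)
  have h3 : Set.ncard ((fun s => s *ᵥ v) '' matrixSet R) ≤ 64 := by
    refine (Set.ncard_image_le (Set.toFinite _)).trans ?_
    refine (Set.ncard_image_le (Set.toFinite _)).trans ?_
    rw [← Nat.card_coe_set_eq]; exact hR
  have h4 : Set.ncard (U : Set (Fin 4 → F)) ≤ Fintype.card F ^ 2 := by
    rw [← Nat.card_coe_set_eq]
    change Nat.card U ≤ _
    rw [Nat.card_eq_fintype_card, Module.card_eq_pow_finrank (K := F) (V := U)]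
    exact Nat.pow_le_pow_right Fintype.card_pos hU
  rw [Set.ncard_univ, Nat.card_eq_fintype_card] at h2
  simp only [Fintype.card_fun, Fintype.card_fin] at h2
  set q := Fintype.card F
  have : q ^ 4 ≤ 64 + q ^ 2 := by omega
  have h25 : 25 ≤ q ^ 2 := by
    calc 25 = 5 ^ 2 := by norm_num
      _ ≤ q ^ 2 := Nat.pow_le_pow_left h5 2
  nlinarith

theorem not_sl_le_subfield (F₀ : Subfield F) (hF₀ : F₀ ≠ ⊤) (P : GL (Fin 4) F) :
    ¬ specialLinear (Fin 4) F ≤ subfieldSubgroup F₀ P := by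
  intro hle
  obtain ⟨a, ha⟩ : ∃ a, a ∉ F₀ := by
    by_contra hc; push Not at hc
    exact hF₀ (eq_top_iff.2 fun x _ => hc x)
  set M : Matrix (Fin 4) (Fin 4) F := Matrix.transvection 0 1 a
  have hdet : M.det = 1 := Matrix.det_transvection_of_ne _ _ (by decide) a
  set g : GL (Fin 4) F := Matrix.GeneralLinearGroup.mk'' M (by rw [hdet]; exact isUnit_one)
  have hg : P * g * P⁻¹ ∈ specialLinear (Fin 4) F := by
    unfold specialLinear; rw [MonoidHom.mem_ker, map_mul, map_mul, map_inv]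
    have : Matrix.GeneralLinearGroup.det g = 1 := Units.ext hdet
    rw [this]; simp
  obtain ⟨y, hy, hyg⟩ := hle hg
  have hy' : y = g := by
    have : P * y * P⁻¹ = P * g * P⁻¹ := hyg
    simpa using this
  subst hy'
  obtain ⟨g₀, ⟨x, rfl⟩, s, hs, hgs⟩ := (Subgroup.mem_sup_of_normal_right (s := (Matrix.GeneralLinearGroup.map (F₀.subtype : F₀ →+* F)).range) (t := scalars (Fin 4) F)).1 hy
  obtain ⟨c, hc⟩ := (mem_scalars_iff s).1 hs
  have hent : ∀ i j, (c : F) * (x.val i j : F) = M i j := by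
    intro i j
    have := congrArg (fun z : GL (Fin 4) F => z.val i j) hgs
    simp only [Units.val_mul, hc] at this
    simpa [g, mul_comm] using this
  have h22 := hent 2 2
  have h01 := hent 0 1
  simp [M, Matrix.transvection, Matrix.single] at h22 h01
  apply ha
  have hcF : (c : F) ∈ F₀ := by
    have hx0 : (x.val 2 2 : F) ≠ 0 := fun h0 => by simp [h0] at h22
    rw [eq_inv_of_mul_eq_one_left h22]
    exact inv_mem (x.val 2 2).2
  rw [← h01]
  exact mul_mem hcF (x.val 0 1).2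

end Cfsg.Agent.Lib.SL4Max
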