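import Cfsg.Agent.Lib.SL4Max.Forms
import Cfsg.Agent.Lib.SL4Max.Basic

/-!
# SL₄ maximal subgroups: normalised commutative algebras give decompositions or fields
-/

set_option autoImplicit false
set_option linter.unusedSectionVars false

namespace Cfsg.Agent.Lib.SL4Max

open Cfsg Cfsg.Geo
open scoped Matrix

variable {F : Type*} [Field F]

/-- `H` preserves a decomposition into lines or planes. -/
def GDec (H : Subgroup (GL (Fin 4) F)) : Prop :=
  (∃ D : Fin 4 → Submodule F (Fin 4 → F), IsMDecomposition 1 D ∧ H ≤ decompositionStabilizer D) ∨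
  (∃ D : Fin 2 → Submodule F (Fin 4 → F), IsMDecomposition 2 D ∧ H ≤ decompositionStabilizer D)

/-- `H` normalises a quadratic field extension. -/
def GField (H : Subgroup (GL (Fin 4) F)) : Prop :=
  ∃ K : Subalgebra F (Matrix (Fin 4) (Fin 4) F), IsFieldSubalgebra 2 K ∧ H ≤ subalgebraNormalizer K

/-- Conjugation of a matrix. -/
abbrev cj (g : GL (Fin 4) F) (a : Matrix (Fin 4) (Fin 4) F) : Matrix (Fin 4) (Fin 4) F :=
  (g : Matrix (Fin 4) (Fin 4) F) * a * ((g⁻¹ : GL (Fin 4) F) : Matrix (Fin 4) (Fin 4) F)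

theorem cj_mul (g : GL (Fin 4) F) (a b : Matrix (Fin 4) (Fin 4) F) : cj g (a * b) = cj g a * cj g b := by
  simp [cj, mul_assoc]

theorem cj_inv_cj (g : GL (Fin 4) F) (a : Matrix (Fin 4) (Fin 4) F) : cj g (cj g⁻¹ a) = a := by
  simp [cj, mul_assoc]

theorem cj_inj (g : GL (Fin 4) F) {a b : Matrix (Fin 4) (Fin 4) F} (h : cj g a = cj g b) : a = b := by
  have := congrArg (cj g⁻¹) h
  simpa [cj, mul_assoc] using this

theorem cj_zero (g : GL (Fin 4) F) : cj g (0 : Matrix (Fin 4) (Fin 4) F) = 0 := by simp [cj]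

theorem cj_one (g : GL (Fin 4) F) : cj g (1 : Matrix (Fin 4) (Fin 4) F) = 1 := by simp [cj]

theorem cj_pow (g : GL (Fin 4) F) (a : Matrix (Fin 4) (Fin 4) F) (n : ℕ) : cj g (a ^ n) = cj g a ^ n := by
  induction n with
  | zero => simp [cj]
  | succ n ih => rw [pow_succ, pow_succ, cj_mul, ih]

/-- Irreducibility of a subgroup, unfolded. -/
theorem irr_iff {H : Subgroup (GL (Fin 4) F)} : ActsIrreducibly (matrixSet H) ↔
    ∀ W : Submodule F (Fin 4 → F),
      (∀ h ∈ H, ∀ v ∈ W, (h : Matrix (Fin 4) (Fin 4) F) *ᵥ v ∈ W) → W = ⊥ ∨ W = ⊤ := by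
  constructor
  · intro hi W hW
    refine hi W ?_
    rintro _ ⟨h, hh, rfl⟩ _ ⟨v, hv, rfl⟩
    simpa using hW h hh v hv
  · intro hi W hW
    refine hi W fun h hh v hv => hW _ ⟨h, hh, rfl⟩ ⟨v, hv, ?_⟩
    simp

/-- The invariant subspace version of irreducibility for arbitrary sets. -/
def InvUnder (S : Set (Matrix (Fin 4) (Fin 4) F)) (W : Submodule F (Fin 4 → F)) : Prop :=
  ∀ s ∈ S, ∀ v ∈ W, s *ᵥ v ∈ W

theorem exists_idem_pow {M : Type*} [Monoid M] [Finite M] (x : M) : ∃ n, 0 < n ∧ x ^ n * x ^ n = x ^ n := by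
  obtain ⟨i, j, hij, h⟩ := Finite.exists_ne_map_eq_of_infinite (fun n : ℕ => x ^ n)
  wlog hlt : i < j generalizing i j
  · exact this j i hij.symm h.symm (by omega)
  have h' : x ^ i = x ^ j := h
  obtain ⟨d, hd, rfl⟩ : ∃ d, 0 < d ∧ j = i + d := ⟨j - i, by omega, by omega⟩
  have per : ∀ k a, i ≤ a → x ^ (a + k * d) = x ^ a := by
    intro k
    induction k with
    | zero => simp
    | succ k ih =>
      intro a ha
      obtain ⟨b, rfl⟩ := Nat.exists_eq_add_of_le ha
      rw [show i + b + (k + 1) * d = (i + d + b) + k * d by ring, ih _ (by omega), pow_add, ← h', ← pow_add]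
  refine ⟨(i + 1) * d, by positivity, ?_⟩
  rw [← pow_add]
  exact per (i + 1) _ (by nlinarith)

variable [Fintype F]

theorem sq_zero_eq_zero {H : Subgroup (GL (Fin 4) F)} (hirr : ActsIrreducibly (matrixSet H))
    (A : Subalgebra F (Matrix (Fin 4) (Fin 4) F)) (hc : ∀ x ∈ A, ∀ y ∈ A, x * y = y * x)
    (hn : ∀ h ∈ H, ∀ a ∈ A, cj h a ∈ A) {z : Matrix (Fin 4) (Fin 4) F} (hz : z ∈ A) (hzz : z * z = 0) : z = 0 := by
  classical
  -- a minimal non-zero invariant subspace
  have hex : ∃ n, ∃ W : Submodule F (Fin 4 → F), W ≠ ⊥ ∧ InvUnder (A : Set _) W ∧ Module.finrank F W = n :=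
    ⟨_, ⊤, top_ne_bot, fun _ _ _ _ => Submodule.mem_top, rfl⟩
  obtain ⟨W, hW0, hWi, hWn⟩ := Nat.find_spec hex
  have kill : ∀ u ∈ A, u * u = 0 → ∀ w ∈ W, u *ᵥ w = 0 := by
    intro u hu huu w hw
    have himg : InvUnder (A : Set _) (W.map (Matrix.toLin' u)) := by
      rintro s hs _ ⟨v, hv, rfl⟩
      exact ⟨s *ᵥ v, hWi s hs v hv, by simp [Matrix.mulVec_mulVec, hc u hu s hs]⟩
    have hle : W.map (Matrix.toLin' u) ≤ W := by
      rintro _ ⟨v, hv, rfl⟩; simpa using hWi u hu v hv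
    by_cases h0 : W.map (Matrix.toLin' u) = ⊥
    · have : u *ᵥ w ∈ W.map (Matrix.toLin' u) := ⟨w, hw, by simp⟩
      rw [h0] at this; simpa using this
    · have hge := Nat.find_min' hex ⟨_, h0, himg, rfl⟩
      have heq : W.map (Matrix.toLin' u) = W :=
        Submodule.eq_of_le_of_finrank_le hle (by rw [hWn]; exact hge)
      obtain ⟨v, hv, hvw⟩ := (heq.ge hw : w ∈ W.map (Matrix.toLin' u))
      rw [← hvw, Matrix.toLin'_apply, Matrix.mulVec_mulVec, huu, Matrix.zero_mulVec]
  let W' : Submodule F (Fin 4 → F) :=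
  { carrier := {v | ∀ u ∈ A, u * u = 0 → u *ᵥ v = 0}
    add_mem' := fun {a b} ha hb u hu huu => by rw [Matrix.mulVec_add, ha u hu huu, hb u hu huu, add_zero]
    zero_mem' := fun u _ _ => Matrix.mulVec_zero u
    smul_mem' := fun c a ha u hu huu => by rw [Matrix.mulVec_smul, ha u hu huu, smul_zero] }
  have hle : W ≤ W' := fun w hw u hu huu => kill u hu huu w hw
  rcases (irr_iff.1 hirr) W' (fun h hh v hv u hu huu => by
    have h1 : cj h⁻¹ u ∈ A := hn _ (inv_mem hh) u hu
    have h2 : cj h⁻¹ u * cj h⁻¹ u = 0 := by rw [← cj_mul, huu, cj_zero]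
    have h3 := congrArg (fun x => (h : Matrix (Fin 4) (Fin 4) F) *ᵥ x) (hv _ h1 h2)
    simpa [cj, Matrix.mulVec_mulVec, ← mul_assoc] using h3) with h | h
  · exact absurd (le_bot_iff.1 (h ▸ hle)) hW0
  · refine Matrix.toLin'.injective (LinearMap.ext fun v => ?_)
    have : v ∈ W' := by rw [h]; exact Submodule.mem_top
    simpa using this z hz hzz

theorem card_fixed_pow {L : Type*} [Field L] [Fintype L] {Q : ℕ} (hQ : 2 ≤ Q)
    (hdvd : Q - 1 ∣ Fintype.card L - 1) : Set.ncard {x : L | x ^ Q = x} = Q := by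
  classical
  set K := (powMonoidHom (Q - 1) : Lˣ →* Lˣ).ker
  have hK : Nat.card K = Q - 1 := by
    rw [IsCyclic.card_powMonoidHom_ker, Nat.card_eq_fintype_card, Fintype.card_units]
    exact Nat.gcd_eq_right hdvd
  have hset : {x : L | x ^ Q = x} = insert 0 ((fun u : Lˣ => (u : L)) '' (K : Set Lˣ)) := by
    ext x
    rcases eq_or_ne x 0 with rfl | hx
    · simp [zero_pow (show Q ≠ 0 by omega)]
    · have e : x ^ Q = x ↔ x ^ (Q - 1) = 1 := by
        conv_lhs => rw [show Q = (Q - 1) + 1 by omega, pow_succ]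
        exact ⟨fun h => mul_right_cancel₀ hx (h.trans (one_mul x).symm), fun h => by rw [h, one_mul]⟩
      simp only [Set.mem_setOf_eq, Set.mem_insert_iff, hx, false_or, Set.mem_image, e]
      constructor
      · intro h
        exact ⟨Units.mk0 x hx, Units.ext (by simpa using h), rfl⟩
      · rintro ⟨u, hu, rfl⟩
        simpa using congrArg Units.val (show u ^ (Q - 1) = 1 from hu)
  rw [hset, Set.ncard_insert_of_notMem (by simp), Set.ncard_image_of_injective _ Units.val_injective,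
    ← Nat.card_coe_set_eq]
  change Nat.card K + 1 = Q
  omega

theorem field_case {H : Subgroup (GL (Fin 4) F)}
    (A : Subalgebra F (Matrix (Fin 4) (Fin 4) F)) (hc : ∀ x ∈ A, ∀ y ∈ A, x * y = y * x)
    (hn : ∀ h ∈ H, ∀ a ∈ A, cj h a ∈ A) (hns : ∃ a ∈ A, ∀ c : F, a ≠ c • 1)
    (hinv : ∀ x ∈ A, x ≠ 0 → ∃ y ∈ A, x * y = 1) : GField H := by
  classical
  have norm : ∀ K : Subalgebra F (Matrix (Fin 4) (Fin 4) F), (∀ h ∈ H, ∀ k ∈ K, cj h k ∈ K) →
      H ≤ subalgebraNormalizer K := fun K hK h hh k => ⟨hK h hh k, fun h1 => by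
    have := hK h⁻¹ (inv_mem hh) _ h1
    simpa [cj, mul_assoc] using this⟩
  have hF : IsField A := ⟨⟨0, 1, zero_ne_one⟩, fun x y => Subtype.ext (hc x x.2 y y.2), fun {x} hx => by
    obtain ⟨y, hy, hxy⟩ := hinv x.1 x.2 (fun h => hx (Subtype.ext h))
    exact ⟨⟨y, hy⟩, Subtype.ext hxy⟩⟩
  letI : Field A := hF.toField
  have hd1 : Module.finrank F A ≠ 1 := by
    intro h1
    obtain ⟨a, ha, has⟩ := hns
    obtain ⟨c, hcv⟩ := (finrank_eq_one_iff_of_nonzero' (1 : A) one_ne_zero).1 h1 ⟨a, ha⟩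
    exact has c (congrArg Subtype.val hcv).symm
  have hd4 : Module.finrank F A = 2 ∨ Module.finrank F A = 4 := by
    have inj : ∀ v : Fin 4 → F, v ≠ 0 → ∀ x ∈ A, x *ᵥ v = 0 → x = 0 := by
      intro v hv x hx hxv
      by_contra hx0
      obtain ⟨y, hy, hxy⟩ := hinv x hx hx0
      apply hv
      rw [← Matrix.one_mulVec v, ← hxy, hc x hx y hy, ← Matrix.mulVec_mulVec, hxv, Matrix.mulVec_zero]
    let ev : (Fin 4 → F) → A →ₗ[F] (Fin 4 → F) := fun v =>
      { toFun := fun x => (x : Matrix (Fin 4) (Fin 4) F) *ᵥ v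
        map_add' := fun x y => Matrix.add_mulVec _ _ v
        map_smul' := fun c x => Matrix.smul_mulVec c (x : Matrix (Fin 4) (Fin 4) F) v }
    have evinj : ∀ v, v ≠ 0 → Function.Injective (ev v) := fun v hv x y hxy => by
      refine Subtype.ext (sub_eq_zero.1 (inj v hv _ (sub_mem x.2 y.2) ?_))
      rw [Matrix.sub_mulVec]; exact sub_eq_zero.2 hxy
    obtain ⟨v, hv⟩ := exists_ne (0 : Fin 4 → F)
    have hfrv : Module.finrank F (LinearMap.range (ev v)) = Module.finrank F A :=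
      LinearMap.finrank_range_of_inj (evinj v hv)
    have hle : Module.finrank F A ≤ 4 := by
      rw [← hfrv]; exact (Submodule.finrank_le _).trans (by simp)
    have h0 : Module.finrank F A ≠ 0 := (Module.finrank_pos).ne'
    have h3 : Module.finrank F A ≠ 3 := by
      intro h3
      have hne : LinearMap.range (ev v) ≠ ⊤ := fun h => by rw [h, finrank_top] at hfrv; simp [h3] at hfrv
      obtain ⟨w, hw⟩ := exists_nmem _ hne
      have hw0 : w ≠ 0 := fun h => hw (h ▸ Submodule.zero_mem _)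
      have hdisj : LinearMap.range (ev v) ⊓ LinearMap.range (ev w) = ⊥ := by
        rw [Submodule.eq_bot_iff]
        rintro _ ⟨⟨a, rfl⟩, b, hb⟩
        by_contra hne0
        have hb0 : b.1 ≠ 0 := fun h => hne0 (by rw [← hb]; simp [ev, h])
        obtain ⟨c, hc', hbc⟩ := hinv b.1 b.2 hb0
        apply hw
        refine ⟨⟨c * a.1, mul_mem hc' a.2⟩, ?_⟩
        have hb' : b.1 *ᵥ w = a.1 *ᵥ v := hb
        change (c * a.1) *ᵥ v = w
        rw [← Matrix.mulVec_mulVec, ← hb', Matrix.mulVec_mulVec, hc c hc' b.1 b.2, hbc, Matrix.one_mulVec]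
      have := Submodule.finrank_sup_add_finrank_inf_eq (LinearMap.range (ev v)) (LinearMap.range (ev w))
      rw [hdisj, finrank_bot, hfrv, LinearMap.finrank_range_of_inj (evinj w hw0), h3] at this
      have := Submodule.finrank_le (LinearMap.range (ev v) ⊔ LinearMap.range (ev w))
      rw [Module.finrank_fin_fun] at this
      omega
    interval_cases h : Module.finrank F A <;> simp_all
  rcases hd4 with h2 | h4
  · exact ⟨A, ⟨hc, hinv, h2⟩, norm A hn⟩
  · set φ : A →ₐ[F] A := (FiniteField.frobeniusAlgHom F A).comp (FiniteField.frobeniusAlgHom F A)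
    set q := Fintype.card F
    have hq : 2 ≤ q := Fintype.one_lt_card
    have hφ : ∀ x : A, φ x = x ^ (q ^ 2) := fun x => by
      simp [φ, q, ← pow_mul, sq]
    set K₀ : Subalgebra F A := AlgHom.equalizer φ (AlgHom.id F A)
    set K := K₀.map A.val
    haveI : Fintype A := Fintype.ofFinite A
    have hcA : Fintype.card A = q ^ 4 := by rw [Module.card_eq_pow_finrank (K := F) (V := A), h4]
    have hcK : Nat.card K₀ = q ^ 2 := by
      have := card_fixed_pow (L := A) (Q := q ^ 2) (by nlinarith) (by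
        rw [hcA, show q ^ 4 = (q ^ 2) ^ 2 by ring]; exact Nat.sub_one_dvd_pow_sub_one (q ^ 2) 2)
      rw [← Nat.card_coe_set_eq] at this
      rw [← this]
      refine Nat.card_congr (Equiv.subtypeEquivRight fun x => ?_)
      change φ x = x ↔ x ^ q ^ 2 = x
      rw [hφ]
    have hK2 : Module.finrank F K₀ = 2 := by
      have := Nat.card_eq_fintype_card (α := F) ▸ (Module.natCard_eq_pow_finrank (K := F) (V := K₀))
      rw [hcK] at this
      exact (Nat.pow_right_injective hq this).symm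
    have hmem : ∀ x, x ∈ K ↔ x ∈ A ∧ x ^ (q ^ 2) = x := by
      intro x
      constructor
      · rintro ⟨y, hy, rfl⟩
        have hy' : φ y = y := hy
        rw [hφ] at hy'
        exact ⟨y.2, by simpa using congrArg Subtype.val hy'⟩
      · rintro ⟨hx, hxq⟩
        refine ⟨⟨x, hx⟩, ?_, rfl⟩
        change φ _ = _
        rw [hφ]; exact Subtype.ext (by simpa using hxq)
    refine ⟨K, ⟨fun x hx y hy => hc x ((hmem x).1 hx).1 y ((hmem y).1 hy).1, fun x hx hx0 => ?_, ?_⟩,
      norm K fun h hh k hk => ?_⟩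
    · obtain ⟨hxA, hxq⟩ := (hmem x).1 hx
      obtain ⟨y, hy, hxy⟩ := hinv x hxA hx0
      refine ⟨y, (hmem y).2 ⟨hy, ?_⟩, hxy⟩
      have h1 : x * y ^ (q ^ 2) = 1 := by
        nth_rw 1 [← hxq]
        rw [← (show Commute x y from hc x hxA y hy).mul_pow, hxy, one_pow]
      calc y ^ (q ^ 2) = (y * x) * y ^ (q ^ 2) := by rw [← hc x hxA y hy, hxy, one_mul]
        _ = y := by rw [mul_assoc, h1, mul_one]
    · rw [← hK2]
      exact (K₀.equivMapOfInjective A.val Subtype.val_injective).toLinearEquiv.finrank_eq.symm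
    · obtain ⟨hkA, hkq⟩ := (hmem k).1 hk
      exact (hmem _).2 ⟨hn h hh k hkA, by rw [← cj_pow, hkq]⟩

theorem comm_case {H : Subgroup (GL (Fin 4) F)} (hirr : ActsIrreducibly (matrixSet H))
    (A : Subalgebra F (Matrix (Fin 4) (Fin 4) F)) (hc : ∀ x ∈ A, ∀ y ∈ A, x * y = y * x)
    (hn : ∀ h ∈ H, ∀ a ∈ A, cj h a ∈ A) (hns : ∃ a ∈ A, ∀ c : F, a ≠ c • 1) : GDec H ∨ GField H := by
  classical
  let Id : Matrix (Fin 4) (Fin 4) F → Prop := fun e => e ∈ A ∧ e * e = e
  let Mn : Matrix (Fin 4) (Fin 4) F → Prop := fun e =>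
    Id e ∧ e ≠ 0 ∧ ∀ f, Id f → f * e = f → f = 0 ∨ f = e
  have red : ∀ x ∈ A, ∀ n, x ^ n = 0 → x = 0 := by
    intro x hx n
    induction n using Nat.strong_induction_on with
    | _ n ih =>
      intro hxn
      rcases Nat.lt_or_ge n 2 with h | h
      · interval_cases n
        · simp at hxn
        · simpa using hxn
      · refine ih (n - 1) (by omega) (sq_zero_eq_zero hirr A hc hn (pow_mem hx _) ?_)
        rw [← pow_add, show n - 1 + (n - 1) = n + (n - 2) by omega, pow_add, hxn, zero_mul]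
  have below : ∀ g, Id g → g ≠ 0 → ∃ e, Mn e ∧ e * g = e := by
    suffices h : ∀ n g, Id g → g ≠ 0 → {f | Id f ∧ f * g = f}.ncard = n → ∃ e, Mn e ∧ e * g = e from
      fun g hg hg0 => h _ g hg hg0 rfl
    intro n
    induction n using Nat.strong_induction_on with
    | _ n ih =>
      intro g hg hg0 hcard
      by_cases hm : Mn g
      · exact ⟨g, hm, hg.2⟩
      · have : ∃ f, Id f ∧ f * g = f ∧ f ≠ 0 ∧ f ≠ g := by
          by_contra hcon; push Not at hcon
          exact hm ⟨hg, hg0, fun f hf hfg => (em (f = 0)).imp id (hcon f hf hfg)⟩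
        obtain ⟨f, hf, hfg, hf0, hfne⟩ := this
        have hlt : {k | Id k ∧ k * f = k}.ncard < n := by
          rw [← hcard]
          refine Set.ncard_lt_ncard ⟨fun k hk => ⟨hk.1, by rw [← hk.2, mul_assoc, hfg]⟩, fun hsub => hfne ?_⟩
            (Set.toFinite _)
          have h1 := (hsub (⟨hg, hg.2⟩ : g ∈ {f | Id f ∧ f * g = f})).2
          rw [← hfg, hc f hf.1 g hg.1, h1]
        obtain ⟨e, he, hef⟩ := ih _ hlt f hf hf0 rfl
        exact ⟨e, he, by rw [← hef, mul_assoc, hfg]⟩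
  set E : Finset (Matrix (Fin 4) (Fin 4) F) := Finset.univ.filter Mn
  have memE : ∀ e, e ∈ E ↔ Mn e := fun e => by simp [E]
  set t := E.card
  obtain ⟨e, heinj, herange⟩ : ∃ e : Fin t → Matrix (Fin 4) (Fin 4) F, Function.Injective e ∧
      ∀ x, (∃ i, e i = x) ↔ Mn x := by
    refine ⟨fun i => (E.equivFin.symm i).1, fun a b h => E.equivFin.symm.injective (Subtype.ext h), fun x => ?_⟩
    rw [← memE]
    exact ⟨fun ⟨i, hi⟩ => hi ▸ (E.equivFin.symm i).2, fun hx => ⟨E.equivFin ⟨x, hx⟩, by simp⟩⟩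
  have he : ∀ i, Mn (e i) := fun i => (herange _).1 ⟨i, rfl⟩
  have orth : ∀ i j, i ≠ j → e i * e j = 0 := by
    intro i j hij
    obtain ⟨⟨ha, ha2⟩, -, hamin⟩ := he i
    obtain ⟨⟨hb, hb2⟩, -, hbmin⟩ := he j
    have hid : Id (e i * e j) := ⟨mul_mem ha hb, by
      rw [mul_assoc, ← mul_assoc (e j), hc _ hb _ ha, mul_assoc (e i) (e j), hb2, ← mul_assoc, ha2]⟩
    rcases hamin _ hid (by rw [mul_assoc, hc _ hb _ ha, ← mul_assoc, ha2]) with h | h
    · exact h
    · rcases hbmin _ hid (by rw [mul_assoc, hb2]) with h' | h'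
      · exact h'
      · exact absurd (heinj (h.symm.trans h')) hij
  have hsumA : ∑ i, e i ∈ A := sum_mem fun i _ => (he i).1.1
  have hsum_mul : ∀ j, (∑ i, e i) * e j = e j := by
    intro j
    rw [Finset.sum_mul, Finset.sum_eq_single j (fun i _ hij => orth i j hij) (by simp)]
    exact (he j).1.2
  have hsum : ∑ i, e i = 1 := by
    by_contra hne
    set g := 1 - ∑ i, e i
    have hgid : Id g := ⟨sub_mem (one_mem A) hsumA, by
      have : (∑ i, e i) * (∑ i, e i) = ∑ i, e i := by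
        conv_lhs => rw [Finset.mul_sum]
        exact Finset.sum_congr rfl fun j _ => hsum_mul j
      simp [g, sub_mul, mul_sub, this]⟩
    obtain ⟨f, hf, hfg⟩ := below g hgid (sub_ne_zero.2 (Ne.symm hne))
    obtain ⟨j, rfl⟩ := (herange f).2 hf
    apply hf.2.1
    rw [← hfg, hc _ hf.1.1 _ hgid.1]
    simp [g, sub_mul, hsum_mul]
  let D : Fin t → Submodule F (Fin 4 → F) := fun i => LinearMap.range (Matrix.toLin' (e i))
  have hself : ∀ i, ∀ v ∈ D i, e i *ᵥ v = v := by
    rintro i _ ⟨w, rfl⟩; simp [Matrix.mulVec_mulVec, (he i).1.2]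
  have hother : ∀ i j, i ≠ j → ∀ v ∈ D j, e i *ᵥ v = 0 := by
    rintro i j hij _ ⟨w, rfl⟩; simp [Matrix.mulVec_mulVec, orth i j hij]
  have hne : ∀ i, D i ≠ ⊥ := fun i h => (he i).2.1 <|
    Matrix.toLin'.injective (by rw [map_zero]; exact LinearMap.range_eq_bot.1 h)
  have hindep : iSupIndep D := fun i => Submodule.disjoint_def.2 fun v hv hv' => by
    have : v ∈ LinearMap.ker (Matrix.toLin' (e i)) :=
      (iSup₂_le fun j hj w hw => by simpa using hother i j (Ne.symm hj) w hw :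
        (⨆ (j : Fin t) (_ : j ≠ i), D j) ≤ LinearMap.ker (Matrix.toLin' (e i))) hv'
    rw [← hself i v hv]; simpa using this
  have htop : iSup D = ⊤ := eq_top_iff.2 fun v _ => by
    have : v = ∑ i, e i *ᵥ v := by rw [← Matrix.sum_mulVec, hsum, Matrix.one_mulVec]
    rw [this]
    exact Submodule.sum_mem _ fun i _ => Submodule.mem_iSup_of_mem i ⟨v, by simp⟩
  have hperm : ∀ h ∈ H, ∃ σ : Equiv.Perm (Fin t), ∀ i,
      (D i).map (Matrix.toLin' (h : Matrix (Fin 4) (Fin 4) F)) = D (σ i) := by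
    intro h hh
    have hM : ∀ x, Mn x → Mn (cj h x) := by
      rintro x ⟨⟨hx, hx2⟩, hx0, hmin⟩
      refine ⟨⟨hn h hh x hx, by rw [← cj_mul, hx2]⟩, fun h0 => hx0 (cj_inj h (h0.trans (cj_zero h).symm)),
        fun f hf hfe => ?_⟩
      have hf' : Id (cj h⁻¹ f) := ⟨hn _ (inv_mem hh) f hf.1, by rw [← cj_mul, hf.2]⟩
      rcases hmin _ hf' (cj_inj h (by rw [cj_mul, cj_inv_cj, hfe])) with h1 | h1
      · left; rw [← cj_inv_cj h f, h1, cj_zero]
      · right; rw [← cj_inv_cj h f, h1]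
    choose s hs using fun i => (herange (cj h (e i))).2 (hM _ (he i))
    have sinj : Function.Injective s := fun a b hab =>
      heinj (cj_inj h (by rw [← hs a, ← hs b, hab]))
    refine ⟨Equiv.ofBijective s (Finite.injective_iff_bijective.1 sinj), fun i => ?_⟩
    rw [Equiv.ofBijective_apply]
    simp only [D]
    rw [hs i, ← LinearMap.range_comp, ← Matrix.toLin'_mul]
    have : (h : Matrix (Fin 4) (Fin 4) F) * e i = cj h (e i) * (h : Matrix (Fin 4) (Fin 4) F) := by
      simp [cj, mul_assoc]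
    rw [this, Matrix.toLin'_mul, LinearMap.range_comp_of_range_eq_top]
    exact LinearMap.range_eq_top.2 fun w =>
      ⟨((h⁻¹ : GL (Fin 4) F) : Matrix (Fin 4) (Fin 4) F) *ᵥ w, by rw [Matrix.toLin'_apply]; exact mv_inv' h w⟩
  have hfr : ∀ i j, Module.finrank F (D i) = Module.finrank F (D j) := by
    intro i j
    by_contra hij
    let S : Set (Fin t) := {l | Module.finrank F (D l) = Module.finrank F (D i)}
    rcases (irr_iff.1 hirr) (⨆ (l : Fin t) (_ : l ∈ S), D l) (fun h hh v hv => by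
      obtain ⟨σ, hσ⟩ := hperm h hh
      have hle : (⨆ (l : Fin t) (_ : l ∈ S), D l).map (Matrix.toLin' (h : Matrix (Fin 4) (Fin 4) F)) ≤
          ⨆ (l : Fin t) (_ : l ∈ S), D l := by
        simp only [Submodule.map_iSup]
        refine iSup₂_le fun l hl => ?_
        rw [hσ l]
        refine le_iSup₂_of_le (σ l) ?_ le_rfl
        change Module.finrank F (D (σ l)) = Module.finrank F (D i)
        rw [← hσ l, ← hl]
        refine (Submodule.equivMapOfInjective _ ?_ (D l)).finrank_eq.symm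
        intro a b hab
        have := congrArg (fun w => ((h⁻¹ : GL (Fin 4) F) : Matrix (Fin 4) (Fin 4) F) *ᵥ w) hab
        simpa [Matrix.toLin'_apply, Matrix.mulVec_mulVec] using this
      exact hle ⟨v, hv, Matrix.toLin'_apply _ _⟩) with h | h
    · exact hne i (le_bot_iff.1 (h ▸ le_iSup₂_of_le i rfl le_rfl))
    · have hsub : (⨆ (l : Fin t) (_ : l ∈ S), D l) ≤ ⨆ (l : Fin t) (_ : l ≠ j), D l :=
        iSup₂_le fun l hl => le_iSup₂_of_le l (fun hlj => hij (hlj ▸ hl).symm) le_rfl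
      have := hindep j
      rw [h] at hsub
      exact hne j (disjoint_top.1 (top_le_iff.1 hsub ▸ this))
  have htot : ∑ i, Module.finrank F (D i) = 4 := by
    let L : (Fin 4 → F) →ₗ[F] (∀ i, D i) :=
      LinearMap.pi fun i => (Matrix.toLin' (e i)).codRestrict (D i) (fun v => ⟨v, rfl⟩)
    have hLb : Function.Bijective L := by
      constructor
      · intro a b hab
        have hi : ∀ i, e i *ᵥ a = e i *ᵥ b := fun i => congrArg Subtype.val (congrFun hab i)
        rw [← Matrix.one_mulVec a, ← Matrix.one_mulVec b, ← hsum, Matrix.sum_mulVec, Matrix.sum_mulVec]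
        exact Finset.sum_congr rfl fun i _ => hi i
      · intro w
        refine ⟨∑ j, (w j : Fin 4 → F), funext fun i => Subtype.ext ?_⟩
        change e i *ᵥ (∑ j, (w j : Fin 4 → F)) = _
        rw [Matrix.mulVec_sum]
        rw [Finset.sum_eq_single i (fun j _ hji => hother i j (Ne.symm hji) _ (w j).2) (by simp)]
        exact hself i _ (w i).2
    have := (LinearEquiv.ofBijective L hLb).finrank_eq
    rw [Module.finrank_fin_fun, Module.finrank_pi_fintype] at this
    exact this.symm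
  have ht0 : t ≠ 0 := by
    intro h0
    haveI : IsEmpty (Fin t) := by rw [h0]; infer_instance
    simp at htot
  by_cases ht1 : t = 1
  · right
    refine field_case A hc hn hns fun x hx hx0 => ?_
    obtain ⟨n, hn0, hxx⟩ := exists_idem_pow x
    have hid : Id (x ^ n) := ⟨pow_mem hx n, hxx⟩
    obtain ⟨f, hf, hfg⟩ := below _ hid (fun h0 => hx0 (red x hx n h0))
    obtain ⟨j, rfl⟩ := (herange f).2 hf
    have h1 : e j = 1 := by
      rw [← hsum, Finset.sum_eq_single j (fun i _ hij => by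
        exact absurd (Fin.ext (by have := i.2; have := j.2; omega)) hij) (by simp)]
    rw [h1, one_mul] at hfg
    refine ⟨x ^ (n - 1), pow_mem hx _, ?_⟩
    rw [← pow_succ', Nat.sub_add_cancel hn0, hfg]
  · left
    let i₀ : Fin t := ⟨0, by omega⟩
    have hm : t * Module.finrank F (D i₀) = 4 := by
      have h' := htot
      rw [Finset.sum_congr rfl (fun i _ => hfr i i₀)] at h'
      simpa using h'
    set m := Module.finrank F (D i₀)
    have hD : IsMDecomposition m D := ⟨by omega, Nat.pos_of_ne_zero (fun h => by simp [h] at hm),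
      fun i => hfr i i₀, hindep, htop⟩
    have hle : H ≤ decompositionStabilizer D := fun h hh => hperm h hh
    have htle : t ≤ 4 := Nat.le_of_dvd (by norm_num) ⟨m, hm.symm⟩
    have key : ∀ (s : ℕ) (D' : Fin s → Submodule F (Fin 4 → F)) (m' : ℕ), IsMDecomposition m' D' →
        H ≤ decompositionStabilizer D' → (s = 4 ∧ m' = 1 ∨ s = 2 ∧ m' = 2) → GDec H := by
      rintro s D' m' h1 h2 (⟨rfl, rfl⟩ | ⟨rfl, rfl⟩)
      · exact Or.inl ⟨D', h1, h2⟩
      · exact Or.inr ⟨D', h1, h2⟩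
    refine key t D m hD hle ?_
    have aux : ∀ a b : ℕ, a ≤ 4 → 2 ≤ a → a * b = 4 → (a = 4 ∧ b = 1 ∨ a = 2 ∧ b = 2) := by
      intro a b h1 h2 h3; interval_cases a <;> omega
    exact aux t m htle (by omega) hm

end Cfsg.Agent.Lib.SL4Max
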