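import Cfsg.Agent.Lib.SL4Max.Realise

/-!
# SL₄ maximal subgroups: the main case division
-/

set_option autoImplicit false
set_option linter.unusedSectionVars false
set_option maxHeartbeats 400000

namespace Cfsg.Agent.Lib.SL4Max

open Cfsg Cfsg.Geo
open scoped Matrix commutatorElement

variable {F : Type*} [Field F] [Fintype F]

theorem polar_le (Q : (Fin 4 → F) → F) :
    quadSimilarityGroup Q ≤ similarityGroup (QuadraticMap.polar Q) := by
  rintro g ⟨c, hc⟩
  refine ⟨c, fun u v => ?_⟩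
  simp only [QuadraticMap.polar, ← Matrix.mulVec_add, hc]; ring

theorem polar_self {Q : (Fin 4 → F) → F} (hQ : IsNondegenerateQuadraticForm Q) (v : Fin 4 → F) :
    QuadraticMap.polar Q v v = 2 * Q v := by
  simp only [QuadraticMap.polar, ← two_smul F v, hQ.smul]; ring

theorem polar_symp {Q : (Fin 4 → F) → F} (hQ : IsNondegenerateQuadraticForm Q) (h2 : (2 : F) = 0) :
    IsSymplecticForm (QuadraticMap.polar Q) := by
  refine ⟨hQ.polar_bilinear, fun v w => ?_, fun v => by rw [polar_self hQ, h2, zero_mul], hQ.nondegenerate⟩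
  rw [QuadraticMap.polar_comm]
  linear_combination QuadraticMap.polar Q w v * h2

theorem quad_upgrade {H P : Subgroup (GL (Fin 4) F)} (hn : Normed H P)
    (hP : ActsAbsolutelyIrreducibly (matrixSet P)) {Q : (Fin 4 → F) → F} (hQ : IsNondegenerateQuadraticForm Q)
    (hfix : FixesForm (matrixSet P) (QuadraticMap.polar Q)) : GQuad H ∨ GSymp H := by
  have hle := fixed_form_le (τ := RingEquiv.refl F) (fM_eq_gram _ _ hQ.polar_bilinear.add_left
    hQ.polar_bilinear.smul_left hQ.polar_bilinear.add_right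
    (fun c v x => by simpa using hQ.polar_bilinear.smul_right c v x)) hQ.nondegenerate hn hP hfix
  by_cases h2 : (2 : F) = 0
  · exact Or.inr ⟨_, polar_symp hQ h2, hle⟩
  · refine Or.inl ⟨Q, hQ, fun h hh => ?_⟩
    obtain ⟨c, hc⟩ := hle hh
    refine ⟨c, fun v => mul_left_cancel₀ h2 ?_⟩
    rw [← polar_self hQ, hc, polar_self hQ]; ring

theorem perfect_le_bot_perm4 {M : Subgroup (Equiv.Perm (Fin 4))} (hM : ⁅M, M⁆ = M) : M = ⊥ := by
  let V : Subgroup (Equiv.Perm (Fin 4)) :=
  { carrier := {σ | σ * σ = 1 ∧ Equiv.Perm.sign σ = 1}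
    mul_mem' := by
      have h : ∀ a b : Equiv.Perm (Fin 4), a * a = 1 ∧ Equiv.Perm.sign a = 1 → b * b = 1 ∧ Equiv.Perm.sign b = 1 →
          (a * b) * (a * b) = 1 ∧ Equiv.Perm.sign (a * b) = 1 := by decide +kernel
      exact fun {a b} ha hb => h a b ha hb
    one_mem' := by simp
    inv_mem' := fun {a} ha => by
      have : a⁻¹ = a := inv_eq_of_mul_eq_one_left ha.1
      rw [this]; exact ha }
  have h1 : M ≤ (Equiv.Perm.sign : Equiv.Perm (Fin 4) →* ℤˣ).ker := by
    rw [← hM, Subgroup.commutator_le]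
    intro a _ b _
    rw [MonoidHom.mem_ker, map_commutatorElement, commutatorElement_def, mul_right_comm (Equiv.Perm.sign a)]
    simp
  have h2 : M ≤ V := by
    rw [← hM, Subgroup.commutator_le]
    intro a ha b hb
    have h : ∀ a b : Equiv.Perm (Fin 4), Equiv.Perm.sign a = 1 → Equiv.Perm.sign b = 1 →
        (a * b * a⁻¹ * b⁻¹) * (a * b * a⁻¹ * b⁻¹) = 1 ∧ Equiv.Perm.sign (a * b * a⁻¹ * b⁻¹) = 1 := by decide +kernel
    exact h a b (h1 ha) (h1 hb)
  rw [eq_bot_iff, ← hM, Subgroup.commutator_le]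
  intro a ha b hb
  have h : ∀ a b : Equiv.Perm (Fin 4), a * a = 1 ∧ Equiv.Perm.sign a = 1 → b * b = 1 ∧ Equiv.Perm.sign b = 1 →
      a * b * a⁻¹ * b⁻¹ = 1 := by decide +kernel
  exact h a b (h2 ha) (h2 hb)

theorem perfect_le_bot_perm2 {M : Subgroup (Equiv.Perm (Fin 2))} (hM : ⁅M, M⁆ = M) : M = ⊥ := by
  rw [eq_bot_iff, ← hM, Subgroup.commutator_le]
  intro a _ b _
  have h : ∀ a b : Equiv.Perm (Fin 2), a * b * a⁻¹ * b⁻¹ = 1 := by decide +kernel
  exact h a b

theorem dec_perfect_false {t m : ℕ} {D : Fin t → Submodule F (Fin 4 → F)} (hD : IsMDecomposition m D)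
    (hsolv : ∀ M : Subgroup (Equiv.Perm (Fin t)), ⁅M, M⁆ = M → M = ⊥)
    {P : Subgroup (GL (Fin 4) F)} (hP : ⁅P, P⁆ = P) (hirr : ActsIrreducibly (matrixSet P))
    (hle : P ≤ decompositionStabilizer D) : False := by
  classical
  have hne : ∀ i, D i ≠ ⊥ := fun i hc => by
    have := hD.finrank_eq i
    rw [hc, finrank_bot] at this
    exact absurd this.symm (Nat.pos_iff_ne_zero.1 hD.pos)
  have hinj : Function.Injective D := fun i j h => by
    by_contra hij
    have h1 := hD.indep.pairwiseDisjoint hij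
    simp only [Function.onFun] at h1
    rw [h] at h1
    exact hne j (disjoint_self.1 h1)
  choose σ hσ using fun g : P => hle g.2
  let φ : P →* Equiv.Perm (Fin t) := MonoidHom.mk' σ fun a b => Equiv.ext fun i => hinj (by
    rw [← hσ (a * b) i, Subgroup.coe_mul, Units.val_mul, Matrix.toLin'_mul, Submodule.map_comp, hσ b i, hσ a]
    rfl)
  have htop : ⁅(⊤ : Subgroup P), (⊤ : Subgroup P)⁆ = ⊤ := by
    apply Subgroup.map_injective P.subtype_injective
    rw [Subgroup.map_commutator, ← MonoidHom.range_eq_map, Subgroup.range_subtype, hP]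
  have himg : (⊤ : Subgroup P).map φ = ⊥ := hsolv _ (by rw [← Subgroup.map_commutator, htop])
  have hfix : ∀ g : P, σ g = 1 := fun g => by
    have : φ g ∈ (⊤ : Subgroup P).map φ := ⟨g, trivial, rfl⟩
    rw [himg, Subgroup.mem_bot] at this
    exact this
  have h0 : 0 < t := by have := hD.two_le; omega
  rcases irr_iff.1 hirr (D ⟨0, h0⟩) (fun g hg v hv => by
    have h := hσ ⟨g, hg⟩ ⟨0, h0⟩
    rw [hfix] at h
    have : (g : Matrix (Fin 4) (Fin 4) F) *ᵥ v ∈ (D ⟨0, h0⟩).map (Matrix.toLin' (g : Matrix (Fin 4) (Fin 4) F)) :=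
      ⟨v, hv, by simp⟩
    rw [h] at this
    exact this) with h | h
  · exact hne _ h
  · have h1 := hD.indep.pairwiseDisjoint (show (⟨0, h0⟩ : Fin t) ≠ ⟨1, hD.two_le⟩ by simp [Fin.ext_iff])
    simp only [Function.onFun] at h1
    rw [h, top_disjoint] at h1
    exact hne _ h1

theorem field_perfect_false {P : Subgroup (GL (Fin 4) F)} (hP : ⁅P, P⁆ = P)
    (habs : ActsAbsolutelyIrreducibly (matrixSet P)) {K : Subalgebra F (Matrix (Fin 4) (Fin 4) F)}
    (hK : IsFieldSubalgebra 2 K) (hle : P ≤ subalgebraNormalizer K) : False := by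
  classical
  have hex : ∃ k ∈ K, ∀ c : F, k ≠ c • 1 := by
    by_contra hc; push Not at hc
    have hbot : K = ⊥ := eq_bot_iff.2 fun k hk => by
      obtain ⟨c, rfl⟩ := hc k hk
      exact Subalgebra.smul_mem _ (one_mem _) c
    have h := hK.finrank_eq
    rw [hbot, Subalgebra.finrank_bot] at h
    omega
  obtain ⟨k, hk, hks⟩ := hex
  have hli : LinearIndependent F ![(1 : K), ⟨k, hk⟩] := by
    rw [LinearIndependent.pair_iff' one_ne_zero]
    intro a ha
    exact hks a (congrArg Subtype.val ha).symm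
  have hspan := hli.span_eq_top_of_card_eq_finrank (by
    rw [Fintype.card_fin]; exact hK.finrank_eq.symm)
  have hmem : (⟨k * k, mul_mem hk hk⟩ : K) ∈ Submodule.span F (Set.range ![(1 : K), ⟨k, hk⟩]) := by
    rw [hspan]; exact Submodule.mem_top
  rw [Matrix.range_cons_cons_empty, Submodule.mem_span_pair] at hmem
  obtain ⟨b, a, hab⟩ := hmem
  have hkk : k * k = b • 1 + a • k := (congrArg Subtype.val hab).symm
  have two : ∀ g ∈ P, cj g k = k ∨ cj g k = a • 1 - k := by
    intro g hg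
    have hmemK : cj g k ∈ K := ((hle hg) k).1 hk
    have h1 : cj g k * cj g k = b • 1 + a • cj g k := by
      rw [← cj_mul, hkk]; simp [cj, mul_add, add_mul]
    by_cases h0 : cj g k - k = 0
    · exact Or.inl (sub_eq_zero.1 h0)
    · obtain ⟨y, hy, hxy⟩ := hK.inv _ (sub_mem hmemK hk) h0
      right
      have hprod : (cj g k - k) * (cj g k - (a • 1 - k)) = 0 := by
        have hc := hK.comm _ hk _ hmemK
        simp only [sub_mul, mul_sub, Matrix.mul_smul, mul_one, h1, hc, hkk]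
        abel
      have hc2 := hK.comm _ (sub_mem hmemK hk) _ hy
      refine sub_eq_zero.1 ?_
      calc cj g k - (a • 1 - k) = y * ((cj g k - k) * (cj g k - (a • 1 - k))) := by
            rw [← mul_assoc, ← hc2, hxy, one_mul]
        _ = 0 := by rw [hprod, mul_zero]
  have cja : ∀ g : GL (Fin 4) F, cj g (a • 1 - k) = a • 1 - cj g k := by
    intro g; simp [cj, mul_sub, sub_mul]
  let C : Subgroup (GL (Fin 4) F) :=
  { carrier := {g | cj g k = k}
    mul_mem' := fun {x y} hx hy => by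
      change cj (x * y) k = k
      have : cj (x * y) k = cj x (cj y k) := by simp [cj, mul_assoc]
      rw [this, show cj y k = k from hy]; exact hx
    one_mem' := by simp [cj]
    inv_mem' := fun {x} hx => by
      change cj x⁻¹ k = k
      conv_lhs => rw [← show cj x k = k from hx]
      simp [cj, mul_assoc] }
  have hcomm : P ≤ C := by
    rw [← hP, Subgroup.commutator_le]
    intro x hx y hy
    have hcomp : ∀ (u w : GL (Fin 4) F) m, cj (u * w) m = cj u (cj w m) := fun u w m => by simp [cj, mul_assoc]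
    change cj ⁅x, y⁆ k = k
    rw [commutatorElement_def, hcomp, hcomp, hcomp]
    have hinv : ∀ g ∈ P, cj g⁻¹ k = cj g k := by
      intro g hg
      apply cj_inj g
      rw [cj_inv_cj]
      rcases two g hg with h | h
      · rw [h, h]
      · rw [h, cja, h]; abel
    rw [hinv y hy]
    rcases two x hx with h1 | h1 <;> rcases two y hy with h2 | h2 <;>
      simp only [h1, h2, cja, hinv x hx, sub_sub_cancel]
  obtain ⟨c, hc⟩ := habs.2 k (by
    rintro _ ⟨g, hg, rfl⟩
    have h := hcomm hg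
    change k * (g : Matrix (Fin 4) (Fin 4) F) = (g : Matrix (Fin 4) (Fin 4) F) * k
    conv_lhs => rw [← show cj g k = k from h]
    simp [cj, mul_assoc])
  exact hks c hc

/-- The union of the geometric outcomes. -/
def Geom (H : Subgroup (GL (Fin 4) F)) : Prop :=
  GDec H ∨ GField H ∨ GQuad H ∨ GSymp H ∨ GUnit H ∨ GSub H ∨ GSix H

theorem normed_map {H N : Subgroup (GL (Fin 4) F)} : Normed H N ↔ ∀ h ∈ H, N.map (MulAut.conj h).toMonoidHom ≤ N :=
  ⟨fun hn h hh => by rintro _ ⟨x, hx, rfl⟩; exact hn h hh x hx, fun hm h hh x hx => hm h hh ⟨x, hx, rfl⟩⟩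

theorem normed_commutator {H A B : Subgroup (GL (Fin 4) F)} (ha : Normed H A) (hb : Normed H B) :
    Normed H ⁅A, B⁆ := normed_map.2 fun h hh => by
  rw [Subgroup.map_commutator]
  exact Subgroup.commutator_mono (normed_map.1 ha h hh) (normed_map.1 hb h hh)

theorem normed_sup {H A B : Subgroup (GL (Fin 4) F)} (ha : Normed H A) (hb : Normed H B) :
    Normed H (A ⊔ B) := normed_map.2 fun h hh => by
  rw [Subgroup.map_sup]
  exact sup_le_sup (normed_map.1 ha h hh) (normed_map.1 hb h hh)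

theorem comm_central {s t p r : GL (Fin 4) F} (hs : ∀ g, s * g = g * s) (ht : ∀ g, t * g = g * t) :
    ⁅s * p, t * r⁆ = ⁅p, r⁆ := by
  have cj : ∀ {u : GL (Fin 4) F}, (∀ g, u * g = g * u) → ∀ g x, u * g * x * (g⁻¹ * u⁻¹) = g * x * g⁻¹ := by
    intro u hu g x
    rw [show u * g * x * (g⁻¹ * u⁻¹) = u * (g * x * g⁻¹) * u⁻¹ by simp only [mul_assoc], hu, mul_inv_cancel_right]
  rw [commutatorElement_def, commutatorElement_def, mul_inv_rev, mul_inv_rev, cj hs p (t * r)]
  rw [show p * (t * r) * p⁻¹ * (r⁻¹ * t⁻¹) = p * (t * r * p⁻¹ * (r⁻¹ * t⁻¹)) by simp only [mul_assoc], cj ht r p⁻¹]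
  simp only [mul_assoc]

theorem normed_of_normal {P : Subgroup (GL (Fin 4) F)} (L : Subgroup P) (hL : L.Normal) :
    Normed P (L.map P.subtype) := by
  intro p hp x hx
  obtain ⟨y, hy, rfl⟩ := Subgroup.mem_map.1 hx
  refine Subgroup.mem_map.2 ⟨_, hL.conj_mem y hy ⟨p, hp⟩, ?_⟩
  rw [map_mul, map_mul, map_inv]
  simp only [Subgroup.subtype_apply]

theorem commutator_le_of_quot {G : Type*} [Group G] (P S : Subgroup G) [S.Normal]
    (hcomm : IsMulCommutative (P ⧸ S.subgroupOf P)) : ⁅P, P⁆ ≤ S := by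
  refine Subgroup.commutator_le.2 fun a ha b hb => ?_
  have h := hcomm.is_comm.comm (QuotientGroup.mk (s := S.subgroupOf P) ⟨a, ha⟩) (QuotientGroup.mk ⟨b, hb⟩)
  have h1 : QuotientGroup.mk' (S.subgroupOf P) ⁅(⟨a, ha⟩ : P), ⟨b, hb⟩⁆ = 1 := by
    rw [map_commutatorElement, commutatorElement_eq_one_iff_commute]; exact h
  have h2 := (QuotientGroup.ker_mk' (S.subgroupOf P)).le (MonoidHom.mem_ker.2 h1)
  simpa [Subgroup.mem_subgroupOf, commutatorElement_def] using h2

theorem residual_core {H P : Subgroup (GL (Fin 4) F)} (hle : P ≤ H) (hPn : Normed H P) (hPP : ⁅P, P⁆ = P)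
    (hPabs : ActsAbsolutelyIrreducibly (matrixSet P)) (hab : ¬ P ≤ scalars (Fin 4) F)
    (hkey : ∀ U, U ≤ P → scalars (Fin 4) F ⊓ P ≤ U → Normed P U → ¬ U ≤ scalars (Fin 4) F → U = P)
    (hsub : ∀ F₀ : Subfield F, F₀ ≠ ⊤ → ¬ RealisableOver F₀ (matrixSet P)) : IsResidualCore H P := by
  refine ⟨hle, hPn, hPP, ?_, ?_, ?_, hPabs, hsub⟩
  · haveI : Nontrivial (P ⧸ (scalars (Fin 4) F).subgroupOf P) := by
      obtain ⟨x, hx, hxs⟩ := SetLike.not_le_iff_exists.1 hab
      exact ⟨⟨QuotientGroup.mk ⟨x, hx⟩, 1, fun h => hxs (Subgroup.mem_subgroupOf.1 ((QuotientGroup.eq_one_iff (⟨x, hx⟩ : P)).1 h))⟩⟩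
    refine { eq_bot_or_eq_top_of_normal := fun K hK => ?_ }
    have hKn : (K.comap (QuotientGroup.mk' ((scalars (Fin 4) F).subgroupOf P))).Normal := hK.comap _
    let U := (K.comap (QuotientGroup.mk' ((scalars (Fin 4) F).subgroupOf P))).map P.subtype
    by_cases hUs : U ≤ scalars (Fin 4) F
    · left
      rw [eq_bot_iff]
      intro z hz
      obtain ⟨x, rfl⟩ := QuotientGroup.mk'_surjective _ z
      exact Subgroup.mem_bot.2 ((QuotientGroup.eq_one_iff x).2 (hUs ⟨x, hz, rfl⟩))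
    · right
      have hU := hkey U (by rintro _ ⟨x, -, rfl⟩; exact x.2) (fun s hs => ⟨⟨s, hs.2⟩, by
          change QuotientGroup.mk' _ _ ∈ K
          rw [show QuotientGroup.mk' ((scalars (Fin 4) F).subgroupOf P) ⟨s, hs.2⟩ = 1 from (QuotientGroup.eq_one_iff _).2 hs.1]
          exact one_mem K, rfl⟩)
        (normed_of_normal _ hKn) hUs
      rw [eq_top_iff]
      intro z _
      obtain ⟨x, rfl⟩ := QuotientGroup.mk'_surjective _ z
      have : (x : GL (Fin 4) F) ∈ U := by rw [hU]; exact x.2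
      obtain ⟨y, hy, hyx⟩ := this
      rw [← Subtype.ext (show y.1 = x.1 from hyx)]
      exact hy
  · intro hcomm
    apply hab
    rw [← hPP]
    exact commutator_le_of_quot P (scalars (Fin 4) F) hcomm
  · intro h hh hcen
    have hfix : P ≤ Subgroup.centralizer {h} := by
      rw [← hPP, Subgroup.commutator_le]
      intro a ha b hb
      rw [Subgroup.mem_centralizer_singleton_iff]
      have key : ∀ x ∈ P, ∃ e : Fˣ, h * x * h⁻¹ = sc e * x := fun x hx => by
        obtain ⟨e, he⟩ := mem_sc (hcen x hx); exact ⟨e, by rw [← he]; group⟩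
      obtain ⟨c, hc⟩ := key a ha
      obtain ⟨d, hd⟩ := key b hb
      have : h * ⁅a, b⁆ * h⁻¹ = ⁅a, b⁆ := by
        rw [← MulAut.conj_apply, map_commutatorElement, MulAut.conj_apply, MulAut.conj_apply, hc, hd,
          comm_central (sc_comm c) (sc_comm d)]
      exact (mul_inv_eq_iff_eq_mul.1 this).symm
    obtain ⟨c, hc⟩ := hPabs.2 (h : Matrix (Fin 4) (Fin 4) F) (by
      rintro _ ⟨x, hx, rfl⟩
      exact (congrArg Units.val (Subgroup.mem_centralizer_singleton_iff.1 (hfix hx))).symm)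
    exact scalar_of_val hc

theorem core {H : Subgroup (GL (Fin 4) F)} (hH : H ≤ specialLinear (Fin 4) F)
    (hirr : ActsIrreducibly (matrixSet H)) : Geom H ∨ InLinearResidualClass H := by
  classical
  set S := scalars (Fin 4) F
  have hscc : ∀ (s : GL (Fin 4) F), s ∈ S → ∀ g : GL (Fin 4) F, s * g = g * s := by
    intro s hs g; obtain ⟨c, rfl⟩ := mem_sc hs; exact sc_comm c g
  let Z0 := H ⊓ S
  have hZ0 : Normed H Z0 := fun h hh x hx => by
    rw [← hscc x hx.2 h]; simpa using hx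
  have hHns : ¬ H ≤ S := by
    intro hle
    rcases irr_iff.1 hirr (Submodule.span F {(Pi.single 0 1 : Fin 4 → F)}) (fun h hh v hv => by
      obtain ⟨c, rfl⟩ := mem_sc (hle hh)
      rw [sc_val, Matrix.smul_mulVec, Matrix.one_mulVec]; exact Submodule.smul_mem _ _ hv) with h | h
    · exact absurd (Submodule.span_singleton_eq_bot.1 h) (by simp)
    · have := finrank_span_singleton_le (F := F) (Pi.single 0 1)
      rw [h, finrank_top] at this; simp at this
  have hexN : ∃ n, ∃ N : Subgroup (GL (Fin 4) F), N ≤ H ∧ Z0 ≤ N ∧ ¬ N ≤ S ∧ Normed H N ∧ Nat.card N = n :=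
    ⟨_, H, le_rfl, inf_le_left, hHns, fun h hh x hx => mul_mem (mul_mem hh hx) (inv_mem hh), rfl⟩
  obtain ⟨N, hNH, hZN, hNns, hNn, hNcard⟩ := Nat.find_spec hexN
  have hmin : ∀ U, U ≤ N → Normed H U → ¬ U ≤ S → N ≤ U ⊔ S := by
    intro U hU hUn hUns
    have hle : U ⊔ Z0 ≤ N := sup_le hU hZN
    have heq : U ⊔ Z0 = N := Subgroup.eq_of_le_of_card_ge hle
      (hNcard ▸ Nat.find_min' hexN ⟨U ⊔ Z0, hle.trans hNH, le_sup_right, fun h => hUns (le_sup_left.trans h),
        normed_sup hUn hZ0, rfl⟩)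
    rw [← heq]; exact sup_le_sup_left inf_le_right U
  have outN : ∀ {X : Prop}, (GDec H ∨ GField H ∨ GQuad H ∨ X) → Geom H ∨ X := by
    rintro X (h | h | h | h)
    exacts [Or.inl (Or.inl h), Or.inl (Or.inr (Or.inl h)), Or.inl (Or.inr (Or.inr (Or.inl h))), Or.inr h]
  rcases outN (structure_case hirr hNn hNns) with hg | hNabs
  · exact Or.inl hg
  by_cases hab : ⁅N, N⁆ ≤ S
  · -- abelian modulo scalars
    left
    have hc : ∀ x ∈ N, ∀ y ∈ N, x * y * x⁻¹ * y⁻¹ ∈ S := fun x hx y hy => hab (Subgroup.commutator_mem_commutator hx hy)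
    have hsq : ∀ x ∈ N, x * x ∈ S := by
      let T := Subgroup.closure ((fun x => x * x) '' (N : Set (GL (Fin 4) F)))
      have hTN : T ≤ N := (Subgroup.closure_le _).2 (by rintro _ ⟨x, hx, rfl⟩; exact mul_mem hx hx)
      by_cases hT : T ≤ S
      · exact fun x hx => hT (Subgroup.subset_closure ⟨x, hx, rfl⟩)
      exfalso
      have hTn : Normed H T := normed_map.2 fun h hh => by
        rw [MonoidHom.map_closure]
        refine Subgroup.closure_mono ?_
        rintro _ ⟨_, ⟨x, hx, rfl⟩, rfl⟩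
        exact ⟨h * x * h⁻¹, hNn h hh x hx, by simp [mul_assoc]⟩
      have hsquare : ∀ x ∈ N, ∃ w ∈ N, (w * w)⁻¹ * x ∈ S := by
        let Sq : Subgroup (GL (Fin 4) F) :=
        { carrier := {x | ∃ w ∈ N, (w * w)⁻¹ * x ∈ S}
          mul_mem' := by
            rintro x y ⟨v, hv, hx⟩ ⟨w, hw, hy⟩
            refine ⟨v * w, mul_mem hv hw, ?_⟩
            have e : (v * w * (v * w))⁻¹ * (x * y)
                = w⁻¹ * (v⁻¹ * w⁻¹ * v * w) * w⁻¹ * ((v * v)⁻¹ * x) * y := by group
            have h1 : v⁻¹ * w⁻¹ * v * w ∈ S := by simpa using hc v⁻¹ (inv_mem hv) w⁻¹ (inv_mem hw)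
            rw [e, ← hscc _ h1 w⁻¹]
            have e2 : v⁻¹ * w⁻¹ * v * w * w⁻¹ * w⁻¹ * ((v * v)⁻¹ * x) * y
                = (v⁻¹ * w⁻¹ * v * w) * ((w⁻¹ * w⁻¹) * ((v * v)⁻¹ * x)) * y := by simp only [mul_assoc]
            rw [e2, ← hscc _ hx (w⁻¹ * w⁻¹), mul_assoc, mul_assoc ((v * v)⁻¹ * x), ← mul_inv_rev]
            exact mul_mem h1 (mul_mem hx hy)
          one_mem' := ⟨1, one_mem _, by simp [S]⟩
          inv_mem' := by
            rintro x ⟨v, hv, hx⟩
            refine ⟨v⁻¹, inv_mem hv, ?_⟩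
            have h3 := inv_mem hx
            have e : (v⁻¹ * v⁻¹)⁻¹ * x⁻¹ = (v * v) * (x⁻¹ * (v * v)) * (v * v)⁻¹ := by simp [mul_assoc]
            rw [e, ← hscc _ (show x⁻¹ * (v * v) ∈ S by simpa using h3) (v * v), mul_assoc, mul_inv_cancel, mul_one]
            simpa using h3 }
        have h1 : T ⊔ S ≤ Sq := sup_le ((Subgroup.closure_le _).2 (by
          rintro _ ⟨w, hw, rfl⟩; exact ⟨w, hw, by simp [S]⟩)) (fun s hs => ⟨1, one_mem _, by simpa using hs⟩)
        exact fun x hx => h1 (hmin T hTN hTn hT hx)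
      refine hNns fun x hx => ?_
      obtain ⟨v, hv, hxv⟩ := hsquare x hx
      obtain ⟨w, hw, hvw⟩ := hsquare v hv
      obtain ⟨c, hc'⟩ := hNabs.2 (x : Matrix (Fin 4) (Fin 4) F) (by
        rintro _ ⟨y, hy, rfl⟩
        obtain ⟨c, hc⟩ := mem_sc (hc y hy w hw)
        have h4 : c ^ 4 = 1 := by
          have hd := mem_sl.1 (hH (hNH (mul_mem (mul_mem (mul_mem hy hw) (inv_mem hy)) (inv_mem hw))))
          rw [hc, sc_val, Matrix.det_smul, Matrix.det_one, mul_one, Fintype.card_fin] at hd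
          exact Units.ext (by simpa using hd)
        have hw4 : Commute y (w ^ 4) := by
          have e : y * w * y⁻¹ = sc c * w := by rw [← hc]; simp
          have e2 : y * w ^ 4 * y⁻¹ = w ^ 4 := by
            rw [← conj_pow, e, (show Commute (sc c) w from sc_comm c w).mul_pow, sc, ← map_pow, h4, map_one, one_mul]
          exact mul_inv_eq_iff_eq_mul.1 e2
        have ew : x = w ^ 4 * (((w * w)⁻¹ * v) * ((w * w)⁻¹ * v) * ((v * v)⁻¹ * x)) := by
          have hv' : v = (w * w) * ((w * w)⁻¹ * v) := (mul_inv_cancel_left _ _).symm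
          generalize hz : (w * w)⁻¹ * v = z at hv' hvw
          have hzc := hscc z hvw (w * w)
          rw [hv']
          calc x = (w * w * z * (w * w * z)) * ((w * w * z * (w * w * z))⁻¹ * x) := (mul_inv_cancel_left _ _).symm
            _ = _ := by
              have : w * w * z * (w * w * z) = w ^ 4 * (z * z) := by
                rw [show w * w * z * (w * w * z) = w * w * (z * (w * w)) * z by simp only [mul_assoc], hzc]
                simp only [pow_succ, pow_zero, one_mul, mul_assoc]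
              rw [this]; simp only [mul_assoc]
        have hs : ((w * w)⁻¹ * v) * ((w * w)⁻¹ * v) * ((v * v)⁻¹ * x) ∈ S := mul_mem (mul_mem hvw hvw) hxv
        have hxy : y * x = x * y := by
          rw [ew, ← mul_assoc, hw4.eq, mul_assoc, ← hscc _ hs y]
          simp only [mul_assoc]
        exact (congrArg Units.val hxy).symm)
      exact scalar_of_val hc'
    have hd : AbData H N := ⟨hNn, hNH.trans hH, hNns, hNabs, hc, hsq⟩
    rcases abelian_case hd with h | h | h | h | h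
    · exact Or.inr (Or.inr (Or.inl h))
    · exact Or.inr (Or.inr (Or.inr (Or.inl h)))
    · exact Or.inr (Or.inr (Or.inr (Or.inr (Or.inl h))))
    · exact Or.inr (Or.inr (Or.inr (Or.inr (Or.inr (Or.inl h)))))
    · exact Or.inr (Or.inr (Or.inr (Or.inr (Or.inr (Or.inr h)))))
  -- perfect case
  set P := ⁅N, N⁆ with hPdef
  have hPN : P ≤ N := Subgroup.commutator_le.2 fun a ha b hb =>
    mul_mem (mul_mem (mul_mem ha hb) (inv_mem ha)) (inv_mem hb)
  have hPn : Normed H P := normed_commutator hNn hNn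
  have hNPS : N ≤ P ⊔ S := hmin P hPN hPn hab
  have hPP : ⁅P, P⁆ = P := by
    refine le_antisymm (Subgroup.commutator_le.2 fun a ha b hb =>
      mul_mem (mul_mem (mul_mem ha hb) (inv_mem ha)) (inv_mem hb)) ?_
    conv_lhs => rw [hPdef]
    refine Subgroup.commutator_le.2 fun a ha b hb => ?_
    obtain ⟨p, hp, s, hs, rfl⟩ := (Subgroup.mem_sup_of_normal_right (t := S)).1 (hNPS ha)
    obtain ⟨r, hr, t, ht, rfl⟩ := (Subgroup.mem_sup_of_normal_right (t := S)).1 (hNPS hb)
    have : ⁅p * s, r * t⁆ = ⁅p, r⁆ := by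
      rw [← hscc s hs p, ← hscc t ht r, comm_central (hscc s hs) (hscc t ht)]
    rw [this]
    exact Subgroup.commutator_mem_commutator hp hr
  rcases outN (structure_case hirr hPn hab) with hg | hPabs
  · exact Or.inl hg
  by_cases hsub : ∃ F₀ : Subfield F, F₀ ≠ ⊤ ∧ RealisableOver F₀ (matrixSet P)
  · obtain ⟨F₀, h0, h⟩ := hsub
    exact Or.inl (Or.inr (Or.inr (Or.inr (Or.inr (Or.inr (Or.inl (realisable_gsub hPn hPabs h0 h)))))))
  push Not at hsub
  by_cases hQ : ∃ Q : (Fin 4 → F) → F, IsNondegenerateQuadraticForm Q ∧ FixesQuadForm (matrixSet P) Q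
  · obtain ⟨Q, hQ, hfix⟩ := hQ
    rcases quad_upgrade hPn hPabs hQ (fun s hs u v => by
      simp [QuadraticMap.polar, ← Matrix.mulVec_add, hfix s hs]) with h | h
    · exact Or.inl (Or.inr (Or.inr (Or.inl h)))
    · exact Or.inl (Or.inr (Or.inr (Or.inr (Or.inl h))))
  by_cases hF : ∃ f : (Fin 4 → F) → (Fin 4 → F) → F, IsSymplecticForm f ∧ FixesForm (matrixSet P) f
  · obtain ⟨f, hf, hfix⟩ := hF
    exact Or.inl (Or.inr (Or.inr (Or.inr (Or.inl ⟨f, hf, fixed_form_le (τ := RingEquiv.refl F)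
      (fM_eq_gram _ _ hf.bilinear.add_left hf.bilinear.smul_left hf.bilinear.add_right
        (fun c v x => by simpa using hf.bilinear.smul_right c v x)) hf.nondegenerate hPn hPabs hfix⟩))))
  by_cases hU : ∃ (σ : F ≃+* F) (f : (Fin 4 → F) → (Fin 4 → F) → F), IsUnitaryForm σ f ∧ FixesForm (matrixSet P) f
  · obtain ⟨σ, f, hf, hfix⟩ := hU
    have ar : ∀ v x y, f v (x + y) = f v x + f v y := fun v x y => by
      rw [hf.herm, hf.add_left, map_add, ← hf.herm, ← hf.herm]
    have sr : ∀ (c : F) v x, f v (c • x) = σ c * f v x := fun c v x => by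
      rw [hf.herm, hf.smul_left, map_mul, ← hf.herm]
    exact Or.inl (Or.inr (Or.inr (Or.inr (Or.inr (Or.inl ⟨σ, f, hf, fixed_form_le (τ := σ)
      (fM_eq_gram _ _ hf.add_left hf.smul_left ar sr) hf.nondegenerate hPn hPabs hfix⟩)))))
  -- simplicity, or one more geometric case
  have hkey : Geom H ∨ ∀ U, U ≤ P → S ⊓ P ≤ U → Normed P U → ¬ U ≤ S → U = P := by
    by_cases hsimp : ∀ U, U ≤ P → S ⊓ P ≤ U → Normed P U → ¬ U ≤ S → U = P
    · exact Or.inr hsimp
    push Not at hsimp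
    obtain ⟨U₀, hU₀, hU₀Z, hU₀n, hU₀s, hU₀P⟩ := hsimp
    have hexM : ∃ n, ∃ M, M ≤ P ∧ S ⊓ P ≤ M ∧ Normed P M ∧ ¬ M ≤ S ∧ Nat.card M = n :=
      ⟨_, U₀, hU₀, hU₀Z, hU₀n, hU₀s, rfl⟩
    obtain ⟨M, hMP, hMZ, hMn, hMs, hMcard⟩ := Nat.find_spec hexM
    have hMne : M ≠ P := by
      intro h
      have h1 := Nat.find_min' hexM ⟨U₀, hU₀, hU₀Z, hU₀n, hU₀s, rfl⟩
      rw [← hMcard, h] at h1
      exact hU₀P (Subgroup.eq_of_le_of_card_ge hU₀ h1)
    let cM : GL (Fin 4) F → Subgroup (GL (Fin 4) F) := fun k => M.map (MulAut.conj k).toMonoidHom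
    have hcMmem : ∀ k x, x ∈ cM k ↔ k⁻¹ * x * k ∈ M := by
      intro k x
      constructor
      · rintro ⟨m, hm, rfl⟩; simpa [mul_assoc] using hm
      · intro h; exact ⟨_, h, by simp [mul_assoc]⟩
    have hcP : ∀ k ∈ H, cM k ≤ P := fun k hk => by rintro _ ⟨m, hm, rfl⟩; exact hPn k hk m (hMP hm)
    have hcn : ∀ k ∈ H, Normed P (cM k) := fun k hk p hp x hx => by
      rw [hcMmem] at hx ⊢
      have := hMn _ (hPn k⁻¹ (inv_mem hk) p hp) _ hx
      simpa [mul_assoc] using this
    have hdist : ∀ k ∈ H, cM k ≠ M → ∀ a ∈ M, ∀ b ∈ cM k, a * b * a⁻¹ * b⁻¹ ∈ S := by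
      intro k hk hne a ha b hb
      have hI : M ⊓ cM k ≤ S := by
        by_contra hns
        have h1 := Nat.find_min' hexM ⟨M ⊓ cM k, inf_le_left.trans hMP, le_inf hMZ (fun s hs => by
          rw [hcMmem, mul_assoc, hscc s hs.1 k, inv_mul_cancel_left]; exact hMZ hs),
          fun p hp x hx => ⟨hMn p hp x hx.1, hcn k hk p hp x hx.2⟩, hns, rfl⟩
        rw [← hMcard] at h1
        have h2 : M ⊓ cM k = M := Subgroup.eq_of_le_of_card_ge inf_le_left h1
        refine hne (Subgroup.eq_of_le_of_card_ge (inf_eq_left.1 h2) ?_).symm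
        rw [← Nat.card_congr (M.equivMapOfInjective (MulAut.conj k).toMonoidHom (MulAut.conj k).injective).toEquiv]
      refine hI (Subgroup.mem_inf.2 ⟨?_, ?_⟩)
      · rw [show a * b * a⁻¹ * b⁻¹ = a * (b * a⁻¹ * b⁻¹) by simp only [mul_assoc]]
        exact mul_mem ha (hMn b (hcP k hk hb) _ (inv_mem ha))
      · exact mul_mem (hcn k hk a (hMP ha) b hb) (inv_mem hb)
    obtain ⟨k₀, hk₀, hk₀ne⟩ : ∃ k ∈ H, cM k ≠ M := by
      by_contra hc; push Not at hc
      have hn' : Normed H M := fun k hk x hx => by rw [← hc k hk, hcMmem]; simpa [mul_assoc] using hx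
      refine hMne (le_antisymm hMP fun x hx => ?_)
      obtain ⟨m, hm, s, hs, rfl⟩ := (Subgroup.mem_sup_of_normal_right (t := S)).1 (hmin M (hMP.trans hPN) hn' hMs (hPN hx))
      refine mul_mem hm (hMZ ⟨hs, ?_⟩)
      simpa using mul_mem (inv_mem (hMP hm)) hx
    rcases structure_case hPabs.1 hMn hMs with h | h | h | hMabs
    · rcases h with ⟨D, hD, hle⟩ | ⟨D, hD, hle⟩
      · exact (dec_perfect_false hD (fun M hM => perfect_le_bot_perm4 hM) hPP hPabs.1 hle).elim
      · exact (dec_perfect_false hD (fun M hM => perfect_le_bot_perm2 hM) hPP hPabs.1 hle).elim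
    · obtain ⟨K, hK, hle⟩ := h
      exact (field_perfect_false hPP hPabs hK hle).elim
    · obtain ⟨Q, hQ', hle⟩ := h
      rcases quad_upgrade hPn hPabs hQ' (fixes_of_perfect hPP (hle.trans (polar_le Q))) with h | h
      · exact Or.inl (Or.inr (Or.inr (Or.inl h)))
      · exact Or.inl (Or.inr (Or.inr (Or.inr (Or.inl h))))
    · exfalso
      have hM'ab : ∀ x ∈ cM k₀, ∀ z ∈ cM k₀, x * z * x⁻¹ * z⁻¹ ∈ S := by
        intro x hx z hz
        obtain ⟨c, hc⟩ := hMabs.2 ((x * z * x⁻¹ * z⁻¹ : GL (Fin 4) F) : Matrix (Fin 4) (Fin 4) F) (by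
          rintro _ ⟨m, hm, rfl⟩
          have act : ∀ u ∈ cM k₀, ∃ e : Fˣ, u * m * u⁻¹ = sc e * m := by
            intro u hu
            obtain ⟨e, he⟩ := mem_sc (inv_mem (hdist k₀ hk₀ hk₀ne m hm u hu))
            exact ⟨e, by rw [← he]; group⟩
          obtain ⟨e1, h1⟩ := act x hx
          obtain ⟨e2, h2⟩ := act z hz
          obtain ⟨e3, h3⟩ := act x⁻¹ (inv_mem hx)
          obtain ⟨e4, h4⟩ := act z⁻¹ (inv_mem hz)
          have mv : ∀ (u : GL (Fin 4) F) (e : Fˣ), u * m * u⁻¹ = sc e * m → u * m = sc e * m * u :=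
            fun u e h => mul_inv_eq_iff_eq_mul.1 h
          have e13 : e1 * e3 = 1 := by
            have h := mv _ _ h3
            have h' := congrArg (fun g => x * g) h
            simp only [mul_inv_cancel_left] at h'
            rw [← mul_assoc x, ← mul_assoc x, ← sc_comm e3 x, mul_assoc (sc e3), mv _ _ h1, mul_assoc (sc e3),
              mul_assoc (sc e1 * m), mul_inv_cancel, mul_one, ← mul_assoc, ← sc_mul] at h'
            have h'' : sc (e3 * e1) = (1 : GL (Fin 4) F) := mul_right_cancel (b := m) (by rw [one_mul]; exact h'.symm)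
            exact sc_inj (by rw [mul_comm, h'']; simp [sc])
          have e24 : e2 * e4 = 1 := by
            have h := mv _ _ h4
            have h' := congrArg (fun g => z * g) h
            simp only [mul_inv_cancel_left] at h'
            rw [← mul_assoc z, ← mul_assoc z, ← sc_comm e4 z, mul_assoc (sc e4), mv _ _ h2, mul_assoc (sc e4),
              mul_assoc (sc e2 * m), mul_inv_cancel, mul_one, ← mul_assoc, ← sc_mul] at h'
            have h'' : sc (e4 * e2) = (1 : GL (Fin 4) F) := mul_right_cancel (b := m) (by rw [one_mul]; exact h'.symm)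
            exact sc_inj (by rw [mul_comm, h'']; simp [sc])
          have final : x * z * x⁻¹ * z⁻¹ * m = m * (x * z * x⁻¹ * z⁻¹) := by
            rw [mul_assoc _ z⁻¹ m, mv _ _ h4, ← mul_assoc, ← mul_assoc, ← sc_comm e4 (x * z * x⁻¹), mul_assoc (sc e4),
              mul_assoc (x * z) x⁻¹ m, mv _ _ h3, ← mul_assoc (x * z), ← mul_assoc (x * z), ← sc_comm e3 (x * z),
              mul_assoc (sc e3), mul_assoc x z m, mv _ _ h2, ← mul_assoc x, ← mul_assoc x, ← sc_comm e2 x,
              mul_assoc (sc e2), mv _ _ h1]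
            simp only [← mul_assoc, ← sc_mul]
            rw [show e4 * e3 * e2 * e1 = (e1 * e3) * (e2 * e4) by simp only [mul_comm, mul_left_comm], e13, e24]
            simp [sc, mul_assoc]
          exact congrArg Units.val final)
        exact scalar_of_val hc
      have hMab : ∀ a ∈ M, ∀ b ∈ M, a * b * a⁻¹ * b⁻¹ ∈ S := by
        intro a ha b hb
        have h := hM'ab _ ⟨a, ha, rfl⟩ _ ⟨b, hb, rfl⟩
        obtain ⟨c, hc⟩ := mem_sc h
        have : a * b * a⁻¹ * b⁻¹ = sc c := by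
          have h' := congrArg (fun g => k₀⁻¹ * g * k₀) hc
          simp only [MulEquiv.toMonoidHom_eq_coe, MonoidHom.coe_coe, MulAut.conj_apply] at h'
          rw [mul_assoc k₀⁻¹ (sc c), sc_comm, inv_mul_cancel_left] at h'
          rw [← h']; group
        rw [this]; exact sc_mem c
      have hall : ∀ k ∈ H, ∀ a ∈ M, ∀ b ∈ cM k, a * b * a⁻¹ * b⁻¹ ∈ S := by
        intro k hk a ha b hb
        by_cases he : cM k = M
        · exact hMab a ha b (he ▸ hb)
        · exact hdist k hk he a ha b hb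
      let π := QuotientGroup.mk' S
      let J := ⨆ k : H, cM k.1
      have hJn : Normed H J := normed_map.2 fun h hh => by
        rw [Subgroup.map_iSup]
        refine iSup_le fun k => le_iSup_of_le (⟨h * k.1, mul_mem hh k.2⟩ : H) ?_
        rintro _ ⟨_, ⟨m, hm, rfl⟩, rfl⟩
        exact ⟨m, hm, by simp [mul_assoc]⟩
      have hJP : J ≤ P := iSup_le fun k => hcP k.1 k.2
      have hJs : ¬ J ≤ S := fun h => hMs fun m hm => h (Subgroup.mem_iSup_of_mem (1 : H) ⟨m, hm, by simp⟩)
      have hπ : ∀ a b : GL (Fin 4) F, a * b * a⁻¹ * b⁻¹ ∈ S → π a * π b = π b * π a := by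
        intro a b h
        have := (QuotientGroup.eq_one_iff (N := S) _).2 h
        change π (a * b * a⁻¹ * b⁻¹) = 1 at this
        rw [map_mul, map_mul, map_mul, map_inv, map_inv] at this
        rwa [mul_inv_eq_one, mul_inv_eq_iff_eq_mul] at this
      have pair : ∀ k l : H, ∀ a ∈ cM k.1, ∀ b ∈ cM l.1, π a * π b = π b * π a := by
        rintro k l _ ⟨a, ha, rfl⟩ _ ⟨b, hb, rfl⟩
        refine hπ _ _ ?_
        simp only [MulEquiv.toMonoidHom_eq_coe, MonoidHom.coe_coe, MulAut.conj_apply]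
        have h := hall (k.1⁻¹ * l.1) (mul_mem (inv_mem k.2) l.2) a ha ((k.1⁻¹ * l.1) * b * (k.1⁻¹ * l.1)⁻¹) ⟨b, hb, rfl⟩
        have e : (k.1 * a * k.1⁻¹) * (l.1 * b * l.1⁻¹) * (k.1 * a * k.1⁻¹)⁻¹ * (l.1 * b * l.1⁻¹)⁻¹
            = k.1 * (a * ((k.1⁻¹ * l.1) * b * (k.1⁻¹ * l.1)⁻¹) * a⁻¹ * ((k.1⁻¹ * l.1) * b * (k.1⁻¹ * l.1)⁻¹)⁻¹) * k.1⁻¹ := by
          simp [mul_assoc]
        rw [e, ← hscc _ h k.1, mul_inv_cancel_right]
        exact h
      have step1 : ∀ l : H, ∀ b ∈ cM l.1, J ⊔ S ≤ (Subgroup.centralizer {π b}).comap π := by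
        intro l b hb
        refine sup_le (iSup_le fun k a ha => ?_) (fun s hs => ?_)
        · exact Subgroup.mem_centralizer_singleton_iff.2 (pair k l a ha b hb)
        · refine Subgroup.mem_centralizer_singleton_iff.2 ?_
          rw [← map_mul, ← map_mul, hscc s hs b]
      have step2 : ∀ a ∈ J ⊔ S, J ⊔ S ≤ (Subgroup.centralizer {π a}).comap π := by
        intro a ha
        refine sup_le (iSup_le fun l b hb => ?_) (fun s hs => ?_)
        · exact Subgroup.mem_centralizer_singleton_iff.2 (Subgroup.mem_centralizer_singleton_iff.1 (step1 l b hb ha)).symm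
        · refine Subgroup.mem_centralizer_singleton_iff.2 ?_
          rw [← map_mul, ← map_mul, hscc s hs a]
      apply hab
      rw [← hPP, Subgroup.commutator_le]
      intro a ha b hb
      have hle := hmin J (hJP.trans hPN) hJn hJs
      have h := Subgroup.mem_centralizer_singleton_iff.1 (step2 b (hle (hPN hb)) (hle (hPN ha)))
      rw [← QuotientGroup.eq_one_iff]
      change π ⁅a, b⁆ = 1
      rw [map_commutatorElement, commutatorElement_eq_one_iff_commute]
      exact h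
  rcases hkey with hg | hkey
  · exact Or.inl hg
  right
  exact ⟨P, residual_core (hPN.trans hNH) hPn hPP hPabs hab hkey hsub, hQ, hF, hU⟩

end Cfsg.Agent.Lib.SL4Max
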