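import Cfsg.Prelude.Def_GeometricClasses

/-!
# SL₄ maximal subgroups: invariant forms of absolutely irreducible groups
-/

set_option autoImplicit false
set_option linter.unusedSectionVars false

namespace Cfsg.Agent.Lib.SL4Max

open Cfsg Cfsg.Geo
open scoped Matrix

variable {F : Type*} [Field F]

/-- `H` normalises `N`. -/
def Normed {G : Type*} [Group G] (H N : Subgroup G) : Prop := ∀ h ∈ H, ∀ x ∈ N, h * x * h⁻¹ ∈ N

/-- The form with Gram matrix `G`, twisted by `τ` on the right. -/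
def fM (τ : F ≃+* F) (G : Matrix (Fin 4) (Fin 4) F) (u v : Fin 4 → F) : F := u ⬝ᵥ (G *ᵥ (fun i => τ (v i)))

/-- `G` is invariant under `x` for the twist `τ`. -/
def Inv (τ : F ≃+* F) (G x : Matrix (Fin 4) (Fin 4) F) : Prop := xᵀ * G * x.map τ = G

theorem tau_mulVec (τ : F ≃+* F) (x : Matrix (Fin 4) (Fin 4) F) (v : Fin 4 → F) :
    (fun i => τ ((x *ᵥ v) i)) = x.map τ *ᵥ (fun i => τ (v i)) := by
  funext i
  simp [Matrix.mulVec, dotProduct, map_sum]

theorem fM_mulVec (τ : F ≃+* F) (G x : Matrix (Fin 4) (Fin 4) F) (u v : Fin 4 → F) :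
    fM τ G (x *ᵥ u) (x *ᵥ v) = fM τ (xᵀ * G * x.map τ) u v := by
  simp only [fM]
  rw [tau_mulVec, dotProduct_comm, Matrix.dotProduct_mulVec, ← Matrix.mulVec_transpose,
    dotProduct_comm, ← Matrix.mulVec_mulVec, ← Matrix.mulVec_mulVec]

theorem fM_single (τ : F ≃+* F) (G : Matrix (Fin 4) (Fin 4) F) (i j : Fin 4) :
    fM τ G (Pi.single i 1) (Pi.single j 1) = G i j := by
  have : (fun k => τ ((Pi.single j (1:F) : Fin 4 → F) k)) = Pi.single j 1 := by
    funext k; by_cases h : k = j <;> simp [h]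
  simp only [fM]
  rw [this, Matrix.mulVec_single_one, single_one_dotProduct]; rfl

theorem fM_smul (τ : F ≃+* F) (c : F) (G : Matrix (Fin 4) (Fin 4) F) (u v : Fin 4 → F) :
    fM τ (c • G) u v = c * fM τ G u v := by
  simp [fM, Matrix.smul_mulVec, dotProduct_smul]

theorem fM_ext (τ : F ≃+* F) {G G' : Matrix (Fin 4) (Fin 4) F} (h : ∀ u v, fM τ G u v = fM τ G' u v) : G = G' := by
  ext i j; rw [← fM_single τ G, ← fM_single τ G', h]

theorem fM_eq_gram (τ : F ≃+* F) (f : (Fin 4 → F) → (Fin 4 → F) → F)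
    (al : ∀ x y v, f (x + y) v = f x v + f y v) (sl : ∀ (c : F) x v, f (c • x) v = c * f x v)
    (ar : ∀ v x y, f v (x + y) = f v x + f v y) (sr : ∀ (c : F) v x, f v (c • x) = τ c * f v x) :
    fM τ (gramMatrix f) = f := by
  funext u v
  conv_rhs => rw [pi_eq_sum_univ' u, pi_eq_sum_univ' v]
  simp only [Fin.sum_univ_four, al, sl, ar, sr]
  simp only [fM, gramMatrix, Matrix.mulVec, dotProduct, Fin.sum_univ_four]
  ring

theorem fM_add_left (τ : F ≃+* F) (G : Matrix (Fin 4) (Fin 4) F) (x y v : Fin 4 → F) :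
    fM τ G (x + y) v = fM τ G x v + fM τ G y v := add_dotProduct _ _ _

theorem fM_smul_left (τ : F ≃+* F) (G : Matrix (Fin 4) (Fin 4) F) (c : F) (x v : Fin 4 → F) :
    fM τ G (c • x) v = c * fM τ G x v := smul_dotProduct _ _ _

theorem fM_add_right (τ : F ≃+* F) (G : Matrix (Fin 4) (Fin 4) F) (v x y : Fin 4 → F) :
    fM τ G v (x + y) = fM τ G v x + fM τ G v y := by
  simp only [fM]
  rw [← dotProduct_add, ← Matrix.mulVec_add]
  congr 2; funext i; simp

theorem fM_smul_right (τ : F ≃+* F) (G : Matrix (Fin 4) (Fin 4) F) (c : F) (v x : Fin 4 → F) :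
    fM τ G v (c • x) = τ c * fM τ G v x := by
  have : (fun i => τ ((c • x) i)) = τ c • (fun i => τ (x i)) := by funext i; simp
  simp only [fM]
  rw [this, Matrix.mulVec_smul, dotProduct_smul, smul_eq_mul]

theorem fM_nondeg (τ : F ≃+* F) {G : Matrix (Fin 4) (Fin 4) F} (hG : G.det ≠ 0) :
    IsNondegenerateForm (fM τ G) := by
  have hu : IsUnit G := (Matrix.isUnit_iff_isUnit_det G).2 (Ne.isUnit hG)
  intro v hv
  constructor
  · have : G *ᵥ (fun i => τ (v i)) ≠ 0 := fun h => hv <| by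
      have := Matrix.mulVec_injective_iff_isUnit.2 hu (h.trans (Matrix.mulVec_zero G).symm)
      funext i
      simpa using congrFun this i
    obtain ⟨i, hi⟩ := Function.ne_iff.1 this
    exact ⟨Pi.single i 1, by simpa [fM, single_one_dotProduct] using hi⟩
  · have : Matrix.vecMul v G ≠ 0 := fun h => hv <|
      Matrix.vecMul_injective_iff_isUnit.2 hu (h.trans (Matrix.zero_vecMul G).symm)
    obtain ⟨j, hj⟩ := Function.ne_iff.1 this
    refine ⟨Pi.single j 1, ?_⟩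
    have e : (fun k => τ ((Pi.single j (1:F) : Fin 4 → F) k)) = Pi.single j 1 := by
      funext k; by_cases h : k = j <;> simp [h]
    simp only [fM]
    rw [e, Matrix.dotProduct_mulVec, dotProduct_single_one]
    simpa using hj

theorem inv_det_ne_zero (τ : F ≃+* F) {N : Subgroup (GL (Fin 4) F)} (hN : ActsIrreducibly (matrixSet N))
    {G : Matrix (Fin 4) (Fin 4) F} (hG : G ≠ 0) (hinv : ∀ x ∈ N, Inv τ G (x : Matrix (Fin 4) (Fin 4) F)) :
    G.det ≠ 0 := by
  intro hd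
  have hd' : Gᵀ.det = 0 := by rwa [Matrix.det_transpose]
  obtain ⟨u, hu0, hu⟩ := Matrix.exists_mulVec_eq_zero_iff.2 hd'
  rcases hN (LinearMap.ker Gᵀ.mulVecLin) (by
    rintro _ ⟨x, hx, rfl⟩ _ ⟨w, hw, rfl⟩
    simp only [SetLike.mem_coe, LinearMap.mem_ker, Matrix.mulVecLin_apply] at hw ⊢
    rw [Matrix.toLin'_apply]
    have h1 := congrArg Matrix.transpose (hinv x hx)
    rw [Matrix.transpose_mul, Matrix.transpose_mul, Matrix.transpose_transpose] at h1
    have hu' : IsUnit ((x : Matrix (Fin 4) (Fin 4) F).map τ)ᵀ :=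
      (Matrix.isUnit_transpose _).2 (x.isUnit.map (RingHom.mapMatrix (τ : F →+* F)))
    refine Matrix.mulVec_injective_iff_isUnit.2 hu' ?_
    change _ *ᵥ (Gᵀ *ᵥ _) = _ *ᵥ (0 : Fin 4 → F)
    rw [Matrix.mulVec_zero, Matrix.mulVec_mulVec, Matrix.mulVec_mulVec, Matrix.mul_assoc, h1]
    exact hw) with h | h
  · have hm : u ∈ LinearMap.ker Gᵀ.mulVecLin := hu
    rw [h] at hm
    exact hu0 (by simpa using hm)
  · apply hG
    ext i j
    have : (Pi.single i 1 : Fin 4 → F) ∈ LinearMap.ker Gᵀ.mulVecLin := by rw [h]; exact Submodule.mem_top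
    rw [LinearMap.mem_ker, Matrix.mulVecLin_apply, Matrix.mulVec_single_one] at this
    simpa using congrFun this j

theorem inv_unique (τ : F ≃+* F) {N : Subgroup (GL (Fin 4) F)} (hN : ActsAbsolutelyIrreducibly (matrixSet N))
    {G G' : Matrix (Fin 4) (Fin 4) F} (hG : G ≠ 0) (hinv : ∀ x ∈ N, Inv τ G (x : Matrix (Fin 4) (Fin 4) F))
    (hinv' : ∀ x ∈ N, Inv τ G' (x : Matrix (Fin 4) (Fin 4) F)) : ∃ c : F, G' = c • G := by
  have hd : IsUnit G.det := Ne.isUnit (inv_det_ne_zero τ hN.1 hG hinv)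
  obtain ⟨M, hM⟩ : ∃ M, G * M = G' :=
    ⟨G⁻¹ * G', by rw [← mul_assoc, Matrix.mul_nonsing_inv _ hd, one_mul]⟩
  obtain ⟨c, hc⟩ := hN.2 (M.map τ.symm) (by
    rintro _ ⟨x, hx, rfl⟩
    have hcancel : IsUnit ((x : Matrix (Fin 4) (Fin 4) F)ᵀ * G) :=
      ((Matrix.isUnit_transpose _).2 x.isUnit).mul ((Matrix.isUnit_iff_isUnit_det G).2 hd)
    have h : M * (x : Matrix (Fin 4) (Fin 4) F).map τ = (x : Matrix (Fin 4) (Fin 4) F).map τ * M := by
      apply hcancel.mul_left_cancel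
      have e1 := hinv x hx
      have e2 := hinv' x hx
      simp only [Inv] at e1 e2
      calc (x : Matrix (Fin 4) (Fin 4) F)ᵀ * G * (M * (x : Matrix (Fin 4) (Fin 4) F).map τ)
          = (x : Matrix (Fin 4) (Fin 4) F)ᵀ * (G * M) * (x : Matrix (Fin 4) (Fin 4) F).map τ := by
            simp only [mul_assoc]
        _ = G * M := by rw [hM, e2]
        _ = _ := by rw [← mul_assoc, e1]
    have := congrArg (fun A : Matrix (Fin 4) (Fin 4) F => A.map τ.symm) h
    simpa [Matrix.map_mul, Matrix.map_map, Function.comp_def] using this)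
  refine ⟨τ c, ?_⟩
  have hMc : M = τ c • 1 := by
    have := congrArg (fun A : Matrix (Fin 4) (Fin 4) F => A.map τ) hc
    ext i j
    have h2 := congrFun (congrFun this i) j
    by_cases hij : i = j <;> simpa [hij, Matrix.one_apply] using h2
  rw [← hM, hMc, Matrix.mul_smul, mul_one]

theorem le_similarity (τ : F ≃+* F) {H N : Subgroup (GL (Fin 4) F)} (hn : Normed H N)
    (hN : ActsAbsolutelyIrreducibly (matrixSet N))
    {G : Matrix (Fin 4) (Fin 4) F} (hG : G ≠ 0) (hinv : ∀ x ∈ N, Inv τ G (x : Matrix (Fin 4) (Fin 4) F)) :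
    H ≤ similarityGroup (fM τ G) := by
  intro h hh
  obtain ⟨c, hc⟩ := inv_unique τ hN hG hinv
    (G' := (h : Matrix (Fin 4) (Fin 4) F)ᵀ * G * (h : Matrix (Fin 4) (Fin 4) F).map τ) (fun x hx => by
      have e := hinv _ (hn h hh x hx)
      simp only [Inv] at e ⊢
      conv_rhs => rw [← e]
      have hinvh : (h : Matrix (Fin 4) (Fin 4) F) * (x : Matrix (Fin 4) (Fin 4) F)
          = ((h * x * h⁻¹ : GL (Fin 4) F) : Matrix (Fin 4) (Fin 4) F) * (h : Matrix (Fin 4) (Fin 4) F) := by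
        rw [← Units.val_mul, ← Units.val_mul]; simp
      have e1 : (x : Matrix (Fin 4) (Fin 4) F)ᵀ * (h : Matrix (Fin 4) (Fin 4) F)ᵀ
          = (h : Matrix (Fin 4) (Fin 4) F)ᵀ * ((h * x * h⁻¹ : GL (Fin 4) F) : Matrix (Fin 4) (Fin 4) F)ᵀ := by
        rw [← Matrix.transpose_mul, ← Matrix.transpose_mul, hinvh]
      have e2 := congrArg (fun A : Matrix (Fin 4) (Fin 4) F => A.map τ) hinvh
      simp only [Matrix.map_mul] at e2
      calc _ = (x : Matrix (Fin 4) (Fin 4) F)ᵀ * (h : Matrix (Fin 4) (Fin 4) F)ᵀ * G *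
            ((h : Matrix (Fin 4) (Fin 4) F).map τ * (x : Matrix (Fin 4) (Fin 4) F).map τ) := by
            simp only [mul_assoc]
        _ = _ := by rw [e1, e2]; simp only [mul_assoc])
  have hc0 : c ≠ 0 := by
    rintro rfl
    rw [zero_smul] at hc
    have h2 := congrArg Matrix.det hc
    rw [Matrix.det_mul, Matrix.det_mul, Matrix.det_transpose, Matrix.det_zero] at h2
    have hd : (h : Matrix (Fin 4) (Fin 4) F).det ≠ 0 := (h.isUnit.map Matrix.detMonoidHom).ne_zero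
    have hd' : ((h : Matrix (Fin 4) (Fin 4) F).map τ).det ≠ 0 :=
      ((h.isUnit.map (RingHom.mapMatrix (τ : F →+* F))).map Matrix.detMonoidHom).ne_zero
    simp [hd, hd', inv_det_ne_zero τ hN.1 hG hinv] at h2
  exact ⟨Units.mk0 c hc0, fun u v => by rw [fM_mulVec, hc, fM_smul]; rfl⟩

theorem exists_inv (τ : F ≃+* F) [Fintype F] (N : Subgroup (GL (Fin 4) F))
    (hsum : ∑ᶠ x : N, Matrix.trace (x.1 : Matrix (Fin 4) (Fin 4) F) * τ (Matrix.trace (x.1 : Matrix (Fin 4) (Fin 4) F)) ≠ 0) :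
    ∃ G : Matrix (Fin 4) (Fin 4) F, G ≠ 0 ∧ ∀ x ∈ N, Inv τ G (x : Matrix (Fin 4) (Fin 4) F) := by
  classical
  haveI : Fintype N := Fintype.ofFinite N
  rw [finsum_eq_sum_of_fintype] at hsum
  by_contra hc
  push Not at hc
  set L : Matrix (Fin 4) (Fin 4) F → Matrix (Fin 4) (Fin 4) F := fun B =>
    ∑ x : N, (x.1 : Matrix (Fin 4) (Fin 4) F)ᵀ * B * (x.1 : Matrix (Fin 4) (Fin 4) F).map τ
  have hL : ∀ B, L B = 0 := by
    intro B
    by_contra h
    obtain ⟨y, hy, hy'⟩ := hc _ h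
    apply hy'
    simp only [Inv, L, Finset.mul_sum, Finset.sum_mul]
    refine Fintype.sum_equiv (Equiv.mulRight (⟨y, hy⟩ : N)) _ _ (fun x => ?_)
    simp [Matrix.transpose_mul, Matrix.map_mul, mul_assoc]
  apply hsum
  simp only [Matrix.trace, Matrix.diag, map_sum, Finset.mul_sum, Finset.sum_mul]
  rw [Finset.sum_comm]
  refine Finset.sum_eq_zero fun j _ => ?_
  rw [Finset.sum_comm]
  refine Finset.sum_eq_zero fun i _ => ?_
  have := congrFun (congrFun (hL (Matrix.single i j 1)) i) j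
  simpa [L, Matrix.sum_apply, Matrix.mul_apply, Matrix.single, ite_and] using this

theorem fM_polar (G : Matrix (Fin 4) (Fin 4) F) (hs : Gᵀ = G) :
    QuadraticMap.polar (fun v => fM (RingEquiv.refl F) G v v) = fM (RingEquiv.refl F) ((2:F) • G) := by
  funext u v
  have hsym : fM (RingEquiv.refl F) G v u = fM (RingEquiv.refl F) G u v := by
    simp only [fM, RingEquiv.refl_apply]
    rw [Matrix.dotProduct_mulVec, ← Matrix.mulVec_transpose, hs, dotProduct_comm]
  simp only [QuadraticMap.polar, fM_smul, fM_add_left, fM_add_right, hsym]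
  ring

theorem odd_form_case {H N : Subgroup (GL (Fin 4) F)} (h2 : (2:F) ≠ 0) (hn : Normed H N)
    (hN : ActsAbsolutelyIrreducibly (matrixSet N)) {G : Matrix (Fin 4) (Fin 4) F} (hG : G ≠ 0)
    (hinv : ∀ x ∈ N, Inv (RingEquiv.refl F) G (x : Matrix (Fin 4) (Fin 4) F)) :
    (∃ Q : (Fin 4 → F) → F, IsNondegenerateQuadraticForm Q ∧ H ≤ quadSimilarityGroup Q) ∨
    (∃ f : (Fin 4 → F) → (Fin 4 → F) → F, IsSymplecticForm f ∧ H ≤ similarityGroup f) := by
  set τ := RingEquiv.refl F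
  have hT : ∀ x ∈ N, Inv τ Gᵀ (x : Matrix (Fin 4) (Fin 4) F) := fun x hx => by
    have := congrArg Matrix.transpose (hinv x hx)
    simpa [Inv, τ, Matrix.transpose_mul, mul_assoc] using this
  by_cases hs : G + Gᵀ = 0
  · refine Or.inr ⟨fM τ G, ?_, le_similarity τ hn hN hG hinv⟩
    have hskew : ∀ u v, fM τ G u v = - fM τ G v u := by
      intro u v
      have : Gᵀ = -G := eq_neg_of_add_eq_zero_right hs
      simp only [fM, τ, RingEquiv.refl_apply]
      rw [Matrix.dotProduct_mulVec, ← Matrix.mulVec_transpose, this, Matrix.neg_mulVec, neg_dotProduct,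
        dotProduct_comm]
    refine ⟨⟨fM_add_left τ G, fM_smul_left τ G, fM_add_right τ G, fM_smul_right τ G⟩, hskew, fun v => ?_,
      fM_nondeg τ (inv_det_ne_zero τ hN.1 hG hinv)⟩
    have := hskew v v
    rw [eq_neg_iff_add_eq_zero, ← two_mul] at this
    exact (mul_eq_zero.1 this).resolve_left h2
  · set S := G + Gᵀ
    have hSinv : ∀ x ∈ N, Inv τ S (x : Matrix (Fin 4) (Fin 4) F) := fun x hx => by
      simp only [Inv, S, mul_add, add_mul]
      rw [hinv x hx, hT x hx]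
    have hSs : Sᵀ = S := by simp [S, add_comm]
    have hd := inv_det_ne_zero τ hN.1 hs hSinv
    have hp := fM_polar S hSs
    refine Or.inl ⟨fun v => fM τ S v v, ⟨fun c v => ?_, ?_, ?_⟩, fun h hh => ?_⟩
    · simp only [fM_smul_left, fM_smul_right, τ, RingEquiv.refl_apply]; ring
    · rw [hp]; exact ⟨fM_add_left τ _, fM_smul_left τ _, fM_add_right τ _, fM_smul_right τ _⟩
    · rw [hp]; exact fM_nondeg τ (by simp [Matrix.det_smul, h2, hd])
    · obtain ⟨c, hc⟩ := le_similarity τ hn hN hs hSinv hh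
      exact ⟨c, fun v => hc v v⟩

theorem unitary_case {H N : Subgroup (GL (Fin 4) F)} (σ : F ≃+* F) (hσ : σ ≠ RingEquiv.refl F)
    (hσ2 : ∀ a, σ (σ a) = a) (hn : Normed H N)
    (hN : ActsAbsolutelyIrreducibly (matrixSet N)) {G : Matrix (Fin 4) (Fin 4) F} (hG : G ≠ 0)
    (hinv : ∀ x ∈ N, Inv σ G (x : Matrix (Fin 4) (Fin 4) F)) :
    ∃ f : (Fin 4 → F) → (Fin 4 → F) → F, IsUnitaryForm σ f ∧ H ≤ similarityGroup f := by
  set D := (G.map σ)ᵀ
  have hD : ∀ x ∈ N, Inv σ D (x : Matrix (Fin 4) (Fin 4) F) := fun x hx => by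
    have := congrArg (fun A : Matrix (Fin 4) (Fin 4) F => (A.map σ)ᵀ) (hinv x hx)
    have e : ((x : Matrix (Fin 4) (Fin 4) F).map σ).map σ = (x : Matrix (Fin 4) (Fin 4) F) := by
      ext i j; simp [hσ2]
    simp only [Matrix.map_mul, Matrix.transpose_mul, Matrix.transpose_map, e, ← mul_assoc] at this
    simpa [Inv, D, Matrix.transpose_map, mul_assoc] using this
  obtain ⟨a, ha⟩ : ∃ a : F, a • G + σ a • D ≠ 0 := by
    by_contra hc
    push Not at hc
    apply hσ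
    refine RingEquiv.ext fun a => ?_
    have h1 := hc 1
    rw [map_one, one_smul, one_smul] at h1
    have h2 := hc a
    rw [eq_neg_of_add_eq_zero_right h1, smul_neg, ← sub_eq_add_neg, ← sub_smul, smul_eq_zero] at h2
    exact (sub_eq_zero.1 (h2.resolve_right hG)).symm
  set S := a • G + σ a • D
  have hSinv : ∀ x ∈ N, Inv σ S (x : Matrix (Fin 4) (Fin 4) F) := fun x hx => by
    simp only [Inv, S, mul_add, add_mul, Matrix.mul_smul, Matrix.smul_mul]
    rw [hinv x hx, hD x hx]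
  refine ⟨fM σ S, ⟨hσ, hσ2, fM_add_left σ S, fM_smul_left σ S, fun v w => ?_,
    fM_nondeg σ (inv_det_ne_zero σ hN.1 ha hSinv)⟩, le_similarity σ hn hN ha hSinv⟩
  simp [fM, S, D, Matrix.mulVec, dotProduct, Fin.sum_univ_four, hσ2]
  ring

theorem gram_inv (τ : F ≃+* F) (f : (Fin 4 → F) → (Fin 4 → F) → F) (hf : fM τ (gramMatrix f) = f)
    {N : Subgroup (GL (Fin 4) F)} (hfix : FixesForm (matrixSet N) f) :
    ∀ x ∈ N, Inv τ (gramMatrix f) (x : Matrix (Fin 4) (Fin 4) F) := fun x hx =>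
  fM_ext τ fun u v => by rw [← fM_mulVec, hf]; exact hfix _ ⟨x, hx, rfl⟩ u v

theorem fixed_form_le {τ : F ≃+* F} {f : (Fin 4 → F) → (Fin 4 → F) → F} (hf : fM τ (gramMatrix f) = f)
    (hnd : IsNondegenerateForm f) {H N : Subgroup (GL (Fin 4) F)} (hn : Normed H N)
    (hN : ActsAbsolutelyIrreducibly (matrixSet N)) (hfix : FixesForm (matrixSet N) f) :
    H ≤ similarityGroup f := by
  have hG : gramMatrix f ≠ 0 := by
    intro h0
    obtain ⟨⟨x, hx⟩, -⟩ := hnd (Pi.single 0 1) (by simp)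
    apply hx
    rw [← hf, h0]; simp [fM]
  rw [← hf]
  exact le_similarity τ hn hN hG (gram_inv τ f hf hfix)

theorem fixes_of_perfect {P : Subgroup (GL (Fin 4) F)} (hP : ⁅P, P⁆ = P)
    {f : (Fin 4 → F) → (Fin 4 → F) → F} (hle : P ≤ similarityGroup f) : FixesForm (matrixSet P) f := by
  rintro _ ⟨x, hx, rfl⟩
  let I : Subgroup (GL (Fin 4) F) :=
  { carrier := {g | ∀ u v, f ((g : Matrix (Fin 4) (Fin 4) F) *ᵥ u) ((g : Matrix (Fin 4) (Fin 4) F) *ᵥ v) = f u v}
    mul_mem' := fun {a b} ha hb u v => by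
      rw [Units.val_mul, ← Matrix.mulVec_mulVec, ← Matrix.mulVec_mulVec, ha, hb]
    one_mem' := fun u v => by simp
    inv_mem' := fun {a} ha u v => by
      have h := ha (((a⁻¹ : GL (Fin 4) F) : Matrix (Fin 4) (Fin 4) F) *ᵥ u)
        (((a⁻¹ : GL (Fin 4) F) : Matrix (Fin 4) (Fin 4) F) *ᵥ v)
      rw [Matrix.mulVec_mulVec, Matrix.mulVec_mulVec, ← Units.val_mul, mul_inv_cancel] at h
      simpa using h.symm }
  suffices h : ⁅P, P⁆ ≤ I from h (hP.ge hx)
  refine Subgroup.commutator_le.2 fun a ha b hb => ?_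
  obtain ⟨c, hc⟩ := hle ha
  obtain ⟨d, hd⟩ := hle hb
  have hi : ∀ (g : GL (Fin 4) F) (e : Fˣ),
      (∀ u v, f ((g : Matrix (Fin 4) (Fin 4) F) *ᵥ u) ((g : Matrix (Fin 4) (Fin 4) F) *ᵥ v) = (e:F) * f u v) →
      ∀ u v, f (((g⁻¹ : GL (Fin 4) F) : Matrix (Fin 4) (Fin 4) F) *ᵥ u)
        (((g⁻¹ : GL (Fin 4) F) : Matrix (Fin 4) (Fin 4) F) *ᵥ v) = ((e⁻¹ : Fˣ) : F) * f u v := by
    intro g e he u v
    have h := he (((g⁻¹ : GL (Fin 4) F) : Matrix (Fin 4) (Fin 4) F) *ᵥ u)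
      (((g⁻¹ : GL (Fin 4) F) : Matrix (Fin 4) (Fin 4) F) *ᵥ v)
    rw [Matrix.mulVec_mulVec, Matrix.mulVec_mulVec, ← Units.val_mul, mul_inv_cancel, Units.val_one,
      Matrix.one_mulVec, Matrix.one_mulVec] at h
    rw [h, ← mul_assoc, Units.inv_mul, one_mul]
  intro u v
  rw [commutatorElement_def]
  simp only [Units.val_mul, ← Matrix.mulVec_mulVec]
  rw [hc, hd, hi a c hc, hi b d hd]
  simp only [Units.val_inv_eq_inv_val]
  field_simp [c.ne_zero, d.ne_zero]

end Cfsg.Agent.Lib.SL4Max
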