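import Cfsg.Agent.Lib.SL4Max.Abelian

/-!
# SL₄ maximal subgroups: realisation over a subfield and the abelian case
-/

set_option autoImplicit false
set_option linter.unusedSectionVars false
set_option maxHeartbeats 400000

namespace Cfsg.Agent.Lib.SL4Max

open Cfsg Cfsg.Geo
open scoped Matrix

variable {F : Type*} [Field F] [Fintype F] {H N : Subgroup (GL (Fin 4) F)}

theorem AbData.trace_mem (hd : AbData H N) (F₀ : Subfield F) {i : F} (hi : i * i = -1) (hiF : i ∈ F₀)
    {z : GL (Fin 4) F} (hz : z ∈ N) : Matrix.trace (z : Matrix (Fin 4) (Fin 4) F) ∈ F₀ := by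
  by_cases hzs : z ∈ scalars (Fin 4) F
  · obtain ⟨c, hc⟩ := mem_sc hzs
    have h4 : (c : F) ^ 4 = 1 := by simpa using congrArg Units.val (hd.scalar_pow hz hc)
    have hcF : (c : F) ∈ F₀ := by
      rcases roots_four hi h4 with h | h | h | h <;> rw [h]
      exacts [one_mem _, neg_mem (one_mem _), hiF, neg_mem hiF]
    rw [hc, sc_val, Matrix.trace_smul, Matrix.trace_one, smul_eq_mul]
    exact mul_mem hcF (natCast_mem F₀ _)
  · rw [hd.trace_zero hz hzs]; exact zero_mem _

/-- A non-scalar member together with a commuting one, outside the group it generates modulo scalars. -/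
theorem AbData.exists_pair (hd : AbData H N) : ∃ x ∈ N, ∃ y ∈ N, x ∉ scalars (Fin 4) F ∧ y ∉ scalars (Fin 4) F ∧
    x * y ∉ scalars (Fin 4) F ∧ (x : Matrix (Fin 4) (Fin 4) F) * y = (y : Matrix (Fin 4) (Fin 4) F) * x := by
  classical
  obtain ⟨x, hx, hxs⟩ := SetLike.not_le_iff_exists.1 hd.ns
  obtain ⟨h2, u, hu, hux⟩ := hd.anti hx hxs
  refine ⟨x, hx, ?_⟩
  by_contra hcon
  push Not at hcon
  -- everything commuting with `x` lies in the span of `1, x`
  have hxX : (x : Matrix (Fin 4) (Fin 4) F) * x ∈ Submodule.span F ({1} : Set (Matrix (Fin 4) (Fin 4) F)) := by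
    obtain ⟨d, hd'⟩ := (mem_scalars_iff _).1 (hd.sq x hx)
    rw [← Units.val_mul, hd']
    exact Submodule.smul_mem _ _ (Submodule.subset_span rfl)
  set X := (x : Matrix (Fin 4) (Fin 4) F)
  set U := (u : Matrix (Fin 4) (Fin 4) F)
  have hcen : ∀ y ∈ N, X * y = (y : Matrix (Fin 4) (Fin 4) F) * X →
      (y : Matrix (Fin 4) (Fin 4) F) ∈ Submodule.span F ({1, X} : Set (Matrix (Fin 4) (Fin 4) F)) := by
    intro y hy hxy
    by_cases hys : y ∈ scalars (Fin 4) F
    · obtain ⟨c, rfl⟩ := mem_sc hys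
      rw [sc_val]; exact Submodule.smul_mem _ _ (Submodule.subset_span (by simp))
    by_cases hxys : x * y ∈ scalars (Fin 4) F
    · obtain ⟨c, hc⟩ := mem_sc hxys
      have e : (y : Matrix (Fin 4) (Fin 4) F) = (c : F) • ((x⁻¹ : GL (Fin 4) F) : Matrix (Fin 4) (Fin 4) F) := by
        rw [show y = x⁻¹ * sc c by rw [← hc, inv_mul_cancel_left], Units.val_mul, sc_val, Matrix.mul_smul, mul_one]
      rw [e]
      refine Submodule.smul_mem _ _ ?_
      obtain ⟨d, hd'⟩ := (mem_scalars_iff _).1 (hd.sq x hx)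
      have : ((x⁻¹ : GL (Fin 4) F) : Matrix (Fin 4) (Fin 4) F) = (d⁻¹ : F) • X := by
        have h1 : X * X = (d : F) • 1 := by rw [← Units.val_mul]; exact hd'
        calc ((x⁻¹ : GL (Fin 4) F) : Matrix (Fin 4) (Fin 4) F)
            = ((x⁻¹ : GL (Fin 4) F) : Matrix (Fin 4) (Fin 4) F) * ((d⁻¹ : F) • (X * X)) := by
              rw [h1, smul_smul, inv_mul_cancel₀ d.ne_zero, one_smul, mul_one]
          _ = _ := by rw [Matrix.mul_smul, ← mul_assoc, ← Units.val_mul, inv_mul_cancel, Units.val_one, one_mul]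
      rw [this]; exact Submodule.smul_mem _ _ (Submodule.subset_span (by simp))
    exact absurd hxy (hcon y hy hxs hys hxys)
  have hall : Submodule.span F (matrixSet N) ≤
      Submodule.span F ({1, X, U, U * X} : Set (Matrix (Fin 4) (Fin 4) F)) := by
    rw [Submodule.span_le]
    rintro _ ⟨y, hy, rfl⟩
    obtain ⟨c, hc⟩ := (mem_scalars_iff _).1 (hd.comm x hx y hy)
    have hxy : X * y = (c : F) • ((y : Matrix (Fin 4) (Fin 4) F) * X) := by
      calc X * y = ((x * y * x⁻¹ * y⁻¹ : GL (Fin 4) F) : Matrix (Fin 4) (Fin 4) F) * ((y : Matrix (Fin 4) (Fin 4) F) * X) := by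
            rw [← Units.val_mul, ← Units.val_mul, ← Units.val_mul]; congr 1; group
        _ = _ := by rw [hc, Matrix.smul_mul, one_mul]
    by_cases hc1 : X * (y : Matrix (Fin 4) (Fin 4) F) = (y : Matrix (Fin 4) (Fin 4) F) * X
    · exact Submodule.span_mono (by simp [Set.insert_subset_iff]) (hcen y hy hc1)
    have hcm : (c : F) = -1 := by
      obtain ⟨d, hd'⟩ := (mem_scalars_iff _).1 (hd.sq x hx)
      rw [Units.val_mul] at hd'
      have h1 : X * (X * (y : Matrix (Fin 4) (Fin 4) F)) = ((c : F) * c) • ((y : Matrix (Fin 4) (Fin 4) F) * (X * X)) := by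
        rw [hxy, Matrix.mul_smul, ← mul_assoc, hxy, Matrix.smul_mul, smul_smul, mul_assoc]
      rw [← mul_assoc, hd', Matrix.smul_mul, one_mul, Matrix.mul_smul, mul_one, smul_smul] at h1
      by_contra hne
      have h3 : ((d : F) - (c : F) * c * d) • (y : Matrix (Fin 4) (Fin 4) F) = 0 := by rw [sub_smul, ← h1, sub_self]
      rcases smul_eq_zero.1 h3 with h | h
      · have h' : ((c : F) - 1) * ((c : F) + 1) = 0 := by
          have : (d : F) * (1 - (c:F) * c) = 0 := by linear_combination h
          rcases mul_eq_zero.1 this with h | h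
          · exact absurd h d.ne_zero
          · linear_combination -h
        rcases mul_eq_zero.1 h' with h | h
        · exact hc1 (by rw [hxy, sub_eq_zero.1 h, one_smul])
        · exact hne (eq_neg_of_add_eq_zero_left h)
      · exact y.ne_zero h
    have huy : X * ((u⁻¹ * y : GL (Fin 4) F) : Matrix (Fin 4) (Fin 4) F)
        = ((u⁻¹ * y : GL (Fin 4) F) : Matrix (Fin 4) (Fin 4) F) * X := by
      rw [hcm, neg_one_smul] at hxy
      have hu' : U * X = -(X * U) := by
        have := congrArg (fun M => M * U) hux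
        simp only [mul_assoc, ← Units.val_mul, inv_mul_cancel, mul_one, neg_mul, U, X] at this
        simp only [U, X, ← Units.val_mul]; exact this
      have e : U * (X * ((u⁻¹ * y : GL (Fin 4) F) : Matrix (Fin 4) (Fin 4) F))
          = U * (((u⁻¹ * y : GL (Fin 4) F) : Matrix (Fin 4) (Fin 4) F) * X) := by
        have huy' : U * ((u⁻¹ * y : GL (Fin 4) F) : Matrix (Fin 4) (Fin 4) F) = (y : Matrix (Fin 4) (Fin 4) F) := by
          rw [← Units.val_mul, mul_inv_cancel_left]
        rw [← mul_assoc, hu', neg_mul, mul_assoc, huy', ← mul_assoc U, huy', hxy, neg_neg]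
      exact u.isUnit.mul_left_cancel e
    have hm := hcen _ (mul_mem (inv_mem hu) hy) huy
    rw [Submodule.mem_span_pair] at hm
    obtain ⟨a, b, hab⟩ := hm
    have : (y : Matrix (Fin 4) (Fin 4) F) = a • U + b • (U * X) := by
      rw [show y = u * (u⁻¹ * y) by rw [mul_inv_cancel_left], Units.val_mul, ← hab, mul_add, Matrix.mul_smul,
        Matrix.mul_smul, mul_one]
    change (y : Matrix (Fin 4) (Fin 4) F) ∈ _
    rw [this]
    exact add_mem (Submodule.smul_mem _ _ (Submodule.subset_span (by simp)))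
      (Submodule.smul_mem _ _ (Submodule.subset_span (by simp)))
  rw [hd.span] at hall
  have h16 := Submodule.finrank_mono hall
  have h4 := finrank_span_le_card (R := F) ({1, X, U, U * X} : Set (Matrix (Fin 4) (Fin 4) F))
  have h4' : ({1, X, U, U * X} : Set (Matrix (Fin 4) (Fin 4) F)).toFinset.card ≤ 4 := by
    simp only [Set.toFinset_insert, Set.toFinset_singleton]
    exact Finset.card_le_four
  rw [finrank_top, Module.finrank_matrix] at h16
  simp at h16
  omega

theorem AbData.realisable (hd : AbData H N) (F₀ : Subfield F) {i : F} (hi : i * i = -1) (hiF : i ∈ F₀) :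
    ∃ P : GL (Fin 4) F, ∀ x ∈ N, ∀ a b, ((P⁻¹ * x * P : GL (Fin 4) F) : Matrix (Fin 4) (Fin 4) F) a b ∈ F₀ := by
  classical
  have h2 := hd.two_ne
  have h4 := hd.four_ne
  obtain ⟨x, hx, y, hy, hxs, hys, hxys, hcomm⟩ := hd.exists_pair
  have norm1 : ∀ z ∈ N, z ∉ scalars (Fin 4) F → ∃ s ∈ F₀, (s • (z : Matrix (Fin 4) (Fin 4) F)) * (s • (z : Matrix (Fin 4) (Fin 4) F)) = 1 := by
    intro z hz hzs
    rcases hd.sq_sign hz hzs with h | h
    · exact ⟨1, one_mem _, by simp [h]⟩
    · exact ⟨i, hiF, by rw [Matrix.smul_mul, Matrix.mul_smul, smul_smul, h, smul_smul, hi]; simp⟩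
  obtain ⟨s, hs, hX2⟩ := norm1 x hx hxs
  obtain ⟨t, ht, hY2⟩ := norm1 y hy hys
  set X := s • (x : Matrix (Fin 4) (Fin 4) F)
  set Y := t • (y : Matrix (Fin 4) (Fin 4) F)
  have hXY : X * Y = Y * X := by simp [X, Y, hcomm, smul_smul, mul_comm s t]
  set E := (4 : F)⁻¹ • ((1 + X) * (1 + Y))
  have hEE : E * E = E := by
    have h : ((1 + X) * (1 + Y)) * ((1 + X) * (1 + Y)) = (4 : F) • ((1 + X) * (1 + Y)) := by
      have hX' : (1 + X) * (1 + X) = (2 : F) • (1 + X) := by
        simp only [add_mul, mul_add, one_mul, mul_one, hX2]; module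
      have hY' : (1 + Y) * (1 + Y) = (2 : F) • (1 + Y) := by
        simp only [add_mul, mul_add, one_mul, mul_one, hY2]; module
      have hc : (1 + Y) * (1 + X) = (1 + X) * (1 + Y) := by
        simp only [add_mul, mul_add, one_mul, mul_one, hXY]; abel
      calc ((1 + X) * (1 + Y)) * ((1 + X) * (1 + Y)) = (1 + X) * ((1 + Y) * (1 + X)) * (1 + Y) := by
            simp only [mul_assoc]
        _ = ((1 + X) * (1 + X)) * ((1 + Y) * (1 + Y)) := by rw [hc]; simp only [mul_assoc]
        _ = _ := by rw [hX', hY', Matrix.smul_mul, Matrix.mul_smul, smul_smul]; norm_num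
    simp only [E, Matrix.smul_mul, Matrix.mul_smul, smul_smul, h]
    congr 1; field_simp
  have htrE : Matrix.trace E = 1 := by
    simp only [E, X, Y, add_mul, mul_add, one_mul, mul_one, Matrix.trace_smul, Matrix.trace_add,
      Matrix.smul_mul, Matrix.mul_smul, hd.trace_zero hx hxs, hd.trace_zero hy hys, ← Units.val_mul,
      hd.trace_zero (mul_mem hx hy) hxys, Matrix.trace_one, smul_eq_mul, mul_zero, add_zero]
    simp [h4]
  -- rank one
  let p := LinearMap.range (Matrix.toLin' E)
  have hproj : LinearMap.IsProj p (Matrix.toLin' E) :=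
    ⟨fun v => ⟨v, rfl⟩, by rintro _ ⟨v, rfl⟩; simp [Matrix.mulVec_mulVec, hEE]⟩
  have htr := hproj.trace
  rw [Matrix.trace_toLin'_eq, htrE] at htr
  have hr1 : Module.finrank F p = 1 := by
    have hle := Submodule.finrank_le p
    rw [Module.finrank_fin_fun] at hle
    set r := Module.finrank F p with hrdef
    interval_cases r
    · simp at htr
    · rfl
    · exact absurd htr (fun h => one_ne_zero (α := F) (by push_cast at h; linear_combination -h))
    · exact absurd htr (fun h => h2 (by push_cast at h; linear_combination -h))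
    · exfalso
      have hp : p = ⊤ := Submodule.eq_top_of_finrank_eq (by rw [Module.finrank_fin_fun]; exact hrdef.symm)
      have hE1 : E = 1 := Matrix.toLin'.injective (LinearMap.ext fun v => by
        have := hproj.map_id v (by rw [hp]; exact Submodule.mem_top)
        simpa using this)
      have h5 : (1 + X) * (1 + Y) = (4 : F) • 1 := by
        have := congrArg (fun M => (4 : F) • M) hE1
        simpa [E, smul_smul, h4] using this
      have h6 := congrArg (fun M => X * M) h5
      simp only [← mul_assoc, mul_add X, hX2, mul_one] at h6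
      rw [add_comm X 1, h5, Matrix.mul_smul, mul_one] at h6
      have hX1 : X = 1 := by
        have := congrArg (fun M => (4:F)⁻¹ • M) h6
        simpa [smul_smul, h4] using this.symm
      have hs0 : s ≠ 0 := fun h => by simp [X, h] at hX1
      exact hxs (scalar_of_val (c := s⁻¹) (by
        rw [← hX1]; simp [X, smul_smul, hs0]))
  obtain ⟨v, hvp, hv0⟩ := (Submodule.ne_bot_iff p).1 (fun h => by rw [h, finrank_bot] at hr1; exact zero_ne_one hr1)
  have hsing : ∀ b, ∃ c : F, E *ᵥ b = c • v := by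
    intro b
    obtain ⟨c, hc⟩ := (finrank_eq_one_iff_of_nonzero' (⟨v, hvp⟩ : p) (by simpa using hv0)).1 hr1 ⟨E *ᵥ b, ⟨b, by simp⟩⟩
    exact ⟨c, (congrArg Subtype.val hc).symm⟩
  choose w₀ hw₀ using fun j : Fin 4 => hsing (Pi.single j 1)
  have hE : E = Matrix.vecMulVec v w₀ := by
    ext a b
    have := congrFun (hw₀ b) a
    rw [Matrix.mulVec_single_one] at this
    simpa [Matrix.vecMulVec, mul_comm] using this
  have hw0 : w₀ ≠ 0 := fun h => by
    rw [hE, h] at htrE; simp [Matrix.vecMulVec, Matrix.trace] at htrE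
  have htrM : ∀ M : Matrix (Fin 4) (Fin 4) F, w₀ ⬝ᵥ (M *ᵥ v) = Matrix.trace (M * E) := by
    intro M
    rw [hE]
    simp [Matrix.trace, Matrix.mul_apply, Matrix.vecMulVec, dotProduct, Matrix.mulVec, Finset.mul_sum]
    exact Finset.sum_congr rfl fun a _ => Finset.sum_congr rfl fun b _ => by ring
  have hmemF : ∀ z ∈ N, Matrix.trace ((z : Matrix (Fin 4) (Fin 4) F) * E) ∈ F₀ := by
    intro z hz
    simp only [E, X, Y, add_mul, mul_add, one_mul, mul_one, Matrix.mul_smul, Matrix.smul_mul, ← Units.val_mul,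
      Matrix.trace_smul, Matrix.trace_add, smul_eq_mul]
    have hn4 : (4 : F) ∈ F₀ := by simpa using natCast_mem F₀ 4
    have h0 := hd.trace_mem F₀ hi hiF hz
    have h1 := hd.trace_mem F₀ hi hiF (mul_mem hz hx)
    have h2' := hd.trace_mem F₀ hi hiF (mul_mem hz hy)
    have h3 := hd.trace_mem F₀ hi hiF (mul_mem hz (mul_mem hx hy))
    have h4i := inv_mem hn4
    exact add_mem (add_mem (mul_mem h4i h0) (mul_mem h4i (mul_mem hs h1)))
      (add_mem (mul_mem h4i (mul_mem ht h2')) (mul_mem h4i (mul_mem ht (mul_mem hs h3))))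
  -- bases from the orbit
  have hcol : ∃ r : Fin 4 → GL (Fin 4) F, (∀ j, r j ∈ N) ∧
      LinearIndependent F (fun j => (r j : Matrix (Fin 4) (Fin 4) F) *ᵥ v) := by
    have hsp : Submodule.span F ((fun M => M *ᵥ v) '' matrixSet N) = ⊤ := by
      rw [eq_top_iff]
      intro b _
      obtain ⟨c, hc⟩ := Function.ne_iff.1 hv0
      have hb : b = (Matrix.of fun a k => if k = c then b a * (v c)⁻¹ else 0) *ᵥ v := by
        funext a; simp [Matrix.mulVec, dotProduct, mul_assoc, inv_mul_cancel₀ (show v c ≠ 0 by simpa using hc)]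
      rw [hb]
      have : ∀ M : Matrix (Fin 4) (Fin 4) F, M ∈ Submodule.span F (matrixSet N) →
          M *ᵥ v ∈ Submodule.span F ((fun M => M *ᵥ v) '' matrixSet N) := by
        intro M hM
        induction hM using Submodule.span_induction with
        | mem z hz => exact Submodule.subset_span ⟨z, hz, rfl⟩
        | zero => simp
        | add a b _ _ ha hb => rw [Matrix.add_mulVec]; exact add_mem ha hb
        | smul a b _ hb => rw [Matrix.smul_mulVec]; exact Submodule.smul_mem _ _ hb
      exact this _ (by rw [hd.span]; exact Submodule.mem_top)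
    obtain ⟨T, hT, hTspan, hTli⟩ := exists_linearIndependent F ((fun M => M *ᵥ v) '' matrixSet N)
    haveI : Fintype T := Fintype.ofFinite T
    let B := Module.Basis.mk hTli (by rw [Subtype.range_coe, hTspan, hsp])
    have hc4 : Fintype.card T = 4 := by rw [← Module.finrank_eq_card_basis B, Module.finrank_fin_fun]
    let e := (Fintype.equivFinOfCardEq hc4).symm
    choose z hz hze using fun j => hT (e j).2
    choose g hg hge using fun j => hz j
    refine ⟨g, hg, ?_⟩
    have : (fun j => (g j : Matrix (Fin 4) (Fin 4) F) *ᵥ v) = Subtype.val ∘ e := funext fun j => by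
      simp only at hge hze
      rw [hge j]; exact hze j
    rw [this]
    exact hTli.comp _ e.injective
  have hrow : ∃ r : Fin 4 → GL (Fin 4) F, (∀ j, r j ∈ N) ∧
      LinearIndependent F (fun j => Matrix.vecMul w₀ (r j : Matrix (Fin 4) (Fin 4) F)) := by
    have hsp : Submodule.span F ((fun M => Matrix.vecMul w₀ M) '' matrixSet N) = ⊤ := by
      rw [eq_top_iff]
      intro b _
      obtain ⟨c, hc⟩ := Function.ne_iff.1 hw0
      have hb : b = Matrix.vecMul w₀ (Matrix.of fun a k => if a = c then b k * (w₀ c)⁻¹ else 0) := by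
        funext a; simp [Matrix.vecMul, dotProduct]; field_simp [show w₀ c ≠ 0 by simpa using hc]
      rw [hb]
      have : ∀ M : Matrix (Fin 4) (Fin 4) F, M ∈ Submodule.span F (matrixSet N) →
          Matrix.vecMul w₀ M ∈ Submodule.span F ((fun M => Matrix.vecMul w₀ M) '' matrixSet N) := by
        intro M hM
        induction hM using Submodule.span_induction with
        | mem z hz => exact Submodule.subset_span ⟨z, hz, rfl⟩
        | zero => simp
        | add a b _ _ ha hb => rw [Matrix.vecMul_add]; exact add_mem ha hb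
        | smul a b _ hb => rw [Matrix.vecMul_smul]; exact Submodule.smul_mem _ _ hb
      exact this _ (by rw [hd.span]; exact Submodule.mem_top)
    obtain ⟨T, hT, hTspan, hTli⟩ := exists_linearIndependent F ((fun M => Matrix.vecMul w₀ M) '' matrixSet N)
    haveI : Fintype T := Fintype.ofFinite T
    let B := Module.Basis.mk hTli (by rw [Subtype.range_coe, hTspan, hsp])
    have hc4 : Fintype.card T = 4 := by rw [← Module.finrank_eq_card_basis B, Module.finrank_fin_fun]
    let e := (Fintype.equivFinOfCardEq hc4).symm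
    choose z hz hze using fun j => hT (e j).2
    choose g hg hge using fun j => hz j
    refine ⟨g, hg, ?_⟩
    have : (fun j => Matrix.vecMul w₀ (g j : Matrix (Fin 4) (Fin 4) F)) = Subtype.val ∘ e := funext fun j => by
      simp only at hge hze
      rw [hge j]; exact hze j
    rw [this]
    exact hTli.comp _ e.injective
  obtain ⟨r, hr, hrli⟩ := hcol
  obtain ⟨r', hr', hrli'⟩ := hrow
  let Pm : Matrix (Fin 4) (Fin 4) F := Matrix.of fun a j => ((r j : Matrix (Fin 4) (Fin 4) F) *ᵥ v) a
  let Qm : Matrix (Fin 4) (Fin 4) F := Matrix.of fun j a => Matrix.vecMul w₀ (r' j : Matrix (Fin 4) (Fin 4) F) a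
  have hPu : IsUnit Pm := Matrix.linearIndependent_cols_iff_isUnit.1 hrli
  have hQu : IsUnit Qm := Matrix.linearIndependent_rows_iff_isUnit.1 hrli'
  have hent : ∀ z ∈ N, ∀ k j, (Qm * (z : Matrix (Fin 4) (Fin 4) F) * Pm) k j ∈ F₀ := by
    intro z hz k j
    have e : (Qm * (z : Matrix (Fin 4) (Fin 4) F) * Pm) k j
        = w₀ ⬝ᵥ (((r' k * z * r j : GL (Fin 4) F) : Matrix (Fin 4) (Fin 4) F) *ᵥ v) := by
      rw [Units.val_mul, Units.val_mul, ← Matrix.mulVec_mulVec, Matrix.dotProduct_mulVec, ← Matrix.vecMul_vecMul]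
      simp only [Matrix.mul_apply, Pm, Qm, Matrix.of_apply]
      rfl
    rw [e, htrM]
    exact hmemF _ (mul_mem (mul_mem (hr' k) hz) (hr j))
  let M₀ : Matrix (Fin 4) (Fin 4) F₀ := Matrix.of fun k j => ⟨(Qm * Pm) k j, by
    simpa using hent 1 (one_mem N) k j⟩
  have hM : M₀.map F₀.subtype = Qm * Pm := rfl
  have hdet : M₀.det ≠ 0 := fun h0 => by
    have h1 : (Qm * Pm).det = F₀.subtype M₀.det := (F₀.subtype.map_det M₀).symm
    rw [h0, map_zero] at h1
    exact ((hQu.mul hPu).map Matrix.detMonoidHom).ne_zero h1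
  have hinv : (M₀⁻¹).map F₀.subtype * (Qm * Pm) = 1 := by
    rw [← hM, ← Matrix.map_mul, Matrix.nonsing_inv_mul _ (Ne.isUnit hdet)]
    simp
  refine ⟨hPu.unit, fun z hz a b => ?_⟩
  have e : ((hPu.unit⁻¹ * z * hPu.unit : GL (Fin 4) F) : Matrix (Fin 4) (Fin 4) F)
      = (M₀⁻¹).map F₀.subtype * (Qm * (z : Matrix (Fin 4) (Fin 4) F) * Pm) := by
    have h1 : ((hPu.unit⁻¹ : GL (Fin 4) F) : Matrix (Fin 4) (Fin 4) F) = (M₀⁻¹).map F₀.subtype * Qm := by
      apply hPu.mul_right_cancel
      rw [IsUnit.val_inv_mul, mul_assoc, hinv]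
    rw [Units.val_mul, Units.val_mul, h1]
    simp [mul_assoc]
  rw [e, Matrix.mul_apply]
  exact sum_mem fun l _ => mul_mem ((M₀⁻¹) a l).2 (hent z hz l b)

theorem abelian_case (hd : AbData H N) : GQuad H ∨ GSymp H ∨ GUnit H ∨ GSub H ∨ GSix H := by
  classical
  have h2 := hd.two_ne
  by_cases hI : ∃ i : F, i * i = -1
  · obtain ⟨i, hi⟩ := hI
    obtain ⟨p, _⟩ := CharP.exists F
    haveI : Fact p.Prime := ⟨CharP.char_is_prime F p⟩
    obtain ⟨⟨e, he⟩, hp, hcard⟩ := FiniteField.card F p
    simp only [PNat.mk_coe] at hcard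
    have hp2 : p ≠ 2 := fun h => h2 (by
      have := CharP.cast_eq_zero F p
      rw [h] at this; exact_mod_cast this)
    have hpodd : p % 2 = 1 := hp.eq_two_or_odd.resolve_left hp2
    have hq3 : Fintype.card F % 4 ≠ 3 :=
      (FiniteField.isSquare_neg_one_iff).1 ⟨i, hi.symm⟩
    by_cases he1 : e = 1
    · rw [he1, pow_one] at hcard
      exact Or.inr (Or.inr (Or.inr (Or.inr (hd.six hp hcard (by rw [hcard] at hq3; omega) hi))))
    have hsub : ∀ k, 0 < k → p ^ k < Fintype.card F → i ^ p ^ k = i → GSub H := by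
      intro k hk hlt hfix
      obtain ⟨P, hP⟩ := hd.realisable (fixedSub p k) hi ((mem_fixedSub p k i).2 hfix)
      exact ⟨fixedSub p k, P, fixedSub_ne_top p hk hlt, le_subfield_of_realised hd.normed hd.absIrr _ P hP⟩
    have hi4 : i ^ 4 = 1 := by linear_combination (i * i - 1) * hi
    have hlt : ∀ k, k < e → p ^ k < Fintype.card F := fun k hk => by
      rw [hcard]; exact Nat.pow_lt_pow_right hp.one_lt hk
    by_cases hp1 : p % 4 = 1
    · refine Or.inr (Or.inr (Or.inr (Or.inl (hsub 1 one_pos (hlt 1 (by omega)) ?_))))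
      rw [pow_one]
      conv_lhs => rw [← Nat.div_add_mod p 4, hp1, pow_add, pow_mul, hi4, one_pow, one_mul, pow_one]
    have hp3 : p % 4 = 3 := by omega
    by_cases he2 : 3 ≤ e
    · refine Or.inr (Or.inr (Or.inr (Or.inl (hsub 2 two_pos (hlt 2 (by omega)) ?_))))
      have : p ^ 2 % 4 = 1 := by rw [Nat.pow_mod, hp3]
      conv_lhs => rw [← Nat.div_add_mod (p ^ 2) 4, this, pow_add, pow_mul, hi4, one_pow, one_mul, pow_one]
    have hee : e = 2 := by omega
    let σ : F ≃+* F := frobeniusEquiv F p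
    have hσ : ∀ c, σ c = c ^ p := fun c => rfl
    obtain ⟨G, hG, hinv⟩ := exists_inv σ N (hd.trace_sum_ne σ (fun c hc => by
      rw [hσ, ← pow_succ', ← Nat.div_add_mod (p + 1) 4, show (p + 1) % 4 = 0 by omega, add_zero, pow_mul, hc,
        one_pow]))
    have hne : σ ≠ RingEquiv.refl F := fun h => by
      obtain ⟨c, hc⟩ := exists_pow_ne (F := F) hp.two_le (by
        have := hlt 1 (by omega); rwa [pow_one] at this)
      exact hc (by rw [← hσ, h]; rfl)
    obtain ⟨f, hf, hle⟩ := unitary_case σ hne (fun a => by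
      rw [hσ, hσ, ← pow_mul, ← _root_.sq, ← hee, ← hcard]; exact FiniteField.pow_card a) hd.normed hd.absIrr hG hinv
    exact Or.inr (Or.inr (Or.inl ⟨σ, f, hf, hle⟩))
  · obtain ⟨G, hG, hinv⟩ := exists_inv (RingEquiv.refl F) N (hd.trace_sum_ne _ (fun c hc => by
      have h' : (c * c - 1) * (c * c + 1) = 0 := by linear_combination hc
      rcases mul_eq_zero.1 h' with h | h
      · exact sub_eq_zero.1 h
      · exact absurd ⟨c, eq_neg_of_add_eq_zero_left h⟩ hI))
    rcases odd_form_case h2 hd.normed hd.absIrr hG hinv with h | h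
    · exact Or.inl h
    · exact Or.inr (Or.inl h)

end Cfsg.Agent.Lib.SL4Max
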