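import Cfsg.Agent.Lib.SL4Max.Core

/-!
# SL₄ maximal subgroups: imprimitive subgroups over small fields, forms are proper
-/

set_option autoImplicit false
set_option linter.unusedSectionVars false
set_option maxHeartbeats 400000

namespace Cfsg.Agent.Lib.SL4Max

open Cfsg Cfsg.Geo
open scoped Matrix

variable {F : Type*} [Field F] [Fintype F]

theorem not_sl_le_similarity (f : (Fin 4 → F) → (Fin 4 → F) → F)
    (al : ∀ x y v, f (x + y) v = f x v + f y v) (sl : ∀ (c : F) x v, f (c • x) v = c * f x v)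
    (ar : ∀ v x y, f v (x + y) = f v x + f v y) (hnd : IsNondegenerateForm f) :
    ¬ specialLinear (Fin 4) F ≤ similarityGroup f := by
  classical
  intro hle
  -- a transvection with centre `d` fixes the form on a hyperplane, hence has multiplier one
  have key : ∀ u d : Fin 4 → F, d ≠ 0 → u ∉ Submodule.span F {d} → f u d = 0 := by
    intro u d hd hu
    obtain ⟨a, ha⟩ := exists_nmem (Submodule.span F {u, d}) (by
      intro h
      have h2 := finrank_span_le_card (R := F) ({u, d} : Set (Fin 4 → F))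
      rw [h, finrank_top, Module.finrank_fin_fun] at h2
      have : ({u, d} : Set (Fin 4 → F)).toFinset.card ≤ 2 := by simp [Finset.card_le_two]
      omega)
    -- extend to a hyperplane avoiding `a`
    obtain ⟨φ, hφa, hφS⟩ := Submodule.exists_dual_map_eq_bot_of_notMem ha inferInstance
    set S := LinearMap.ker φ
    have huS : ∀ w ∈ Submodule.span F {u, d}, w ∈ S := fun w hw => by
      have : φ w ∈ (Submodule.span F {u, d}).map φ := ⟨w, hw, rfl⟩
      rwa [hφS, Submodule.mem_bot] at this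
    have haS : a ∉ S := fun h => hφa h
    obtain ⟨t, ht, hta, htS⟩ := exists_transvection S haS (huS d (Submodule.subset_span (by simp)))
    obtain ⟨c, hc⟩ := hle ht
    have hne : ∃ x ∈ S, ∃ y ∈ S, f x y ≠ 0 := by
      by_contra hcon
      push Not at hcon
      let g : (Fin 4 → F) →+ F := AddMonoidHom.mk' (fun w => f a w) (fun x y => ar a x y)
      have hcardS : Fintype.card F < Nat.card S := by
        have h3 : 3 ≤ Module.finrank F S := by
          have h := LinearMap.finrank_range_add_finrank_ker φ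
          have hr : Module.finrank F (LinearMap.range φ) ≤ 1 :=
            (Submodule.finrank_le _).trans (by rw [Module.finrank_self])
          rw [Module.finrank_fin_fun] at h
          change 3 ≤ Module.finrank F (LinearMap.ker φ)
          omega
        rw [Nat.card_eq_fintype_card, Module.card_eq_pow_finrank (K := F) (V := S)]
        calc Fintype.card F = Fintype.card F ^ 1 := (pow_one _).symm
          _ < _ := Nat.pow_lt_pow_right Fintype.one_lt_card (by omega)
      obtain ⟨x, y, hxy, he⟩ := Fintype.exists_ne_map_eq_of_card_lt (fun w : S => g w)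
        (by rwa [Nat.card_eq_fintype_card] at hcardS)
      set w := (x : Fin 4 → F) - (y : Fin 4 → F)
      have hw : w ≠ 0 := fun h => hxy (Subtype.ext (sub_eq_zero.1 h))
      have hwS : w ∈ S := S.sub_mem x.2 y.2
      have haw : f a w = 0 := by
        change g w = 0
        simp only [w, map_sub]; exact sub_eq_zero.2 he
      obtain ⟨⟨z, hz⟩, -⟩ := hnd w hw
      apply hz
      have hzs : z - (φ z / φ a) • a ∈ S := by
        change φ _ = 0
        rw [map_sub, map_smul, smul_eq_mul, div_mul_cancel₀ _ hφa, sub_self]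
      rw [show z = (φ z / φ a) • a + (z - (φ z / φ a) • a) by abel, al, sl, haw, mul_zero, zero_add]
      exact hcon _ hzs _ hwS
    obtain ⟨x, hx, y, hy, hxy⟩ := hne
    have h1 := hc x y
    rw [htS x hx, htS y hy] at h1
    have hc1 : (c : F) = 1 := by
      have : ((c : F) - 1) * f x y = 0 := by linear_combination -h1
      exact sub_eq_zero.1 ((mul_eq_zero.1 this).resolve_right hxy)
    have h2 := hc u a
    rw [htS u (huS u (Submodule.subset_span (by simp))), hta, ar, hc1, one_mul] at h2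
    linear_combination h2
  obtain ⟨u, hu⟩ := exists_ne (0 : Fin 4 → F)
  obtain ⟨-, ⟨x, hx⟩⟩ := hnd u hu
  obtain ⟨z, hz⟩ := exists_nmem (Submodule.span F {u, x}) (by
    intro h
    have h2 := finrank_span_le_card (R := F) ({u, x} : Set (Fin 4 → F))
    rw [h, finrank_top, Module.finrank_fin_fun] at h2
    have : ({u, x} : Set (Fin 4 → F)).toFinset.card ≤ 2 := by simp [Finset.card_le_two]
    omega)
  by_cases hx0 : x = 0
  · apply hx
    have := ar u 0 0
    rw [add_zero] at this
    rw [hx0]; linear_combination -this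
  by_cases hux : u ∈ Submodule.span F {x}
  · apply hx
    obtain ⟨k, hk⟩ := Submodule.mem_span_singleton.1 hux
    have hz0 : z ≠ 0 := fun h => hz (h ▸ Submodule.zero_mem _)
    have h1 : u + z ∉ Submodule.span F {x} := fun h => hz (by
      have h' := Submodule.span_mono (show ({x} : Set (Fin 4 → F)) ⊆ {u, x} by simp) h
      have hu' : u ∈ Submodule.span F ({u, x} : Set (Fin 4 → F)) := Submodule.subset_span (by simp)
      simpa using Submodule.sub_mem _ h' hu')
    have h2 : z ∉ Submodule.span F {x} := fun h => hz (Submodule.span_mono (by simp) h)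
    have e1 := key (u + z) x hx0 h1
    rw [al, key z x hx0 h2, add_zero] at e1
    exact e1
  · exact hx (key u x hx0 hux)

theorem not_sl_le_quad (Q : (Fin 4 → F) → F) (hQ : IsNondegenerateQuadraticForm Q) :
    ¬ specialLinear (Fin 4) F ≤ quadSimilarityGroup Q := fun h =>
  not_sl_le_similarity _ hQ.polar_bilinear.add_left hQ.polar_bilinear.smul_left hQ.polar_bilinear.add_right
    hQ.nondegenerate (h.trans (polar_le Q))

/-- A basis adapted to a decomposition into lines. -/
theorem exists_line_basis {D : Fin 4 → Submodule F (Fin 4 → F)} (hD : IsMDecomposition 1 D) :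
    ∃ b : Module.Basis (Fin 4) F (Fin 4 → F), (∀ i, b i ∈ D i) ∧
      ∀ g ∈ decompositionStabilizer D, ∃ (σ : Equiv.Perm (Fin 4)) (a : Fin 4 → F),
        ∀ j, (g : Matrix (Fin 4) (Fin 4) F) *ᵥ b j = a j • b (σ j) := by
  have hne : ∀ i, D i ≠ ⊥ := fun i hc => by
    have := hD.finrank_eq i
    rw [hc, finrank_bot] at this
    omega
  choose v hv hv0 using fun i => (Submodule.ne_bot_iff _).1 (hne i)
  have hli : LinearIndependent F v := hD.indep.linearIndependent _ hv hv0
  have hspan := hli.span_eq_top_of_card_eq_finrank (by simp)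
  refine ⟨Module.Basis.mk hli hspan.ge, fun i => by simpa using hv i, fun g hg => ?_⟩
  obtain ⟨σ, hσ⟩ := hg
  have h : ∀ j, ∃ c : F, (g : Matrix (Fin 4) (Fin 4) F) *ᵥ v j = c • v (σ j) := by
    intro j
    have hm : (g : Matrix (Fin 4) (Fin 4) F) *ᵥ v j ∈ D (σ j) := by
      rw [← hσ j]; exact ⟨v j, hv j, by simp⟩
    obtain ⟨c, hc⟩ := (finrank_eq_one_iff_of_nonzero' (⟨v (σ j), hv _⟩ : D (σ j)) (by simpa using hv0 _)).1
      (hD.finrank_eq _) ⟨_, hm⟩
    exact ⟨c, (congrArg Subtype.val hc).symm⟩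
  choose c hc using h
  exact ⟨σ, c, fun j => by simpa using hc j⟩

theorem mono_repr (b : Module.Basis (Fin 4) F (Fin 4 → F)) {g : GL (Fin 4) F} {σ : Equiv.Perm (Fin 4)}
    {a : Fin 4 → F} (h : ∀ j, (g : Matrix (Fin 4) (Fin 4) F) *ᵥ b j = a j • b (σ j)) (v : Fin 4 → F) (i : Fin 4) :
    b.repr ((g : Matrix (Fin 4) (Fin 4) F) *ᵥ v) (σ i) = a i * b.repr v i := by
  conv_lhs => rw [← b.sum_repr v]
  simp only [Matrix.mulVec_sum, Matrix.mulVec_smul, h, map_sum, map_smul, Module.Basis.repr_self,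
    Finsupp.coe_finset_sum, Finset.sum_apply, Finsupp.smul_single, smul_eq_mul, mul_one]
  rw [Finset.sum_eq_single i (fun j _ hji => Finsupp.single_eq_of_ne (fun e => hji (σ.injective e).symm)) (by simp)]
  simp [mul_comm]

theorem mono_ne_zero (b : Module.Basis (Fin 4) F (Fin 4 → F)) {g : GL (Fin 4) F} {σ : Equiv.Perm (Fin 4)}
    {a : Fin 4 → F} (h : ∀ j, (g : Matrix (Fin 4) (Fin 4) F) *ᵥ b j = a j • b (σ j)) (j : Fin 4) : a j ≠ 0 := by
  intro h0
  have := congrArg (fun w => ((g⁻¹ : GL (Fin 4) F) : Matrix (Fin 4) (Fin 4) F) *ᵥ w) (h j)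
  simp only [mv_inv, h0, zero_smul, Matrix.mulVec_zero] at this
  exact b.ne_zero j this

theorem mono_det (b : Module.Basis (Fin 4) F (Fin 4 → F)) {g : GL (Fin 4) F} {σ : Equiv.Perm (Fin 4)}
    {a : Fin 4 → F} (h : ∀ j, (g : Matrix (Fin 4) (Fin 4) F) *ᵥ b j = a j • b (σ j)) :
    (g : Matrix (Fin 4) (Fin 4) F).det = (Equiv.Perm.sign σ : ℤ) * ∏ j, a j := by
  have hM : LinearMap.toMatrix b b (Matrix.toLin' (g : Matrix (Fin 4) (Fin 4) F))
      = (Matrix.diagonal a).submatrix σ.symm id := by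
    ext i j
    rw [LinearMap.toMatrix_apply, Matrix.toLin'_apply, h, map_smul, Module.Basis.repr_self]
    by_cases hij : σ j = i
    · subst hij; simp
    · have : σ.symm i ≠ j := fun e => hij (by rw [← e, Equiv.apply_symm_apply])
      simp [Matrix.diagonal, hij, this, Ne.symm hij]
  rw [← LinearMap.det_toLin', ← LinearMap.det_toMatrix b, hM, Matrix.det_permute, Matrix.det_diagonal]
  simp

theorem lines_two {H : Subgroup (GL (Fin 4) F)} (hq : Fintype.card F = 2)
    (hirr : ActsIrreducibly (matrixSet H)) {D : Fin 4 → Submodule F (Fin 4 → F)} (hD : IsMDecomposition 1 D)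
    (hle : H ≤ decompositionStabilizer D) : False := by
  obtain ⟨b, -, hb⟩ := exists_line_basis hD
  set s := ∑ j, b j
  have hfix : ∀ h ∈ H, (h : Matrix (Fin 4) (Fin 4) F) *ᵥ s = s := by
    intro h hh
    obtain ⟨σ, a, ha⟩ := hb h (hle hh)
    have h1 : ∀ j, a j = 1 := fun j => by
      have := FiniteField.pow_card_sub_one_eq_one (a j) (mono_ne_zero b ha j)
      rw [hq] at this; simpa using this
    simp only [s, Matrix.mulVec_sum, ha, h1, one_smul]
    exact Equiv.sum_comp σ (fun j => b j)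
  have hs0 : s ≠ 0 := fun h0 => by
    have := congrArg (fun w => b.repr w 0) h0
    simp [s, Module.Basis.repr_self, Finsupp.single_apply] at this
  rcases irr_iff.1 hirr (Submodule.span F {s}) (fun h hh v hv => by
    obtain ⟨c, rfl⟩ := Submodule.mem_span_singleton.1 hv
    rw [Matrix.mulVec_smul, hfix h hh]
    exact Submodule.smul_mem _ _ (Submodule.mem_span_singleton_self s)) with h | h
  · exact hs0 (Submodule.span_singleton_eq_bot.1 h)
  · have := finrank_span_singleton_le (F := F) s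
    rw [h, finrank_top] at this; simp at this

theorem lines_three {H : Subgroup (GL (Fin 4) F)} (hq : Fintype.card F = 3) (h2 : (2 : F) ≠ 0)
    {D : Fin 4 → Submodule F (Fin 4 → F)} (hD : IsMDecomposition 1 D) (hle : H ≤ decompositionStabilizer D) :
    GQuad H := by
  obtain ⟨b, -, hb⟩ := exists_line_basis hD
  refine ⟨fun v => ∑ i, b.repr v i ^ 2, ⟨fun c v => ?_, ?_, ?_⟩, fun h hh => ?_⟩
  · simp [mul_pow, Finset.mul_sum]
  · have e : QuadraticMap.polar (fun v : Fin 4 → F => ∑ i, b.repr v i ^ 2) = fun u v => 2 * ∑ i, b.repr u i * b.repr v i := by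
      funext u v; simp [QuadraticMap.polar, Fin.sum_univ_four]; ring
    rw [e]
    exact ⟨fun x y v => by simp [Fin.sum_univ_four]; ring, fun c x v => by simp [Fin.sum_univ_four]; ring,
      fun v x y => by simp [Fin.sum_univ_four]; ring, fun c v x => by simp [Fin.sum_univ_four]; ring⟩
  · intro v hv
    obtain ⟨k, hk⟩ : ∃ k, b.repr v k ≠ 0 := by
      by_contra hc; push Not at hc
      exact hv (b.ext_elem fun i => by simp [hc])
    have key : QuadraticMap.polar (fun v : Fin 4 → F => ∑ i, b.repr v i ^ 2) (b k) v ≠ 0 := by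
      have : QuadraticMap.polar (fun v : Fin 4 → F => ∑ i, b.repr v i ^ 2) (b k) v = 2 * b.repr v k := by
        simp [QuadraticMap.polar, Fin.sum_univ_four]
        fin_cases k <;> simp <;> ring
      rw [this]; exact mul_ne_zero h2 hk
    exact ⟨⟨b k, key⟩, ⟨b k, by rw [QuadraticMap.polar_comm]; exact key⟩⟩
  · obtain ⟨σ, a, ha⟩ := hb h (hle hh)
    refine ⟨1, fun v => ?_⟩
    rw [Units.val_one, one_mul]
    change (∑ i, _) = ∑ i, _
    rw [← Equiv.sum_comp σ]
    refine Finset.sum_congr rfl fun i _ => ?_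
    rw [mono_repr b ha]
    have := FiniteField.pow_card_sub_one_eq_one (a i) (mono_ne_zero b ha i)
    rw [hq] at this
    rw [mul_pow, show a i ^ 2 = 1 by simpa using this, one_mul]

theorem lines_four {H : Subgroup (GL (Fin 4) F)} (hq : Fintype.card F = 4)
    {D : Fin 4 → Submodule F (Fin 4 → F)} (hD : IsMDecomposition 1 D) (hle : H ≤ decompositionStabilizer D) :
    GUnit H := by
  obtain ⟨b, -, hb⟩ := exists_line_basis hD
  haveI : Fact (Nat.Prime 2) := ⟨Nat.prime_two⟩
  haveI : CharP F 2 := charP_of_card_eq_prime_pow (p := 2) (f := 2) (by rw [hq]; norm_num)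
  let σ : F ≃+* F := frobeniusEquiv F 2
  have hσ : ∀ c, σ c = c ^ 2 := fun c => rfl
  have hpow : ∀ c : F, c ^ 4 = c := fun c => hq ▸ FiniteField.pow_card c
  refine ⟨σ, fun u v => ∑ i, b.repr u i * σ (b.repr v i), ⟨fun h => ?_, fun a => ?_, fun x y v => ?_,
    fun c x v => ?_, fun v w => ?_, ?_⟩, fun h hh => ?_⟩
  · obtain ⟨c, hc⟩ := exists_pow_ne (F := F) le_rfl (by omega)
    exact hc (by rw [← hσ, h]; rfl)
  · rw [hσ, hσ, ← pow_mul]; exact hpow a
  · simp [Fin.sum_univ_four]; ring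
  · simp [Fin.sum_univ_four]; ring
  · simp only [map_sum, map_mul]
    refine Finset.sum_congr rfl fun i _ => ?_
    rw [hσ (σ _), hσ (b.repr v i), ← pow_mul, hpow, mul_comm]
  · intro v hv
    obtain ⟨k, hk⟩ : ∃ k, b.repr v k ≠ 0 := by
      by_contra hc; push Not at hc
      exact hv (b.ext_elem fun i => by simp [hc])
    refine ⟨⟨b k, ?_⟩, ⟨b k, ?_⟩⟩
    · simp only [Fin.sum_univ_four, Module.Basis.repr_self]
      fin_cases k <;> simpa using hk
    · simp only [Fin.sum_univ_four, Module.Basis.repr_self]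
      fin_cases k <;> simpa using hk
  · obtain ⟨p, a, ha⟩ := hb h (hle hh)
    refine ⟨1, fun u v => ?_⟩
    rw [Units.val_one, one_mul]
    change (∑ i, _) = ∑ i, _
    rw [← Equiv.sum_comp p]
    refine Finset.sum_congr rfl fun i _ => ?_
    rw [mono_repr b ha, mono_repr b ha, map_mul, hσ (a i)]
    have := FiniteField.pow_card_sub_one_eq_one (a i) (mono_ne_zero b ha i)
    rw [hq] at this
    have h3 : a i * a i ^ 2 = 1 := by rw [← pow_succ']; simpa using this
    linear_combination (b.repr u i * σ (b.repr v i)) * h3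

/-- Membership in the regular four-group. -/
def IsV (π : Equiv.Perm (Fin 4)) : Prop := π * π = 1 ∧ (π = 1 ∨ ∀ j, π j ≠ j)

instance : DecidablePred IsV := fun π => by unfold IsV; infer_instance

theorem isV_mul : ∀ p r, IsV p → IsV r → IsV (p * r) ∧ p * r = r * p := by decide +kernel

theorem isV_conj : ∀ p r : Equiv.Perm (Fin 4), IsV p → IsV (r * p * r⁻¹) := by decide +kernel

theorem isV_sign : ∀ p, IsV p → Equiv.Perm.sign p = 1 := by decide +kernel

theorem isV_cases : ∀ p, IsV p → ∀ j, ((j = 0 ∨ j = p 0) ∨ p = 1 ∨ ({j, p j, 0, p 0} : Finset (Fin 4)) = Finset.univ) := by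
  decide +kernel

theorem pair_const {t : Fin 4 → F} (ht : ∀ j, t j ^ 2 = 1) (hprod : ∏ j, t j = 1) {π : Equiv.Perm (Fin 4)}
    (hπ : IsV π) (j : Fin 4) : t (π j) * t j = t (π 0) * t 0 := by
  have hinv : ∀ k, π (π k) = k := fun k => Equiv.Perm.congr_fun hπ.1 k
  rcases isV_cases π hπ j with (h | h) | h1 | h
  · rw [h]
  · rw [h, hinv, mul_comm]
  · subst h1
    simp only [Equiv.Perm.one_apply, ← sq, ht]
  · by_cases h1 : π = 1
    · subst h1
      simp only [Equiv.Perm.one_apply, ← sq, ht]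
    have hfix : ∀ k, π k ≠ k := hπ.2.resolve_left h1
    have hc : ({j, π j, 0, π 0} : Finset (Fin 4)).card = 4 := by rw [h]; simp
    have hcard : j ≠ 0 ∧ j ≠ π 0 := by
      constructor
      · rintro rfl
        rw [show ({(0 : Fin 4), π 0, 0, π 0} : Finset (Fin 4)) = {0, π 0} by ext; simp] at hc
        have := Finset.card_le_two (a := (0 : Fin 4)) (b := π 0)
        omega
      · rintro rfl
        rw [hinv, show ({π 0, (0 : Fin 4), 0, π 0} : Finset (Fin 4)) = {0, π 0} by ext; simp [or_comm]] at hc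
        have := Finset.card_le_two (a := (0 : Fin 4)) (b := π 0)
        omega
    have hp : ∏ k, t k = t j * (t (π j) * (t 0 * t (π 0))) := by
      rw [← h, Finset.prod_insert, Finset.prod_insert, Finset.prod_insert, Finset.prod_singleton]
      · simp [Ne.symm (hfix 0)]
      · simp only [Finset.mem_insert, Finset.mem_singleton, not_or]
        exact ⟨fun e => hcard.2 (by rw [← e, hinv]), fun e => hcard.1 (π.injective e)⟩
      · simp only [Finset.mem_insert, Finset.mem_singleton, not_or]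
        exact ⟨(hfix j).symm, hcard.1, hcard.2⟩
    rw [hprod] at hp
    have h0 := ht 0
    have h1' := ht (π 0)
    linear_combination (-(t (π 0) * t 0)) * hp - t (π j) * t j * (t 0 ^ 2 * h1' + h0)

theorem lines_five {H : Subgroup (GL (Fin 4) F)} (hq : Fintype.card F = 5) (hsl : H ≤ specialLinear (Fin 4) F)
    {D : Fin 4 → Submodule F (Fin 4 → F)} (hD : IsMDecomposition 1 D) (hle : H ≤ decompositionStabilizer D) :
    GSix H := by
  classical
  obtain ⟨b, -, hb⟩ := exists_line_basis hD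
  haveI : Fact (Nat.Prime 5) := ⟨by norm_num⟩
  haveI : CharP F 5 := charP_of_card_eq_prime_pow (p := 5) (f := 1) (by rw [hq]; norm_num)
  have h5 : (5 : F) = 0 := CharP.cast_eq_zero F 5
  have h2 : (2 : F) ≠ 0 := fun h => one_ne_zero (α := F) (by linear_combination h5 - 2 * h)
  have h4 : ∀ c : F, c ≠ 0 → c ^ 4 = 1 := fun c hc => by
    have := FiniteField.pow_card_sub_one_eq_one c hc
    rwa [hq] at this
  -- monomial description
  let M : GL (Fin 4) F → Equiv.Perm (Fin 4) → (Fin 4 → F) → Prop := fun g π a =>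
    ∀ j, (g : Matrix (Fin 4) (Fin 4) F) *ᵥ b j = a j • b (π j)
  have Mmul : ∀ g g' π π' a a', M g π a → M g' π' a' → M (g * g') (π * π') (fun j => a' j * a (π' j)) := by
    intro g g' π π' a a' h h' j
    rw [mv_mul, h', Matrix.mulVec_smul, h, smul_smul]; rfl
  have ext_b : ∀ g g' : GL (Fin 4) F,
      (∀ j, (g : Matrix (Fin 4) (Fin 4) F) *ᵥ b j = (g' : Matrix (Fin 4) (Fin 4) F) *ᵥ b j) → g = g' := fun g g' h =>
    Units.ext (Matrix.toLin'.injective (b.ext fun j => by simpa using h j))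
  have mk : ∀ (π : Equiv.Perm (Fin 4)) (a : Fin 4 → F), (∀ j, a j ≠ 0) → ∃ g : GL (Fin 4) F, M g π a := by
    intro π a ha
    let f := b.constr F (fun j => a j • b (π j))
    let f' := b.constr F (fun j => (a (π.symm j))⁻¹ • b (π.symm j))
    have h1 : f ∘ₗ f' = LinearMap.id := b.ext fun j => by simp [f, f', smul_smul, ha]
    have h2 : f' ∘ₗ f = LinearMap.id := b.ext fun j => by simp [f, f', smul_smul, ha]
    refine ⟨⟨LinearMap.toMatrix' f, LinearMap.toMatrix' f',
      by rw [← LinearMap.toMatrix'_comp, h1, LinearMap.toMatrix'_id],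
      by rw [← LinearMap.toMatrix'_comp, h2, LinearMap.toMatrix'_id]⟩, fun j => ?_⟩
    change LinearMap.toMatrix' f *ᵥ b j = _
    rw [LinearMap.toMatrix'_mulVec]; simp [f]
  let Ok : Equiv.Perm (Fin 4) → (Fin 4 → F) → Prop := fun π a =>
    IsV π ∧ (∀ j, a j ^ 2 = a 0 ^ 2) ∧ ∏ j, a j = 1
  let N : Subgroup (GL (Fin 4) F) :=
  { carrier := {g | ∃ π a, M g π a ∧ Ok π a}
    mul_mem' := by
      rintro g g' ⟨π, a, hg, hV, hs, hp⟩ ⟨π', a', hg', hV', hs', hp'⟩
      refine ⟨π * π', _, Mmul g g' π π' a a' hg hg', (isV_mul π π' hV hV').1, fun j => ?_, ?_⟩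
      · rw [mul_pow, mul_pow, hs', hs (π' j), hs (π' 0)]
      · rw [Finset.prod_mul_distrib, hp', Equiv.prod_comp π' a, hp, one_mul]
    one_mem' := ⟨1, fun _ => 1, fun j => by simp, ⟨by simp, Or.inl rfl⟩, fun j => rfl, by simp⟩
    inv_mem' := by
      rintro g ⟨π, a, hg, hV, hs, hp⟩
      have hinv : ∀ k, π (π k) = k := fun k => Equiv.Perm.congr_fun hV.1 k
      refine ⟨π, fun j => (a (π j))⁻¹, fun j => ?_, hV, fun j => ?_, ?_⟩
      · have h := congrArg (fun w => (a (π j))⁻¹ • ((g⁻¹ : GL (Fin 4) F) : Matrix (Fin 4) (Fin 4) F) *ᵥ w) (hg (π j))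
        simp only [mv_inv, Matrix.mulVec_smul, smul_smul, hinv, inv_mul_cancel₀ (mono_ne_zero b hg _), one_smul] at h
        exact h.symm
      · simp only [inv_pow, hs (π j), hs (π 0)]
      · rw [Equiv.prod_comp π (fun k => (a k)⁻¹), Finset.prod_inv_distrib, hp, inv_one] }
  have mkN : ∀ π a, IsV π → (∀ j, a j ^ 2 = a 0 ^ 2) → ∏ j, a j = 1 → ∃ g ∈ N, M g π a := by
    intro π a h1 h2' h3
    have ha : ∀ j, a j ≠ 0 := fun j h0 => by
      rw [Finset.prod_eq_zero (Finset.mem_univ j) h0] at h3; exact zero_ne_one h3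
    obtain ⟨g, hg⟩ := mk π a ha
    exact ⟨g, ⟨π, a, hg, h1, h2', h3⟩, hg⟩
  have const : ∀ {g : GL (Fin 4) F} {π : Equiv.Perm (Fin 4)} {a : Fin 4 → F}, M g π a → Ok π a →
      ∀ ρ, IsV ρ → ∀ j, a (ρ j) * a j = a (ρ 0) * a 0 := by
    intro g π a hg hok ρ hρ j
    have ha0 : a 0 ≠ 0 := mono_ne_zero b hg 0
    have h := pair_const (t := fun k => a k * (a 0)⁻¹) (fun k => by
      rw [mul_pow, hok.2.1 k, ← mul_pow, mul_inv_cancel₀ ha0, one_pow]) (by
      rw [Finset.prod_mul_distrib, hok.2.2, one_mul, Finset.prod_const, Finset.card_univ, Fintype.card_fin,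
        inv_pow, h4 _ ha0, inv_one]) hρ j
    field_simp at h
    linear_combination h
  have scal : ∀ (g : GL (Fin 4) F) (c : F), M g 1 (fun _ => c) → g ∈ scalars (Fin 4) F := by
    intro g c h
    refine scalar_of_val (c := c) (Matrix.toLin'.injective (b.ext fun j => ?_))
    simpa [Matrix.smul_mulVec] using h j
  have hcomm : ∀ x ∈ N, ∀ y ∈ N, x * y * x⁻¹ * y⁻¹ ∈ scalars (Fin 4) F := by
    rintro x ⟨π, a, hx, hox⟩ y ⟨π', a', hy, hoy⟩
    have h1 := Mmul x y π π' a a' hx hy
    have h2' := Mmul y x π' π a' a hy hx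
    set c : F := a' 0 * a (π' 0) / (a 0 * a' (π 0))
    have hne : ∀ j, a j ≠ 0 := mono_ne_zero b hx
    have hne' : ∀ j, a' j ≠ 0 := mono_ne_zero b hy
    have hr : ∀ j, a' j * a (π' j) = c * (a j * a' (π j)) := by
      intro j
      have e1 := const hx hox π' hoy.1 j
      have e2 := const hy hoy π hox.1 j
      have s1 := hox.2.1 j
      have s2 := hoy.2.1 j
      simp only [c]
      rw [div_mul_eq_mul_div, eq_div_iff (mul_ne_zero (hne 0) (hne' _))]
      apply mul_left_cancel₀ (mul_ne_zero (mul_ne_zero (hne 0) (hne' 0)) (mul_ne_zero (hne j) (hne' j)))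
      linear_combination (a 0 * a' 0 * a' j ^ 2 * a 0 * a' (π 0)) * e1
        - (a 0 * a' 0 * a' 0 * a (π' 0) * a j ^ 2) * e2
        + (a 0 ^ 2 * a (π' 0) * a' 0 * a' (π 0)) * s2 * a 0 - (a 0 * a' 0 ^ 2 * a (π' 0) * a' (π 0)) * s1 * a' 0
    have hxy : ∀ j, ((x * y : GL (Fin 4) F) : Matrix (Fin 4) (Fin 4) F) *ᵥ b j
        = c • (((y * x : GL (Fin 4) F) : Matrix (Fin 4) (Fin 4) F) *ᵥ b j) := by
      intro j
      rw [h1 j, h2' j, smul_smul, (isV_mul π π' hox.1 hoy.1).2]
      dsimp only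
      rw [hr]
    have hval : ((x * y : GL (Fin 4) F) : Matrix (Fin 4) (Fin 4) F) = c • ((y * x : GL (Fin 4) F) : Matrix (Fin 4) (Fin 4) F) :=
      Matrix.toLin'.injective (b.ext fun j => by simpa [Matrix.smul_mulVec] using hxy j)
    refine scalar_of_val (c := c) ?_
    rw [show x * y * x⁻¹ * y⁻¹ = (x * y) * (y * x)⁻¹ by group, Units.val_mul, hval, Matrix.smul_mul, ← Units.val_mul,
      mul_inv_cancel, Units.val_one]
  have hsq : ∀ x ∈ N, x * x ∈ scalars (Fin 4) F := by
    rintro x ⟨π, a, hx, hox⟩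
    refine scal _ (a 0 * a (π 0)) (fun j => ?_)
    have h := Mmul x x π π a a hx hx j
    rw [h, hox.1.1]
    dsimp only
    rw [mul_comm (a j), const hx hox π hox.1 j, mul_comm (a (π 0))]
  have hNsl : N ≤ specialLinear (Fin 4) F := by
    rintro x ⟨π, a, hx, hox⟩
    rw [mem_sl, mono_det b hx, hox.2.2, isV_sign π hox.1]; simp
  have hnormed : Normed H N := by
    rintro h hh x ⟨π, a, hx, hox⟩
    obtain ⟨σ, c, hc⟩ := hb h (hle hh)
    have hc0 := mono_ne_zero b hc
    refine ⟨σ * π * σ⁻¹, fun k => a (σ⁻¹ k) * c (π (σ⁻¹ k)) * (c (σ⁻¹ k))⁻¹, fun k => ?_, isV_conj π σ hox.1,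
      fun k => ?_, ?_⟩
    · obtain ⟨j, rfl⟩ := σ.surjective k
      have hinv : ((h⁻¹ : GL (Fin 4) F) : Matrix (Fin 4) (Fin 4) F) *ᵥ b (σ j) = (c j)⁻¹ • b j := by
        have := congrArg (fun w => (c j)⁻¹ • ((h⁻¹ : GL (Fin 4) F) : Matrix (Fin 4) (Fin 4) F) *ᵥ w) (hc j)
        simp only [mv_inv, Matrix.mulVec_smul, smul_smul, inv_mul_cancel₀ (hc0 j), one_smul] at this
        exact this.symm
      rw [mv_mul, mv_mul, hinv, Matrix.mulVec_smul, hx, Matrix.mulVec_smul, Matrix.mulVec_smul, hc, smul_smul, smul_smul]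
      simp only [Equiv.Perm.mul_apply, Equiv.Perm.inv_def, Equiv.symm_apply_apply]
      congr 1; ring
    · have hdet := mono_det b hc
      rw [mem_sl.1 (hsl hh)] at hdet
      have hp2 : (∏ j, c j) ^ 2 = 1 := by
        rcases Int.units_eq_one_or (Equiv.Perm.sign σ) with e | e <;> rw [e] at hdet <;> simp at hdet
        · rw [← hdet, one_pow]
        · rw [show ∏ j, c j = -1 by linear_combination hdet]; norm_num
      have ht := pair_const (t := fun j => c j ^ 2) (fun j => by rw [← pow_mul]; exact h4 _ (hc0 j))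
        (by rw [Finset.prod_pow]; exact hp2) hox.1
      have hi : ∀ j, (c j ^ 2)⁻¹ = c j ^ 2 := fun j => inv_eq_of_mul_eq_one_left (by rw [← pow_add]; exact h4 _ (hc0 j))
      simp only [mul_pow, inv_pow, hox.2.1 (σ⁻¹ k), hox.2.1 (σ⁻¹ 0), hi]
      rw [mul_assoc, mul_assoc, ht (σ⁻¹ k), ht (σ⁻¹ 0)]
    · rw [Equiv.prod_comp σ⁻¹ (fun j => a j * c (π j) * (c j)⁻¹), Finset.prod_mul_distrib, Finset.prod_mul_distrib,
        hox.2.2, Equiv.prod_comp π c, Finset.prod_inv_distrib, one_mul,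
        mul_inv_cancel₀ (Finset.prod_ne_zero_iff.2 fun j _ => hc0 j)]
  obtain ⟨d1, hd1N, hd1⟩ := mkN 1 ![1, 1, -1, -1] ⟨by simp, Or.inl rfl⟩
    (fun j => by fin_cases j <;> simp) (by simp [Fin.prod_univ_four])
  obtain ⟨d2, hd2N, hd2⟩ := mkN 1 ![1, -1, 1, -1] ⟨by simp, Or.inl rfl⟩
    (fun j => by fin_cases j <;> simp) (by simp [Fin.prod_univ_four])
  have hshift : ∀ k, ∃ g ∈ N, (g : Matrix (Fin 4) (Fin 4) F) *ᵥ b 0 = b k ∧
      ∀ l, ∃ g' ∈ N, (g' : Matrix (Fin 4) (Fin 4) F) *ᵥ b k = b l := by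
    have hex : ∀ k l : Fin 4, ∃ p, IsV p ∧ p k = l := by decide +kernel
    have hto : ∀ k l, ∃ g ∈ N, (g : Matrix (Fin 4) (Fin 4) F) *ᵥ b k = b l := by
      intro k l
      obtain ⟨p, hp, rfl⟩ := hex k l
      obtain ⟨g, hg, hM⟩ := mkN p (fun _ => 1) hp (fun j => rfl) (by simp)
      exact ⟨g, hg, by simpa using hM k⟩
    intro k
    obtain ⟨g, hg, h⟩ := hto 0 k
    exact ⟨g, hg, h, hto k⟩
  have habs : ActsAbsolutelyIrreducibly (matrixSet N) := by
    refine ⟨irr_iff.2 fun W hW => ?_, fun X hX => ?_⟩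
    · by_cases h0 : W = ⊥
      · exact Or.inl h0
      right
      obtain ⟨w, hw, hw0⟩ := (Submodule.ne_bot_iff W).1 h0
      obtain ⟨k, hk⟩ : ∃ k, b.repr w k ≠ 0 := by
        by_contra hc; push Not at hc
        exact hw0 (b.ext_elem fun i => by simp [hc])
      let A1 := (d1 : Matrix (Fin 4) (Fin 4) F) *ᵥ w
      let A2 := (d2 : Matrix (Fin 4) (Fin 4) F) *ᵥ w
      let A3 := (d1 : Matrix (Fin 4) (Fin 4) F) *ᵥ A2
      have key : w + (![1, 1, -1, -1] : Fin 4 → F) k • A1 + (![1, -1, 1, -1] : Fin 4 → F) k • A2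
          + ((![1, 1, -1, -1] : Fin 4 → F) k * (![1, -1, 1, -1] : Fin 4 → F) k) • A3 = (4 * b.repr w k) • b k := by
        refine b.ext_elem fun i => ?_
        have r1 : ∀ v i, b.repr ((d1 : Matrix (Fin 4) (Fin 4) F) *ᵥ v) i = (![1, 1, -1, -1] : Fin 4 → F) i * b.repr v i :=
          fun v i => mono_repr b hd1 v i
        have r2 : ∀ v i, b.repr ((d2 : Matrix (Fin 4) (Fin 4) F) *ᵥ v) i = (![1, -1, 1, -1] : Fin 4 → F) i * b.repr v i :=
          fun v i => mono_repr b hd2 v i
        simp only [map_add, map_smul, Finsupp.coe_add, Finsupp.coe_smul, Pi.add_apply, Pi.smul_apply, smul_eq_mul,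
          A1, A2, A3, r1, r2, Module.Basis.repr_self]
        fin_cases k <;> fin_cases i <;> simp <;> ring
      have hbk : b k ∈ W := by
        have h4k : (4 * b.repr w k) ≠ 0 := mul_ne_zero (by
          rw [show (4 : F) = 2 * 2 by norm_num]; exact mul_ne_zero h2 h2) hk
        have hmem : (4 * b.repr w k) • b k ∈ W := by
          rw [← key]
          exact add_mem (add_mem (add_mem hw (W.smul_mem _ (hW d1 hd1N w hw))) (W.smul_mem _ (hW d2 hd2N w hw)))
            (W.smul_mem _ (hW d1 hd1N _ (hW d2 hd2N w hw)))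
        rw [← inv_smul_smul₀ h4k (b k)]
        exact W.smul_mem _ hmem
      rw [eq_top_iff, ← b.span_eq, Submodule.span_le]
      rintro _ ⟨l, rfl⟩
      obtain ⟨-, -, -, h'⟩ := hshift k
      obtain ⟨g, hg, hgl⟩ := h' l
      exact hgl ▸ hW g hg _ hbk
    · have hfix : ∀ (g : GL (Fin 4) F), g ∈ N → ∀ v, X *ᵥ ((g : Matrix (Fin 4) (Fin 4) F) *ᵥ v)
          = (g : Matrix (Fin 4) (Fin 4) F) *ᵥ (X *ᵥ v) := fun g hg v => by
        rw [Matrix.mulVec_mulVec, hX _ ⟨g, hg, rfl⟩, ← Matrix.mulVec_mulVec]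
      set c := b.repr (X *ᵥ b 0) 0
      have hX0 : X *ᵥ b 0 = c • b 0 := by
        refine b.ext_elem fun i => ?_
        rw [map_smul, Module.Basis.repr_self]
        have e1 := congrArg (fun v => b.repr v i) (hfix d1 hd1N (b 0))
        have e2 := congrArg (fun v => b.repr v i) (hfix d2 hd2N (b 0))
        simp only [hd1 0, hd2 0, Equiv.Perm.one_apply, Matrix.cons_val_zero, one_smul] at e1 e2
        rw [show b.repr ((d1 : Matrix (Fin 4) (Fin 4) F) *ᵥ (X *ᵥ b 0)) i = _ from mono_repr b hd1 _ i] at e1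
        rw [show b.repr ((d2 : Matrix (Fin 4) (Fin 4) F) *ᵥ (X *ᵥ b 0)) i = _ from mono_repr b hd2 _ i] at e2
        fin_cases i
        · simp [c]
        all_goals simp at e1 e2 ⊢
        all_goals first
          | exact (mul_eq_zero.1 (show (2 : F) * _ = 0 by linear_combination e1)).resolve_left h2
          | exact (mul_eq_zero.1 (show (2 : F) * _ = 0 by linear_combination e2)).resolve_left h2
      refine ⟨c, Matrix.toLin'.injective (b.ext fun k => ?_)⟩
      obtain ⟨g, hg, hgk, -⟩ := hshift k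
      simp only [Matrix.toLin'_apply, Matrix.smul_mulVec, Matrix.one_mulVec]
      rw [← hgk, hfix g hg, hX0, Matrix.mulVec_smul]
  have hns : ¬ N ≤ scalars (Fin 4) F := fun h => by
    obtain ⟨c, hc⟩ := mem_sc (h hd1N)
    have e0 := congrArg (fun v => b.repr v 0) (hd1 0)
    have e2 := congrArg (fun v => b.repr v 2) (hd1 2)
    simp [hc, sc_val, Matrix.smul_mulVec, -Units.val_eq_one] at e0 e2
    have e2' : (c : F) = -1 := by rw [e2]; simp
    exact h2 (by linear_combination e2' - e0)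
  have hi : (2 : F) * 2 = -1 := by linear_combination h5
  exact AbData.six ⟨hnormed, hNsl, hns, habs, hcomm, hsq⟩ (by norm_num : Nat.Prime 5) hq (by norm_num) hi

theorem planes_small {H : Subgroup (GL (Fin 4) F)} (hq : Fintype.card F ≤ 3) (hsl : H ≤ specialLinear (Fin 4) F)
    {D : Fin 2 → Submodule F (Fin 4 → F)} (hD : IsMDecomposition 2 D) (hle : H ≤ decompositionStabilizer D) :
    GSymp H := by
  classical
  let b0 := Module.finBasisOfFinrankEq F (D 0) (hD.finrank_eq 0)
  let b1 := Module.finBasisOfFinrankEq F (D 1) (hD.finrank_eq 1)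
  let v : Fin 4 → (Fin 4 → F) := ![(b0 0 : Fin 4 → F), b0 1, b1 0, b1 1]
  have hspan : ⊤ ≤ Submodule.span F (Set.range v) := by
    rw [← hD.iSup_eq_top]
    refine iSup_le fun i => ?_
    intro x hx
    fin_cases i
    · have hx' : x = b0.repr ⟨x, hx⟩ 0 • v 0 + b0.repr ⟨x, hx⟩ 1 • v 1 := by
        have := congrArg Subtype.val (b0.sum_repr ⟨x, hx⟩)
        rw [Fin.sum_univ_two] at this
        simpa [Fin.sum_univ_two, v] using this.symm
      rw [hx']
      exact add_mem (Submodule.smul_mem _ _ (Submodule.subset_span ⟨0, rfl⟩)) (Submodule.smul_mem _ _ (Submodule.subset_span ⟨1, rfl⟩))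
    · have hx' : x = b1.repr ⟨x, hx⟩ 0 • v 2 + b1.repr ⟨x, hx⟩ 1 • v 3 := by
        have := congrArg Subtype.val (b1.sum_repr ⟨x, hx⟩)
        rw [Fin.sum_univ_two] at this
        simpa [Fin.sum_univ_two, v] using this.symm
      rw [hx']
      exact add_mem (Submodule.smul_mem _ _ (Submodule.subset_span ⟨2, rfl⟩)) (Submodule.smul_mem _ _ (Submodule.subset_span ⟨3, rfl⟩))
  have hli : LinearIndependent F v := linearIndependent_of_top_le_span_of_card_eq_finrank hspan (by simp)
  let B := Module.Basis.mk hli hspan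
  have hBv : ∀ i, B i = v i := fun i => by simp [B]
  have hD0 : ∀ x ∈ D 0, B.repr x 2 = 0 ∧ B.repr x 3 = 0 := by
    intro x hx
    have hx' : x = b0.repr ⟨x, hx⟩ 0 • B 0 + b0.repr ⟨x, hx⟩ 1 • B 1 := by
      have := congrArg Subtype.val (b0.sum_repr ⟨x, hx⟩)
      rw [Fin.sum_univ_two] at this
      simpa [Fin.sum_univ_two, hBv, v] using this.symm
    constructor <;> rw [hx'] <;> simp
  have hD1 : ∀ x ∈ D 1, B.repr x 0 = 0 ∧ B.repr x 1 = 0 := by
    intro x hx
    have hx' : x = b1.repr ⟨x, hx⟩ 0 • B 2 + b1.repr ⟨x, hx⟩ 1 • B 3 := by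
      have := congrArg Subtype.val (b1.sum_repr ⟨x, hx⟩)
      rw [Fin.sum_univ_two] at this
      simpa [Fin.sum_univ_two, hBv, v] using this.symm
    constructor <;> rw [hx'] <;> simp
  let f : (Fin 4 → F) → (Fin 4 → F) → F := fun x y =>
    B.repr x 0 * B.repr y 1 - B.repr x 1 * B.repr y 0 + (B.repr x 2 * B.repr y 3 - B.repr x 3 * B.repr y 2)
  have hskew : ∀ x y, f x y = - f y x := fun x y => by simp only [f]; ring
  refine ⟨f, ⟨⟨fun x y z => by simp [f]; ring, fun c x z => by simp [f]; ring, fun z x y => by simp [f]; ring,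
    fun c z x => by simp [f]; ring⟩, hskew, fun x => by simp only [f]; ring, fun x hx => ?_⟩, fun g hg => ?_⟩
  · suffices h : ∃ y, f y x ≠ 0 by
      obtain ⟨y, hy⟩ := h
      exact ⟨⟨y, hy⟩, ⟨y, by rw [hskew]; simpa using hy⟩⟩
    by_contra hc; push Not at hc
    apply hx
    have h0 := hc (B 0); have h1 := hc (B 1); have h2 := hc (B 2); have h3 := hc (B 3)
    simp [f] at h0 h1 h2 h3
    exact B.ext_elem fun i => by fin_cases i <;> simp [h0, h1, h2, h3]
  · obtain ⟨σ, hσ⟩ := hle hg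
    set M := LinearMap.toMatrix B B (Matrix.toLin' (g : Matrix (Fin 4) (Fin 4) F))
    have hM : ∀ x i, B.repr ((g : Matrix (Fin 4) (Fin 4) F) *ᵥ x) i = ∑ j, M i j * B.repr x j := by
      intro x i
      have := congrFun (LinearMap.toMatrix_mulVec_repr B B (Matrix.toLin' (g : Matrix (Fin 4) (Fin 4) F)) x) i
      rw [Matrix.toLin'_apply] at this
      rw [← this]; rfl
    have hdet : M.det = 1 := by
      rw [LinearMap.det_toMatrix, LinearMap.det_toLin', mem_sl.1 (hsl hg)]
    have sq1 : ∀ d : F, d ≠ 0 → d * d = 1 := by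
      intro d hd
      have h := FiniteField.pow_card_sub_one_eq_one d hd
      have : Fintype.card F = 2 ∨ Fintype.card F = 3 := by
        have := Fintype.one_lt_card (α := F); omega
      rcases this with e | e <;> rw [e] at h
      · simp at h; rw [h, one_mul]
      · simpa [sq] using h
    have mem : ∀ (i : Fin 2) x, x ∈ D i → (g : Matrix (Fin 4) (Fin 4) F) *ᵥ x ∈ D (σ i) := fun i x hx => by
      rw [← hσ i]; exact ⟨x, hx, by simp⟩
    have entry : ∀ i j, M i j = B.repr ((g : Matrix (Fin 4) (Fin 4) F) *ᵥ B j) i := fun i j => by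
      simp [M, LinearMap.toMatrix_apply]
    have hB0 : B 0 ∈ D 0 ∧ B 1 ∈ D 0 ∧ B 2 ∈ D 1 ∧ B 3 ∈ D 1 := by simp [hBv, v]
    have hperm : ∀ p : Equiv.Perm (Fin 2), p = 1 ∨ p = Equiv.swap 0 1 := by decide
    rcases hperm σ with h | h <;> subst h
    · have a0 := hD0 _ (mem 0 _ hB0.1); have a1 := hD0 _ (mem 0 _ hB0.2.1)
      have a2 := hD1 _ (mem 1 _ hB0.2.2.1); have a3 := hD1 _ (mem 1 _ hB0.2.2.2)
      simp only [← entry] at a0 a1 a2 a3
      have hd : M.det = (M 0 0 * M 1 1 - M 0 1 * M 1 0) * (M 2 2 * M 3 3 - M 2 3 * M 3 2) := by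
        rw [Matrix.det_succ_row_zero]
        simp [Fin.sum_univ_succ, Matrix.det_fin_three, Fin.succAbove, a0, a1, a2, a3]
        ring
      set d := M 0 0 * M 1 1 - M 0 1 * M 1 0
      rw [hd] at hdet
      have hd0 : d ≠ 0 := left_ne_zero_of_mul (hdet.trans_ne one_ne_zero)
      have he : M 2 2 * M 3 3 - M 2 3 * M 3 2 = d := by
        have := sq1 d hd0
        linear_combination d * hdet - (M 2 2 * M 3 3 - M 2 3 * M 3 2) * this
      refine ⟨Units.mk0 d hd0, fun x y => ?_⟩
      simp only [f, hM, Fin.sum_univ_four, a0, a1, a2, a3, zero_mul, zero_add, add_zero, Units.val_mk0]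
      linear_combination (B.repr x 2 * B.repr y 3 - B.repr x 3 * B.repr y 2) * he
    · have a0 := hD1 _ (mem 0 _ hB0.1); have a1 := hD1 _ (mem 0 _ hB0.2.1)
      have a2 := hD0 _ (mem 1 _ hB0.2.2.1); have a3 := hD0 _ (mem 1 _ hB0.2.2.2)
      simp only [← entry] at a0 a1 a2 a3
      have hd : M.det = (M 0 2 * M 1 3 - M 0 3 * M 1 2) * (M 2 0 * M 3 1 - M 2 1 * M 3 0) := by
        rw [Matrix.det_succ_row_zero]
        simp [Fin.sum_univ_succ, Matrix.det_fin_three, Fin.succAbove, a0, a1, a2, a3]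
        ring
      set d := M 0 2 * M 1 3 - M 0 3 * M 1 2
      rw [hd] at hdet
      have hd0 : d ≠ 0 := left_ne_zero_of_mul (hdet.trans_ne one_ne_zero)
      have he : M 2 0 * M 3 1 - M 2 1 * M 3 0 = d := by
        have := sq1 d hd0
        linear_combination d * hdet - (M 2 0 * M 3 1 - M 2 1 * M 3 0) * this
      refine ⟨Units.mk0 d hd0, fun x y => ?_⟩
      simp only [f, hM, Fin.sum_univ_four, a0, a1, a2, a3, zero_mul, zero_add, add_zero, Units.val_mk0]
      linear_combination (B.repr x 0 * B.repr y 1 - B.repr x 1 * B.repr y 0) * he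

end Cfsg.Agent.Lib.SL4Max
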