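import Cfsg.Agent.Lib.SL4Max.Comm

/-!
# SL₄ maximal subgroups: what a normalised non-scalar subgroup gives
-/

set_option autoImplicit false
set_option linter.unusedSectionVars false

namespace Cfsg.Agent.Lib.SL4Max

open Cfsg Cfsg.Geo
open scoped Matrix

variable {F : Type*} [Field F] [Fintype F]

/-- `H` preserves a quadratic form up to scalars. -/
def GQuad (H : Subgroup (GL (Fin 4) F)) : Prop :=
  ∃ Q : (Fin 4 → F) → F, IsNondegenerateQuadraticForm Q ∧ H ≤ quadSimilarityGroup Q

/-- Coordinatewise alternating form on a 2-dimensional space. -/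
noncomputable def om {W : Type*} [AddCommGroup W] [Module F W] (b : Module.Basis (Fin 2) F W) (u v : W) : F :=
  b.repr u 0 * b.repr v 1 - b.repr v 0 * b.repr u 1

section om
variable {W : Type*} [AddCommGroup W] [Module F W] (b : Module.Basis (Fin 2) F W)

theorem om_add_left (x y v : W) : om b (x + y) v = om b x v + om b y v := by simp [om]; ring
theorem om_smul_left (c : F) (x v : W) : om b (c • x) v = c * om b x v := by simp [om]; ring
theorem om_add_right (v x y : W) : om b v (x + y) = om b v x + om b v y := by simp [om]; ring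
theorem om_smul_right (c : F) (v x : W) : om b v (c • x) = c * om b v x := by simp [om]; ring
theorem om_self (x : W) : om b x x = 0 := by simp [om]
theorem om_swap (x y : W) : om b y x = - om b x y := by simp [om]

theorem om_nondeg {a : W} (ha : a ≠ 0) : ∃ x, om b a x ≠ 0 := by
  by_contra hc; push Not at hc
  apply ha
  have h0 := hc (b 0)
  have h1 := hc (b 1)
  simp [om] at h0 h1
  refine b.ext_elem fun i => ?_
  fin_cases i <;> simp [h0, h1]

theorem om_map (f : W →ₗ[F] W) (u v : W) :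
    om b (f u) (f v) = (b.repr (f (b 0)) 0 * b.repr (f (b 1)) 1 - b.repr (f (b 0)) 1 * b.repr (f (b 1)) 0) * om b u v := by
  have e : ∀ w, f w = b.repr w 0 • f (b 0) + b.repr w 1 • f (b 1) := fun w => by
    conv_lhs => rw [← b.sum_repr w]
    rw [Fin.sum_univ_two, map_add, map_smul, map_smul]
  simp [om, e u, e v]
  ring

end om

/-- The maps `W → W` intertwining the action with its twist by a map `θ` on group elements. -/
theorem structure_case {H N : Subgroup (GL (Fin 4) F)} (hirr : ActsIrreducibly (matrixSet H))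
    (hn : Normed H N) (hns : ¬ N ≤ scalars (Fin 4) F) :
    GDec H ∨ GField H ∨ GQuad H ∨ ActsAbsolutelyIrreducibly (matrixSet N) := by
  classical
  set A := Algebra.adjoin F (matrixSet N)
  have hgenA : ∀ x ∈ N, (x : Matrix (Fin 4) (Fin 4) F) ∈ A := fun x hx => Algebra.subset_adjoin ⟨x, hx, rfl⟩
  have hAn : ∀ h ∈ H, ∀ a ∈ A, cj h a ∈ A := by
    intro h hh a ha
    induction ha using Algebra.adjoin_induction with
    | mem x hx =>
      obtain ⟨g, hg, rfl⟩ := hx
      have := hgenA _ (hn h hh g hg)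
      simpa [cj] using this
    | algebraMap c => simp [cj, Algebra.algebraMap_eq_smul_one]; exact Subalgebra.smul_mem _ (one_mem _) c
    | add x y _ _ hx hy => rw [show cj h (x + y) = cj h x + cj h y by simp [cj, mul_add, add_mul]]; exact add_mem hx hy
    | mul x y _ _ hx hy => rw [cj_mul]; exact mul_mem hx hy
  have hAns : ∃ a ∈ A, ∀ c : F, a ≠ c • 1 := by
    obtain ⟨k, hk, hks⟩ := SetLike.not_le_iff_exists.1 hns
    exact ⟨_, hgenA k hk, fun c hc => hks (scalar_of_val hc)⟩
  have commCase : (∀ x ∈ N, ∀ y ∈ N, ∀ v : Fin 4 → F,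
      (x : Matrix (Fin 4) (Fin 4) F) *ᵥ ((y : Matrix (Fin 4) (Fin 4) F) *ᵥ v)
        = (y : Matrix (Fin 4) (Fin 4) F) *ᵥ ((x : Matrix (Fin 4) (Fin 4) F) *ᵥ v)) →
      GDec H ∨ GField H ∨ GQuad H ∨ ActsAbsolutelyIrreducibly (matrixSet N) := by
    intro hcomm
    have hcA : ∀ x ∈ A, ∀ y ∈ A, x * y = y * x := by
      have hgen : ∀ x ∈ matrixSet N, ∀ y ∈ matrixSet N, x * y = y * x := by
        rintro _ ⟨x, hx, rfl⟩ _ ⟨y, hy, rfl⟩
        refine Matrix.toLin'.injective (LinearMap.ext fun v => ?_)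
        simpa [Matrix.mulVec_mulVec] using hcomm x hx y hy v
      intro x hx y hy
      have h1 : ∀ z ∈ matrixSet N, Commute z y := fun z hz => by
        induction hy using Algebra.adjoin_induction with
        | mem w hw => exact hgen z hz w hw
        | algebraMap c => exact (Algebra.commute_algebraMap_left c z).symm
        | add a b _ _ ha hb => exact ha.add_right hb
        | mul a b _ _ ha hb => exact ha.mul_right hb
      induction hx using Algebra.adjoin_induction with
      | mem w hw => exact h1 w hw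
      | algebraMap c => exact Algebra.commute_algebraMap_left c y
      | add a b _ _ ha hb => exact Commute.add_left ha hb
      | mul a b _ _ ha hb => exact Commute.mul_left ha hb
    rcases comm_case hirr A hcA hAn hAns with h | h
    · exact Or.inl h
    · exact Or.inr (Or.inl h)
  -- invariant subspaces
  let IN : Submodule F (Fin 4 → F) → Prop := fun W =>
    ∀ x ∈ N, ∀ v ∈ W, (x : Matrix (Fin 4) (Fin 4) F) *ᵥ v ∈ W
  by_cases hNirr : ∀ W, IN W → W = ⊥ ∨ W = ⊤
  · -- irreducible
    by_cases habs : ∀ M : Matrix (Fin 4) (Fin 4) F, (∀ s ∈ matrixSet N, M * s = s * M) → ∃ c : F, M = c • 1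
    · exact Or.inr (Or.inr (Or.inr ⟨irr_iff.2 hNirr, habs⟩))
    push Not at habs
    obtain ⟨M, hM, hMs⟩ := habs
    set C := Subalgebra.centralizer F (matrixSet N)
    have hCmem : ∀ z, z ∈ C ↔ ∀ s ∈ matrixSet N, s * z = z * s := fun z => Subalgebra.mem_centralizer_iff F
    have hC0 : ∀ z ∈ C, z ≠ 0 → Function.Injective (fun v => z *ᵥ v) := by
      intro z hz hz0
      rcases hNirr (LinearMap.ker (Matrix.toLin' z)) (fun x hx v hv => by
        rw [LinearMap.mem_ker, Matrix.toLin'_apply] at hv ⊢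
        rw [Matrix.mulVec_mulVec, ← (hCmem z).1 hz _ ⟨x, hx, rfl⟩, ← Matrix.mulVec_mulVec, hv,
          Matrix.mulVec_zero]) with h | h
      · have := LinearMap.ker_eq_bot.1 h
        intro a b hab
        exact this (by simpa using hab)
      · exact absurd (Matrix.toLin'.injective (by rw [map_zero]; exact LinearMap.ker_eq_top.1 h)) hz0
    haveI : NoZeroDivisors C := ⟨fun {a b} hab => by
      by_contra hc
      push Not at hc
      obtain ⟨ha, hb⟩ := hc
      apply hb
      refine Subtype.ext (Matrix.toLin'.injective (LinearMap.ext fun v => hC0 a.1 a.2 (fun h => ha (Subtype.ext h)) ?_))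
      have := congrArg (fun z : C => z.1 *ᵥ v) hab
      simpa [Matrix.mulVec_mulVec] using this⟩
    haveI : Nontrivial C := ⟨⟨0, 1, fun h => zero_ne_one (congrArg Subtype.val h)⟩⟩
    haveI : IsDomain C := NoZeroDivisors.to_isDomain _
    have hf := Finite.isDomain_to_isField C
    rcases comm_case hirr C (fun x hx y hy => congrArg Subtype.val (hf.mul_comm ⟨x, hx⟩ ⟨y, hy⟩))
      (fun h hh z hz => (hCmem _).2 fun s hs => by
        obtain ⟨g, hg, rfl⟩ := hs
        have h1 := (hCmem z).1 hz _ ⟨_, hn h⁻¹ (inv_mem hh) g hg, rfl⟩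
        apply cj_inj h⁻¹
        simpa [cj, mul_assoc] using h1)
      ⟨M, (hCmem M).2 fun s hs => (hM s hs).symm, hMs⟩ with h | h
    · exact Or.inl h
    · exact Or.inr (Or.inl h)
  -- reducible: take a minimal invariant subspace
  push Not at hNirr
  obtain ⟨W₁, hW₁i, hW₁0, hW₁t⟩ := hNirr
  have hex : ∃ n, ∃ W, W ≠ ⊥ ∧ IN W ∧ Module.finrank F W = n := ⟨_, W₁, hW₁0, hW₁i, rfl⟩
  obtain ⟨W, hW0, hWi, hWn⟩ := Nat.find_spec hex
  have hmin : ∀ U, IN U → U ≤ W → U = ⊥ ∨ U = W := fun U hU hle => by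
    by_cases h0 : U = ⊥
    · exact Or.inl h0
    · exact Or.inr (Submodule.eq_of_le_of_finrank_le hle (hWn ▸ Nat.find_min' hex ⟨U, h0, hU, rfl⟩))
  let im : GL (Fin 4) F → Submodule F (Fin 4 → F) → Submodule F (Fin 4 → F) := fun g U =>
    U.map (Matrix.toLin' (g : Matrix (Fin 4) (Fin 4) F))
  have mem_im : ∀ g U v, v ∈ im g U ↔ ((g⁻¹ : GL (Fin 4) F) : Matrix (Fin 4) (Fin 4) F) *ᵥ v ∈ U := by
    intro g U v
    constructor
    · rintro ⟨w, hw, rfl⟩; rw [Matrix.toLin'_apply, mv_inv]; exact hw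
    · intro h; exact ⟨_, h, by rw [Matrix.toLin'_apply, mv_inv']⟩
  have fr_im : ∀ g U, Module.finrank F (im g U) = Module.finrank F U := fun g U =>
    ((Submodule.equivMapOfInjective _ (fun a b hab => by
      have := congrArg (fun w => ((g⁻¹ : GL (Fin 4) F) : Matrix (Fin 4) (Fin 4) F) *ᵥ w) hab
      simpa [Matrix.toLin'_apply, Matrix.mulVec_mulVec] using this) U).finrank_eq).symm
  have in_im : ∀ h ∈ H, ∀ U, IN U → IN (im h U) := by
    intro h hh U hU x hx v hv
    rw [mem_im] at hv ⊢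
    have := hU _ (hn h⁻¹ (inv_mem hh) x hx) _ hv
    simpa [Matrix.mulVec_mulVec, mul_assoc] using this
  have hWlt : Module.finrank F W < 4 := by
    have h1 : Nat.find hex ≤ Module.finrank F W₁ := Nat.find_min' hex ⟨W₁, hW₁0, hW₁i, rfl⟩
    have h2 := Submodule.finrank_lt hW₁t
    rw [Module.finrank_fin_fun] at h2
    omega
  have hWne : W ≠ ⊤ := fun h => by rw [h, finrank_top] at hWlt; simp at hWlt
  obtain ⟨h₀, hh₀, hh₀ne⟩ : ∃ h ∈ H, im h W ≠ W := by
    by_contra hc; push Not at hc
    rcases irr_iff.1 hirr W (fun h hh v hv => by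
      have : (h : Matrix (Fin 4) (Fin 4) F) *ᵥ v ∈ im h W := ⟨v, hv, Matrix.toLin'_apply _ _⟩
      rwa [hc h hh] at this) with h | h
    exacts [hW0 h, hWne h]
  set W' := im h₀ W
  have hW'i : IN W' := in_im h₀ hh₀ W hWi
  have inter : ∀ U, IN U → Module.finrank F U = Module.finrank F W → U ≠ W → U ⊓ W = ⊥ := by
    intro U hU hfr hne
    rcases hmin (U ⊓ W) (fun x hx v hv => ⟨hU x hx v hv.1, hWi x hx v hv.2⟩) inf_le_right with h | h
    · exact h
    · exact absurd (Submodule.eq_of_le_of_finrank_le (inf_eq_right.1 h) hfr.le).symm hne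
  have hdisj : W' ⊓ W = ⊥ := inter W' hW'i (fr_im _ _) hh₀ne
  have hm2 : Module.finrank F W ≤ 2 := by
    have h1 := Submodule.finrank_sup_add_finrank_inf_eq W' W
    rw [hdisj, finrank_bot, fr_im] at h1
    have h2 := Submodule.finrank_le (W' ⊔ W)
    rw [Module.finrank_fin_fun] at h2
    omega
  have hm1 : 1 ≤ Module.finrank F W := Submodule.one_le_finrank_iff.2 hW0
  rcases (show Module.finrank F W = 1 ∨ Module.finrank F W = 2 by omega) with hm | hm
  · -- lines
    obtain ⟨w, hw, hw0⟩ := (Submodule.ne_bot_iff W).1 hW0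
    let T : Submodule F (Fin 4 → F) := ⨆ h : H, im h.1 W
    have hT : T = ⊤ := by
      rcases irr_iff.1 hirr T (fun g hg v hv => by
        have hle : T ≤ T.comap (Matrix.toLin' (g : Matrix (Fin 4) (Fin 4) F)) := by
          refine iSup_le fun h => ?_
          rintro _ ⟨u, hu, rfl⟩
          refine Submodule.mem_iSup_of_mem ⟨g * h.1, mul_mem hg h.2⟩ ⟨u, hu, ?_⟩
          simp [Matrix.mulVec_mulVec]
        simpa using hle hv) with h | h
      · exfalso
        have : W ≤ T := le_trans (by intro v hv; exact (mem_im 1 W v).2 (by simpa using hv)) (le_iSup (fun h : H => im h.1 W) 1)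
        exact hW0 (le_bot_iff.1 (h ▸ this))
      · exact h
    refine commCase fun x hx y hy v => ?_
    let D : Matrix (Fin 4) (Fin 4) F :=
      (x : Matrix (Fin 4) (Fin 4) F) * (y : Matrix (Fin 4) (Fin 4) F) - (y : Matrix (Fin 4) (Fin 4) F) * (x : Matrix (Fin 4) (Fin 4) F)
    have hle : T ≤ LinearMap.ker (Matrix.toLin' D) := by
      refine iSup_le fun h u hu => ?_
      have hone : Module.finrank F (im h.1 W) = 1 := (fr_im _ _).trans hm
      rcases eq_or_ne u 0 with rfl | hu0
      · simp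
      have sc : ∀ z ∈ N, ∃ c : F, (z : Matrix (Fin 4) (Fin 4) F) *ᵥ u = c • u := by
        intro z hz
        obtain ⟨c, hc⟩ := (finrank_eq_one_iff_of_nonzero' (⟨u, hu⟩ : im h.1 W) (by simpa using hu0)).1 hone
          ⟨_, in_im h.1 h.2 W hWi z hz u hu⟩
        exact ⟨c, (congrArg Subtype.val hc).symm⟩
      obtain ⟨a, ha⟩ := sc x hx
      obtain ⟨b, hb⟩ := sc y hy
      simp [D, Matrix.sub_mulVec, ← Matrix.mulVec_mulVec, ha, hb, Matrix.mulVec_smul, smul_smul, mul_comm]
    have hv : v ∈ LinearMap.ker (Matrix.toLin' D) := hle (by rw [hT]; exact Submodule.mem_top)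
    simpa [D, Matrix.sub_mulVec, ← Matrix.mulVec_mulVec, sub_eq_zero] using hv
  -- planes
  have hW'fr : Module.finrank F W' = 2 := (fr_im _ _).trans hm
  have hcompl : IsCompl W W' := by
    refine ⟨disjoint_iff.2 (by rw [inf_comm]; exact hdisj), codisjoint_iff.2 ?_⟩
    refine Submodule.eq_top_of_finrank_eq ?_
    have h1 := Submodule.finrank_sup_add_finrank_inf_eq W' W
    rw [hdisj, finrank_bot, hW'fr, hm] at h1
    rw [Module.finrank_fin_fun, sup_comm]; omega
  let e := Submodule.prodEquivOfIsCompl W W' hcompl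
  let π : (Fin 4 → F) →ₗ[F] W := (LinearMap.fst F W W').comp e.symm.toLinearMap
  let π' : (Fin 4 → F) →ₗ[F] W' := (LinearMap.snd F W W').comp e.symm.toLinearMap
  have hsplit : ∀ v, ((π v : Fin 4 → F)) + (π' v : Fin 4 → F) = v := by
    intro v
    conv_rhs => rw [← e.apply_symm_apply v]
    rfl
  have huniq : ∀ (a : W) (b : W'), π ((a : Fin 4 → F) + b) = a ∧ π' ((a : Fin 4 → F) + b) = b := by
    intro a b
    have : e.symm ((a : Fin 4 → F) + b) = (a, b) := by rw [LinearEquiv.symm_apply_eq]; rfl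
    exact ⟨by simp [π, this], by simp [π', this]⟩
  let act : ∀ (U : Submodule F (Fin 4 → F)), IN U → N → U →ₗ[F] U := fun U hU x =>
    (Matrix.toLin' (x.1 : Matrix (Fin 4) (Fin 4) F)).restrict
      (fun v hv => by rw [Matrix.toLin'_apply]; exact hU x.1 x.2 v hv)
  have hact : ∀ (U : Submodule F (Fin 4 → F)) (hU : IN U) (x : N) (v : U), ((act U hU x v : U) : Fin 4 → F) = (x.1 : Matrix (Fin 4) (Fin 4) F) *ᵥ (v : Fin 4 → F) :=
    fun U hU x v => rfl
  have hπx : ∀ (x : N) v, π ((x.1 : Matrix (Fin 4) (Fin 4) F) *ᵥ v) = act W hWi x (π v) ∧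
      π' ((x.1 : Matrix (Fin 4) (Fin 4) F) *ᵥ v) = act W' hW'i x (π' v) := by
    intro x v
    have : (x.1 : Matrix (Fin 4) (Fin 4) F) *ᵥ v
        = ((act W hWi x (π v) : W) : Fin 4 → F) + (act W' hW'i x (π' v) : W') := by
      rw [hact W hWi, hact W' hW'i, ← Matrix.mulVec_add, hsplit]
    rw [this]; exact huniq _ _
  by_cases hiso : ∃ φ : W →ₗ[F] W', φ ≠ 0 ∧ ∀ x u, φ (act W hWi x u) = act W' hW'i x (φ u)
  swap
  · -- two inequivalent planes
    left; right
    have key : ∀ U, IN U → Module.finrank F U = 2 → U = W ∨ U = W' := by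
      intro U hU hfr
      by_contra hc; push Not at hc
      have hUW : U ⊓ W = ⊥ := inter U hU (hfr.trans hm.symm) hc.1
      have hUW' : U ⊓ W' = ⊥ := by
        by_contra hne
        have hi : IN (U ⊓ W') := fun x hx v hv => ⟨hU x hx v hv.1, hW'i x hx v hv.2⟩
        have hge := Nat.find_min' hex ⟨U ⊓ W', hne, hi, rfl⟩
        rw [← hWn] at hge
        have h1 : U ⊓ W' = U := Submodule.eq_of_le_of_finrank_le inf_le_left (by omega)
        exact hc.2 (Submodule.eq_of_le_of_finrank_le (inf_eq_left.1 h1) (by omega))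
      have hinj : Function.Injective (π ∘ₗ U.subtype) := by
        rw [← LinearMap.ker_eq_bot, Submodule.eq_bot_iff]
        intro u hu
        have h0 : π (u : Fin 4 → F) = 0 := hu
        have : (u : Fin 4 → F) ∈ W' := by
          rw [← hsplit (u : Fin 4 → F), h0]; simp
        exact Subtype.ext ((Submodule.eq_bot_iff _).1 hUW' _ ⟨u.2, this⟩)
      let ψ := LinearEquiv.ofBijective (π ∘ₗ U.subtype)
        ⟨hinj, (LinearMap.injective_iff_surjective_of_finrank_eq_finrank (hfr.trans hm.symm)).1 hinj⟩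
      apply hiso
      refine ⟨π' ∘ₗ U.subtype ∘ₗ ψ.symm.toLinearMap, fun h0 => ?_, fun x u => ?_⟩
      · apply hc.1
        refine Submodule.eq_of_le_of_finrank_le (fun u hu => ?_) (by omega)
        have h1 : π' u = 0 := by
          have := LinearMap.congr_fun h0 (ψ ⟨u, hu⟩)
          simpa using this
        rw [← hsplit u, h1]; simp
      · obtain ⟨u, rfl⟩ := ψ.surjective u
        have h1 : act W hWi x (ψ u) = ψ (act U hU x u) := by
          change act W hWi x (π (u : Fin 4 → F)) = π ((act U hU x u : U) : Fin 4 → F)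
          rw [hact U hU]; exact (hπx x _).1.symm
        rw [h1]
        simp only [LinearMap.comp_apply, LinearEquiv.coe_coe, LinearEquiv.symm_apply_apply, Submodule.subtype_apply]
        rw [hact U hU]; exact (hπx x _).2
    refine ⟨![W, W'], ⟨le_rfl, by norm_num, fun i => by fin_cases i; exacts [hm, hW'fr], ?_, ?_⟩, fun g hg => ?_⟩
    · refine (iSupIndep_pair (show (0 : Fin 2) ≠ 1 by decide) ?_).2 ?_
      · intro k; fin_cases k <;> simp
      · simpa using hcompl.disjoint
    · refine eq_top_iff.2 (hcompl.codisjoint.eq_top.ge.trans (sup_le ?_ ?_))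
      · exact le_iSup_of_le 0 le_rfl
      · exact le_iSup_of_le 1 le_rfl
    · have hgh : ∀ i : Fin 2, ∃ j : Fin 2, im g (![W, W'] i) = ![W, W'] j := by
        intro i
        have h1 : IN (im g (![W, W'] i)) := by
          fin_cases i
          · exact in_im g hg W hWi
          · exact in_im g hg W' hW'i
        have h2 : Module.finrank F (im g (![W, W'] i)) = 2 := by
          rw [fr_im]; fin_cases i; exacts [hm, hW'fr]
        rcases key _ h1 h2 with h | h
        · exact ⟨0, h⟩
        · exact ⟨1, h⟩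
      choose σ hσ using hgh
      have hinj : Function.Injective σ := by
        intro a b hab
        have h1 : im g (![W, W'] a) = im g (![W, W'] b) := by rw [hσ, hσ, hab]
        have hne : W ≠ W' := fun h => hh₀ne h.symm
        have h3 : ![W, W'] a = ![W, W'] b := by
          ext v
          have := SetLike.ext_iff.1 h1 ((g : Matrix (Fin 4) (Fin 4) F) *ᵥ v)
          rwa [mem_im, mem_im, mv_inv] at this
        fin_cases a <;> fin_cases b <;> simp_all
      exact ⟨Equiv.ofBijective σ (Finite.injective_iff_bijective.1 hinj), fun i => hσ i⟩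
  -- equivalent planes
  obtain ⟨φ, hφ0, hφ⟩ := hiso
  have hφinj : Function.Injective φ := by
    rw [← LinearMap.ker_eq_bot]
    have hk : IN ((LinearMap.ker φ).map W.subtype) := by
      rintro x hx _ ⟨u, hu, rfl⟩
      refine ⟨act W hWi ⟨x, hx⟩ u, ?_, rfl⟩
      change φ _ = 0
      rw [hφ, show φ u = 0 from hu, map_zero]
    rcases hmin _ hk (Submodule.map_subtype_le _ _) with h | h
    · rw [Submodule.eq_bot_iff]
      intro u hu
      have : (u : Fin 4 → F) ∈ (LinearMap.ker φ).map W.subtype := ⟨u, hu, rfl⟩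
      rw [h] at this
      exact Subtype.ext (by simpa using this)
    · exfalso; apply hφ0
      refine LinearMap.ext fun u => ?_
      have : (u : Fin 4 → F) ∈ (LinearMap.ker φ).map W.subtype := by rw [h]; exact u.2
      obtain ⟨u', hu', huu⟩ := this
      rw [← Subtype.ext huu]; exact hu'
  let φe := LinearEquiv.ofBijective φ
    ⟨hφinj, (LinearMap.injective_iff_surjective_of_finrank_eq_finrank (hm.trans hW'fr.symm)).1 hφinj⟩
  by_cases hend : ∀ m : W →ₗ[F] W, (∀ x u, m (act W hWi x u) = act W hWi x (m u)) → ∃ c : F, ∀ u, m u = c • u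
  swap
  · push Not at hend
    obtain ⟨m, hm', hms⟩ := hend
    have hex2 : ∃ u : W, ∀ c : F, m u ≠ c • u := by
      by_contra hc; push Not at hc
      choose c hc using hc
      let bb := Module.finBasisOfFinrankEq F W hm
      have e01 := hc (bb 0 + bb 1)
      rw [map_add, hc, hc, smul_add] at e01
      have f0 := congrArg (fun w => bb.repr w 0) e01
      have f1 := congrArg (fun w => bb.repr w 1) e01
      simp at f0 f1
      obtain ⟨u, hu⟩ := hms (c (bb 0))
      apply hu
      have h1 : c (bb 1) = c (bb 0) := by linear_combination f1 - f0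
      have : m = c (bb 0) • LinearMap.id := bb.ext fun i => by
        fin_cases i <;> simp [hc (bb 0), hc (bb 1), h1]
      rw [this]; simp
    obtain ⟨u, hu⟩ := hex2
    have hu0 : u ≠ 0 := fun h => hu 0 (by simp [h])
    have hli : LinearIndependent F ![u, m u] := by
      rw [LinearIndependent.pair_iff' hu0]
      exact fun a ha => hu a ha.symm
    have hspan : Submodule.span F (Set.range ![u, m u]) = ⊤ :=
      hli.span_eq_top_of_card_eq_finrank (by simp [hm])
    have hcW : ∀ x y : N, ∀ w : W, act W hWi x (act W hWi y w) = act W hWi y (act W hWi x w) := by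
      intro x y
      have hbase : act W hWi x (act W hWi y u) = act W hWi y (act W hWi x u) := by
        have ex : act W hWi x u ∈ Submodule.span F (Set.range ![u, m u]) := by rw [hspan]; exact Submodule.mem_top
        have ey : act W hWi y u ∈ Submodule.span F (Set.range ![u, m u]) := by rw [hspan]; exact Submodule.mem_top
        rw [Matrix.range_cons_cons_empty, Submodule.mem_span_pair] at ex ey
        obtain ⟨a, b, hab⟩ := ex
        obtain ⟨c, d, hcd⟩ := ey
        rw [← hcd, ← hab]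
        simp only [map_add, map_smul, ← hm', ← hab, ← hcd]
        module
      have hm2 : act W hWi x (act W hWi y (m u)) = act W hWi y (act W hWi x (m u)) := by
        rw [← hm', ← hm', ← hm', ← hm', hbase]
      intro w
      have hw : w ∈ Submodule.span F (Set.range ![u, m u]) := by rw [hspan]; exact Submodule.mem_top
      rw [Matrix.range_cons_cons_empty, Submodule.mem_span_pair] at hw
      obtain ⟨a, b, rfl⟩ := hw
      simp [hbase, hm2]
    refine commCase fun x hx y hy v => ?_
    obtain ⟨w', hw'⟩ := φe.surjective (π' v)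
    have h1 : ∀ x y : N, act W' hW'i x (act W' hW'i y (π' v)) = φ (act W hWi x (act W hWi y w')) := by
      intro x y; rw [hφ, hφ, ← hw']; rfl
    have h2 : π ((x : Matrix (Fin 4) (Fin 4) F) *ᵥ ((y : Matrix (Fin 4) (Fin 4) F) *ᵥ v))
        = π ((y : Matrix (Fin 4) (Fin 4) F) *ᵥ ((x : Matrix (Fin 4) (Fin 4) F) *ᵥ v)) := by
      rw [(hπx ⟨x, hx⟩ _).1, (hπx ⟨y, hy⟩ _).1, (hπx ⟨y, hy⟩ _).1, (hπx ⟨x, hx⟩ _).1, hcW]
    have h3 : π' ((x : Matrix (Fin 4) (Fin 4) F) *ᵥ ((y : Matrix (Fin 4) (Fin 4) F) *ᵥ v))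
        = π' ((y : Matrix (Fin 4) (Fin 4) F) *ᵥ ((x : Matrix (Fin 4) (Fin 4) F) *ᵥ v)) := by
      rw [(hπx ⟨x, hx⟩ _).2, (hπx ⟨y, hy⟩ _).2, (hπx ⟨y, hy⟩ _).2, (hπx ⟨x, hx⟩ _).2, h1, h1, hcW]
    rw [← hsplit ((x : Matrix (Fin 4) (Fin 4) F) *ᵥ ((y : Matrix (Fin 4) (Fin 4) F) *ᵥ v)), h2, h3, hsplit]
  -- the tensor case
  refine Or.inr (Or.inr (Or.inl ?_))
  let bb := Module.finBasisOfFinrankEq F W hm
  let ψ : (Fin 4 → F) →ₗ[F] W := φe.symm.toLinearMap ∘ₗ π'
  have hψx : ∀ (x : N) v, ψ ((x.1 : Matrix (Fin 4) (Fin 4) F) *ᵥ v) = act W hWi x (ψ v) := by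
    intro x v
    apply φe.injective
    change φe (φe.symm (π' _)) = φ (act W hWi x (φe.symm (π' v)))
    rw [φe.apply_symm_apply, hφ, (hπx x v).2]
    congr 1
    exact (φe.apply_symm_apply _).symm
  let Q : (Fin 4 → F) → F := fun v => om bb (π v) (ψ v)
  have hpolar : QuadraticMap.polar Q = fun u v => om bb (π u) (ψ v) + om bb (π v) (ψ u) := by
    funext u v
    simp [QuadraticMap.polar, Q, om_add_left, om_add_right]; ring
  have hsurj : ∀ a c : W, ∃ v, π v = a ∧ ψ v = c := fun a c =>
    ⟨(a : Fin 4 → F) + φ c, (huniq a (φ c)).1, by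
      change φe.symm (π' _) = c
      rw [(huniq a (φ c)).2]; exact φe.symm_apply_apply c⟩
  have hQnd : IsNondegenerateQuadraticForm Q := by
    refine ⟨fun c v => by simp [Q, om_smul_left, om_smul_right]; ring, ?_, ?_⟩
    · rw [hpolar]
      exact ⟨fun x y v => by simp [om_add_left, om_add_right]; ring,
        fun c x v => by simp [om_smul_left, om_smul_right]; ring,
        fun v x y => by simp [om_add_left, om_add_right]; ring,
        fun c v x => by simp [om_smul_left, om_smul_right]; ring⟩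
    · intro v hv
      rw [hpolar]
      suffices h : ∃ x, om bb (π v) (ψ x) + om bb (π x) (ψ v) ≠ 0 by
        obtain ⟨x, hx⟩ := h
        exact ⟨⟨x, fun h => hx (by rw [add_comm]; exact h)⟩, ⟨x, hx⟩⟩
      by_cases ha : π v = 0
      · have hc : ψ v ≠ 0 := fun hc => hv (by
          have h1 : π' v = 0 := by
            have := congrArg φe hc
            simpa [ψ] using this
          rw [← hsplit v, ha, h1]; simp)
        obtain ⟨z, hz⟩ := om_nondeg bb hc
        obtain ⟨x, h1, h2⟩ := hsurj z 0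
        refine ⟨x, ?_⟩
        rw [h1, h2, ha]
        simp only [om] at hz ⊢
        intro h0; apply hz; simp at h0; linear_combination -h0
      · obtain ⟨z, hz⟩ := om_nondeg bb ha
        obtain ⟨x, h1, h2⟩ := hsurj 0 z
        refine ⟨x, ?_⟩
        rw [h1, h2]; simpa [om] using hz
  refine ⟨Q, hQnd, fun g hg => ?_⟩
  let gl := Matrix.toLin' (g : Matrix (Fin 4) (Fin 4) F)
  have tw : ∀ (p : (Fin 4 → F) →ₗ[F] W),
      (∀ (x : N) v, p ((x.1 : Matrix (Fin 4) (Fin 4) F) *ᵥ v) = act W hWi x (p v)) →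
      ∀ (j : W →ₗ[F] (Fin 4 → F)), (∀ (x : N) u, j (act W hWi x u) = (x.1 : Matrix (Fin 4) (Fin 4) F) *ᵥ j u) →
      ∀ (x : N) u, (p ∘ₗ gl ∘ₗ j) (act W hWi x u)
        = act W hWi ⟨g * x.1 * g⁻¹, hn g hg x.1 x.2⟩ ((p ∘ₗ gl ∘ₗ j) u) := by
    intro p hp j hj x u
    simp only [LinearMap.comp_apply, gl, Matrix.toLin'_apply, hj]
    rw [← hp]
    congr 1
    simp [Matrix.mulVec_mulVec, mul_assoc]
  let j₀ : W →ₗ[F] (Fin 4 → F) := W.subtype
  let j₁ : W →ₗ[F] (Fin 4 → F) := W'.subtype ∘ₗ φ
  have hj₀ : ∀ (x : N) u, j₀ (act W hWi x u) = (x.1 : Matrix (Fin 4) (Fin 4) F) *ᵥ j₀ u := fun x u => rfl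
  have hj₁ : ∀ (x : N) u, j₁ (act W hWi x u) = (x.1 : Matrix (Fin 4) (Fin 4) F) *ᵥ j₁ u := fun x u => by
    change ((φ (act W hWi x u) : W') : Fin 4 → F) = _
    rw [hφ]; rfl
  let Tw : (W →ₗ[F] W) → Prop := fun a =>
    ∀ (x : N) u, a (act W hWi x u) = act W hWi ⟨g * x.1 * g⁻¹, hn g hg x.1 x.2⟩ (a u)
  let a00 : W →ₗ[F] W := π ∘ₗ gl ∘ₗ j₀
  let a01 : W →ₗ[F] W := π ∘ₗ gl ∘ₗ j₁
  let a10 : W →ₗ[F] W := ψ ∘ₗ gl ∘ₗ j₀
  let a11 : W →ₗ[F] W := ψ ∘ₗ gl ∘ₗ j₁
  have ht00 : Tw a00 := tw π (fun x v => (hπx x v).1) j₀ hj₀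
  have ht01 : Tw a01 := tw π (fun x v => (hπx x v).1) j₁ hj₁
  have ht10 : Tw a10 := tw ψ hψx j₀ hj₀
  have ht11 : Tw a11 := tw ψ hψx j₁ hj₁
  have twinj : ∀ a, Tw a → a ≠ 0 → Function.Bijective a := by
    intro a ha ha0
    have hk : IN ((LinearMap.ker a).map W.subtype) := by
      rintro x hx _ ⟨u, hu, rfl⟩
      refine ⟨act W hWi ⟨x, hx⟩ u, ?_, rfl⟩
      change a _ = 0
      rw [ha, show a u = 0 from hu, map_zero]
    have hinj : Function.Injective a := by
      rw [← LinearMap.ker_eq_bot]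
      rcases hmin _ hk (Submodule.map_subtype_le _ _) with h | h
      · rw [Submodule.eq_bot_iff]
        intro u hu
        have : (u : Fin 4 → F) ∈ (LinearMap.ker a).map W.subtype := ⟨u, hu, rfl⟩
        rw [h] at this
        exact Subtype.ext (by simpa using this)
      · exfalso; apply ha0
        refine LinearMap.ext fun u => ?_
        have : (u : Fin 4 → F) ∈ (LinearMap.ker a).map W.subtype := by rw [h]; exact u.2
        obtain ⟨u', hu', huu⟩ := this
        rw [← Subtype.ext huu]; exact hu'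
    exact ⟨hinj, LinearMap.injective_iff_surjective.1 hinj⟩
  have hv_eq : ∀ v, v = j₀ (π v) + j₁ (ψ v) := fun v => by
    change v = (π v : Fin 4 → F) + ((φe (φe.symm (π' v)) : W') : Fin 4 → F)
    rw [φe.apply_symm_apply, hsplit]
  have hgv : ∀ v, π (gl v) = a00 (π v) + a01 (ψ v) ∧ ψ (gl v) = a10 (π v) + a11 (ψ v) := by
    intro v
    constructor <;> (conv_lhs => rw [hv_eq v]) <;> simp [a00, a01, a10, a11]
  obtain ⟨b, hb, hb0⟩ : ∃ b, Tw b ∧ b ≠ 0 := by
    by_contra hc; push Not at hc
    have e0 : ∀ v, gl v = 0 := fun v => by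
      have h := hgv v
      rw [hc _ ht00, hc _ ht01, hc _ ht10, hc _ ht11] at h
      simp at h
      have h1 : π' (gl v) = 0 := by
        have := congrArg φe h.2
        simpa [ψ] using this
      rw [← hsplit (gl v), h.1, h1]; simp
    have := congrArg (fun w => ((g⁻¹ : GL (Fin 4) F) : Matrix (Fin 4) (Fin 4) F) *ᵥ w) (e0 (Pi.single 0 1))
    simp only [gl, Matrix.toLin'_apply, mv_inv, Matrix.mulVec_zero] at this
    simpa using congrFun this 0
  let be := LinearEquiv.ofBijective b (twinj b hb hb0)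
  have prop : ∀ a, Tw a → ∃ c : F, ∀ u, a u = c • b u := by
    intro a ha
    obtain ⟨c, hc⟩ := hend (be.symm.toLinearMap ∘ₗ a) (fun x u => by
      apply be.injective
      change be (be.symm (a (act W hWi x u))) = b (act W hWi x (be.symm (a u)))
      rw [be.apply_symm_apply, ha, hb]
      congr 1
      exact (be.apply_symm_apply (a u)).symm)
    refine ⟨c, fun u => ?_⟩
    have := congrArg be (hc u)
    simpa [be] using this
  obtain ⟨c00, h00⟩ := prop _ ht00
  obtain ⟨c01, h01⟩ := prop _ ht01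
  obtain ⟨c10, h10⟩ := prop _ ht10
  obtain ⟨c11, h11⟩ := prop _ ht11
  set db := bb.repr (b (bb 0)) 0 * bb.repr (b (bb 1)) 1 - bb.repr (b (bb 0)) 1 * bb.repr (b (bb 1)) 0
  have hQg : ∀ v, Q ((g : Matrix (Fin 4) (Fin 4) F) *ᵥ v) = ((c00 * c11 - c01 * c10) * db) * Q v := by
    intro v
    have h := hgv v
    simp only [gl, Matrix.toLin'_apply] at h
    simp only [Q, h.1, h.2, h00, h01, h10, h11]
    simp only [om_add_left, om_add_right, om_smul_left, om_smul_right, om_map bb b, om_self,
      om_swap bb (π v) (ψ v)]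
    ring
  have hd0 : (c00 * c11 - c01 * c10) * db ≠ 0 := by
    intro h0
    obtain ⟨x, hx⟩ := (hQnd.nondegenerate (Pi.single 0 1) (by simp)).1
    have hz : ∀ v, Q v = 0 := fun v => by
      rw [← mv_inv' g v, hQg, h0, zero_mul]
    apply hx
    simp [QuadraticMap.polar, hz]
  exact ⟨Units.mk0 _ hd0, hQg⟩

end Cfsg.Agent.Lib.SL4Max
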