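import Cfsg.Agent.Lib.SL4Max.Comm

/-!
# SL₄ maximal subgroups: subfields
-/

set_option autoImplicit false
set_option linter.unusedSectionVars false

namespace Cfsg.Agent.Lib.SL4Max

open Cfsg Cfsg.Geo
open scoped Matrix

variable {F : Type*} [Field F]

/-- `H` is contained in a subfield group for a proper subfield. -/
def GSub (H : Subgroup (GL (Fin 4) F)) : Prop :=
  ∃ (F₀ : Subfield F) (P : GL (Fin 4) F), F₀ ≠ ⊤ ∧ H ≤ subfieldSubgroup F₀ P

theorem subfieldSubgroup_mono {F₀ F₁ : Subfield F} (h : F₀ ≤ F₁) (P : GL (Fin 4) F) :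
    subfieldSubgroup F₀ P ≤ subfieldSubgroup F₁ P := by
  refine Subgroup.map_mono (sup_le_sup_right ?_ _)
  rintro _ ⟨g, rfl⟩
  exact ⟨Matrix.GeneralLinearGroup.map (Subfield.inclusion h) g, by ext i j; rfl⟩

theorem le_subfield_of_realised {H N : Subgroup (GL (Fin 4) F)} (hn : Normed H N)
    (hN : ActsAbsolutelyIrreducibly (matrixSet N)) (F₀ : Subfield F) (P : GL (Fin 4) F)
    (hreal : ∀ x ∈ N, ∀ i j, ((P⁻¹ * x * P : GL (Fin 4) F) : Matrix (Fin 4) (Fin 4) F) i j ∈ F₀) :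
    H ≤ subfieldSubgroup F₀ P := by
  classical
  intro h hh
  set k : GL (Fin 4) F := P⁻¹ * h * P
  obtain ⟨a, b, hab⟩ : ∃ a b, (k : Matrix (Fin 4) (Fin 4) F) a b ≠ 0 := by
    by_contra hc; push Not at hc
    exact k.ne_zero (Matrix.ext hc)
  obtain ⟨ℓ, hℓ⟩ : ∃ ℓ : F →ₗ[F₀] F₀, ℓ ((k : Matrix (Fin 4) (Fin 4) F) a b) ≠ 0 := by
    by_contra hc; push Not at hc
    exact hab ((Module.forall_dual_apply_eq_zero_iff F₀ _).1 hc)
  set M : Matrix (Fin 4) (Fin 4) F₀ := Matrix.of fun i j => ℓ ((k : Matrix (Fin 4) (Fin 4) F) i j)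
  set MF : Matrix (Fin 4) (Fin 4) F := M.map F₀.subtype
  have hM0 : MF ≠ 0 := fun h0 => hℓ <| by
    have := congrFun (congrFun h0 a) b
    exact Subtype.ext (by simpa [MF, M] using this)
  have key : ∀ x ∈ N, MF * ((P⁻¹ * x * P : GL (Fin 4) F) : Matrix (Fin 4) (Fin 4) F)
      = ((P⁻¹ * (h * x * h⁻¹) * P : GL (Fin 4) F) : Matrix (Fin 4) (Fin 4) F) * MF := by
    intro x hx
    set X : GL (Fin 4) F := P⁻¹ * x * P
    set Y : GL (Fin 4) F := P⁻¹ * (h * x * h⁻¹) * P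
    have hk : (k : Matrix (Fin 4) (Fin 4) F) * X = Y * k := by
      rw [← Units.val_mul, ← Units.val_mul]; congr 1; simp [k, X, Y, mul_assoc]
    ext i j
    have h1 := congrFun (congrFun hk i) j
    simp only [Matrix.mul_apply] at h1 ⊢
    have e1 : ∀ l, (⟨_, hreal x hx l j⟩ : F₀) • (k : Matrix (Fin 4) (Fin 4) F) i l
        = (k : Matrix (Fin 4) (Fin 4) F) i l * (X : Matrix (Fin 4) (Fin 4) F) l j := fun l => mul_comm _ _
    have e2 : ∀ l, (⟨_, hreal _ (hn h hh x hx) i l⟩ : F₀) • (k : Matrix (Fin 4) (Fin 4) F) l j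
        = (Y : Matrix (Fin 4) (Fin 4) F) i l * (k : Matrix (Fin 4) (Fin 4) F) l j := fun l => rfl
    have h2 := congrArg ℓ h1
    simp only [← e1, ← e2, map_sum, map_smul] at h2
    have h3 := congrArg F₀.subtype h2
    simp only [map_sum, smul_eq_mul, map_mul] at h3
    refine Eq.trans ?_ (h3.trans ?_)
    · exact Finset.sum_congr rfl fun l _ => mul_comm _ _
    · rfl
  obtain ⟨c, hc⟩ := hN.2 (((h⁻¹ * P : GL (Fin 4) F) : Matrix (Fin 4) (Fin 4) F) * MF
      * ((P⁻¹ : GL (Fin 4) F) : Matrix (Fin 4) (Fin 4) F)) (by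
    rintro _ ⟨x, hx, rfl⟩
    change ((h⁻¹ * P : GL (Fin 4) F) : Matrix (Fin 4) (Fin 4) F) * MF * ((P⁻¹ : GL (Fin 4) F) : Matrix (Fin 4) (Fin 4) F)
        * (x : Matrix (Fin 4) (Fin 4) F) = _
    calc _ = ((h⁻¹ * P : GL (Fin 4) F) : Matrix (Fin 4) (Fin 4) F)
          * (MF * ((P⁻¹ * x * P : GL (Fin 4) F) : Matrix (Fin 4) (Fin 4) F))
          * ((P⁻¹ : GL (Fin 4) F) : Matrix (Fin 4) (Fin 4) F) := by simp [mul_assoc]
      _ = _ := by rw [key x hx]; simp [mul_assoc])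
  have hMk : MF = c • (k : Matrix (Fin 4) (Fin 4) F) := by
    have h1 := congrArg (fun A : Matrix (Fin 4) (Fin 4) F =>
      ((P⁻¹ * h : GL (Fin 4) F) : Matrix (Fin 4) (Fin 4) F) * A * (P : Matrix (Fin 4) (Fin 4) F)) hc
    simpa [k, mul_assoc] using h1
  have hc0 : c ≠ 0 := fun h0 => hM0 (by rw [hMk, h0, zero_smul])
  have hdet : MF.det ≠ 0 := by
    rw [hMk, Matrix.det_smul]
    exact mul_ne_zero (pow_ne_zero _ hc0) (k.isUnit.map Matrix.detMonoidHom).ne_zero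
  have hdet0 : M.det ≠ 0 := fun h0 => hdet (by
    have : MF.det = F₀.subtype M.det := ((F₀.subtype).map_det M).symm
    rw [this, h0, map_zero])
  let M₀ : GL (Fin 4) F₀ := Matrix.GeneralLinearGroup.mk'' M (Ne.isUnit hdet0)
  let s : GL (Fin 4) F := Units.map (Matrix.scalar (Fin 4) : F →+* Matrix (Fin 4) (Fin 4) F).toMonoidHom
    (Units.mk0 c⁻¹ (inv_ne_zero hc0))
  refine ⟨Matrix.GeneralLinearGroup.map F₀.subtype M₀ * s,
    Subgroup.mul_mem_sup ⟨M₀, rfl⟩ ⟨_, rfl⟩, ?_⟩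
  have hval : Matrix.GeneralLinearGroup.map F₀.subtype M₀ * s = k := by
    refine Units.ext ?_
    rw [Units.val_mul]
    change MF * Matrix.scalar (Fin 4) c⁻¹ = _
    rw [hMk, Matrix.scalar_apply, ← Matrix.smul_one_eq_diagonal, Matrix.mul_smul, mul_one, smul_smul,
      inv_mul_cancel₀ hc0, one_smul]
  rw [hval]
  simp [k, mul_assoc]

theorem realisable_gsub {H N : Subgroup (GL (Fin 4) F)} (hn : Normed H N)
    (hN : ActsAbsolutelyIrreducibly (matrixSet N)) {F₀ : Subfield F} (hF₀ : F₀ ≠ ⊤)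
    (h : RealisableOver F₀ (matrixSet N)) : GSub H := by
  obtain ⟨B, hB⟩ := h
  exact ⟨F₀, B⁻¹, hF₀, le_subfield_of_realised hn hN F₀ B⁻¹ fun x hx i j => by
    simpa [mul_assoc] using hB _ ⟨x, hx, rfl⟩ i j⟩

variable [Fintype F]

/-- The subfield fixed by the `k`-th power of Frobenius. -/
noncomputable def fixedSub (p : ℕ) [Fact p.Prime] [CharP F p] (k : ℕ) : Subfield F :=
  RingHom.eqLocusField (iterateFrobenius F p k) (RingHom.id F)

theorem mem_fixedSub (p : ℕ) [Fact p.Prime] [CharP F p] (k : ℕ) (x : F) :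
    x ∈ fixedSub (F := F) p k ↔ x ^ p ^ k = x := by
  change iterateFrobenius F p k x = x ↔ _
  rw [iterateFrobenius_def]

theorem exists_pow_ne {Q : ℕ} (hQ : 2 ≤ Q) (hQq : Q < Fintype.card F) : ∃ x : F, x ^ Q ≠ x := by
  classical
  obtain ⟨g, hg⟩ := IsCyclic.exists_generator (α := Fˣ)
  refine ⟨g, fun h => ?_⟩
  have h1 : g ^ (Q - 1) = 1 := by
    apply mul_right_cancel (b := g)
    rw [← pow_succ, show Q - 1 + 1 = Q by omega, one_mul]
    exact Units.ext (by simpa using h)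
  have h2 := orderOf_le_of_pow_eq_one (by omega) h1
  rw [orderOf_eq_card_of_forall_mem_zpowers hg, Nat.card_eq_fintype_card, Fintype.card_units] at h2
  omega

theorem fixedSub_ne_top (p : ℕ) [Fact p.Prime] [CharP F p] {k : ℕ} (hk : 0 < k)
    (hlt : p ^ k < Fintype.card F) : fixedSub (F := F) p k ≠ ⊤ := by
  intro h
  obtain ⟨x, hx⟩ := exists_pow_ne (F := F) (Nat.le_trans (Fact.out : p.Prime).two_le
    (Nat.le_self_pow (by omega) p)) hlt
  exact hx ((mem_fixedSub p k x).1 (h ▸ Subfield.mem_top x))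

theorem exists_prime_index {F₀ : Subfield F} (hF₀ : F₀ ≠ ⊤) : ∃ (F₁ : Subfield F) (r : ℕ),
    F₀ ≤ F₁ ∧ F₁ ≠ ⊤ ∧ r.Prime ∧ Fintype.card F = Nat.card F₁ ^ r := by
  classical
  obtain ⟨p, _⟩ := CharP.exists F
  haveI : Fact p.Prime := ⟨CharP.char_is_prime F p⟩
  haveI : Fintype F₀ := Fintype.ofFinite F₀
  haveI : CharP F₀ p := charP_of_injective_ringHom (F₀.subtype).injective p |> fun h => by
    first | exact h | exact (RingHom.charP_iff (F₀.subtype) (F₀.subtype).injective p).2 inferInstance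
  obtain ⟨⟨d, hd⟩, -, hcard⟩ := FiniteField.card F₀ p
  simp only [PNat.mk_coe] at hcard
  set m := Module.finrank F₀ F
  have hm : Fintype.card F = Fintype.card F₀ ^ m := Module.card_eq_pow_finrank
  have hm1 : 1 < m := by
    by_contra hc
    have hle : Fintype.card F ≤ Fintype.card F₀ := by
      rw [hm]; calc Fintype.card F₀ ^ m ≤ Fintype.card F₀ ^ 1 :=
            Nat.pow_le_pow_right Fintype.card_pos (by omega)
        _ = _ := pow_one _
    have hbij := (Fintype.bijective_iff_injective_and_card (F₀.subtype : F₀ → F)).2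
      ⟨Subtype.val_injective, le_antisymm (Fintype.card_le_of_injective _ Subtype.val_injective) hle⟩
    exact hF₀ (eq_top_iff.2 fun x _ => by obtain ⟨y, rfl⟩ := hbij.2 x; exact y.2)
  set r := m.minFac
  have hr : r.Prime := Nat.minFac_prime (by omega)
  obtain ⟨s, hs⟩ := Nat.minFac_dvd m
  have hs0 : 0 < s := Nat.pos_of_ne_zero fun h => by rw [h, mul_zero] at hs; omega
  set Q := p ^ (d * s)
  have hQ : Fintype.card F₀ ^ s = Q := by rw [hcard, ← pow_mul]
  have hFQ : Fintype.card F = Q ^ r := by rw [hm, ← hQ, ← pow_mul, mul_comm s r, ← hs]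
  have hQ2 : 2 ≤ Q := Nat.le_trans (Fact.out : p.Prime).two_le (Nat.le_self_pow (Nat.mul_pos hd hs0).ne' p)
  have hcQ : Nat.card (fixedSub (F := F) p (d * s)) = Q := by
    have := card_fixed_pow (L := F) hQ2 (by rw [hFQ]; exact Nat.sub_one_dvd_pow_sub_one Q r)
    rw [← Nat.card_coe_set_eq] at this
    rw [← this]
    exact Nat.card_congr (Equiv.subtypeEquivRight fun x => mem_fixedSub p (d * s) x)
  refine ⟨fixedSub p (d * s), r, fun x hx => ?_,
    fixedSub_ne_top p (Nat.mul_pos hd hs0) ?_, hr, by rw [hcQ, hFQ]⟩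
  · rw [mem_fixedSub, pow_mul, ← hcard]
    exact congrArg Subtype.val (show (⟨x, hx⟩ : F₀) ^ Fintype.card F₀ ^ s = ⟨x, hx⟩ from FiniteField.pow_card_pow s _)
  · rw [hFQ]
    calc p ^ (d * s) = Q ^ 1 := (pow_one _).symm
      _ < Q ^ r := Nat.pow_lt_pow_right (by omega) hr.one_lt

end Cfsg.Agent.Lib.SL4Max
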