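import Cfsg.Agent.Lib.SL4Max.Structure
import Cfsg.Agent.Lib.SL4Max.Subfield

/-!
# SL₄ maximal subgroups: normalised groups which are abelian modulo scalars
-/

set_option autoImplicit false
set_option linter.unusedSectionVars false

namespace Cfsg.Agent.Lib.SL4Max

open Cfsg Cfsg.Geo
open scoped Matrix

variable {F : Type*} [Field F] [Fintype F]

/-- `H` preserves a symplectic form up to scalars. -/
def GSymp (H : Subgroup (GL (Fin 4) F)) : Prop :=
  ∃ f : (Fin 4 → F) → (Fin 4 → F) → F, IsSymplecticForm f ∧ H ≤ similarityGroup f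

/-- `H` preserves a unitary form up to scalars. -/
def GUnit (H : Subgroup (GL (Fin 4) F)) : Prop :=
  ∃ (σ : F ≃+* F) (f : (Fin 4 → F) → (Fin 4 → F) → F), IsUnitaryForm σ f ∧ H ≤ similarityGroup f

/-- `H` normalises a class-6 group. -/
def GSix (H : Subgroup (GL (Fin 4) F)) : Prop :=
  ∃ (p : ℕ) (R : Subgroup (GL (Fin 4) F)), p.Prime ∧ Fintype.card F = p ∧ p % 4 = 1 ∧
    IsLinearSymplecticTypeData 2 R ∧ Nat.card R ≤ 64 ∧ ¬ R ≤ scalars (Fin 4) F ∧ H ≤ subgroupNormalizer R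

/-- The scalar matrix as an element of the group. -/
def sc (c : Fˣ) : GL (Fin 4) F :=
  Units.map (Matrix.scalar (Fin 4) : F →+* Matrix (Fin 4) (Fin 4) F).toMonoidHom c

theorem sc_val (c : Fˣ) : ((sc c : GL (Fin 4) F) : Matrix (Fin 4) (Fin 4) F) = (c : F) • 1 := by
  simp [sc, Matrix.smul_one_eq_diagonal]

theorem sc_mem (c : Fˣ) : (sc c : GL (Fin 4) F) ∈ scalars (Fin 4) F := ⟨c, rfl⟩

theorem mem_sc {g : GL (Fin 4) F} (h : g ∈ scalars (Fin 4) F) : ∃ c : Fˣ, g = sc c := by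
  obtain ⟨c, rfl⟩ := h; exact ⟨c, rfl⟩

theorem sc_mul (c d : Fˣ) : (sc (c * d) : GL (Fin 4) F) = sc c * sc d := map_mul _ _ _

theorem sc_comm (c : Fˣ) (g : GL (Fin 4) F) : sc c * g = g * sc c := by
  refine Units.ext ?_; simp [sc_val, Units.val_mul]

theorem sc_inj {c d : Fˣ} (h : (sc c : GL (Fin 4) F) = sc d) : c = d := by
  have := congrArg (fun g : GL (Fin 4) F => (g : Matrix (Fin 4) (Fin 4) F) 0 0) h
  exact Units.ext (by simpa [sc_val] using this)

set_option maxHeartbeats 400000 in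
theorem det_of_sq {x y : GL (Fin 4) F} {d : F} (hd : (x : Matrix (Fin 4) (Fin 4) F) * x = d • 1)
    (hy : (y : Matrix (Fin 4) (Fin 4) F) * x * ((y⁻¹ : GL (Fin 4) F) : Matrix (Fin 4) (Fin 4) F) = -(x : Matrix (Fin 4) (Fin 4) F)) :
    (x : Matrix (Fin 4) (Fin 4) F).det = d ^ 2 := by
  set X := (x : Matrix (Fin 4) (Fin 4) F)
  have h1 : (-X).charpoly = X.charpoly := by
    rw [← hy, mul_assoc, Matrix.charpoly_mul_comm, mul_assoc, ← Units.val_mul, inv_mul_cancel, Units.val_one, mul_one]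
  have h2 : X.charpoly * (-X).charpoly = ((Polynomial.X ^ 2 - Polynomial.C d) ^ 2) ^ 2 := by
    rw [Matrix.charpoly, Matrix.charpoly, ← Matrix.det_mul, Matrix.charmatrix, Matrix.charmatrix]
    set S : Matrix (Fin 4) (Fin 4) (Polynomial F) := Matrix.scalar (Fin 4) Polynomial.X
    set C := (Polynomial.C : F →+* Polynomial F).mapMatrix (m := Fin 4)
    have hS : S * C X = C X * S := (Matrix.scalar_commute _ (fun r => Commute.all _ r) _).eq
    have : (S - C X) * (S - C (-X)) = Matrix.scalar (Fin 4) (Polynomial.X ^ 2 - Polynomial.C d) := by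
      rw [map_neg, sub_neg_eq_add, sub_mul, mul_add, mul_add, hS, ← map_mul C, hd]
      have hCd : C (d • (1 : Matrix (Fin 4) (Fin 4) F)) = Matrix.scalar (Fin 4) (Polynomial.C d) := by
        ext i j; by_cases hij : i = j <;> simp [C, hij, Matrix.one_apply]
      rw [hCd, map_sub, map_pow, sq]
      abel
    rw [this]
    simp only [Matrix.scalar_apply, Matrix.det_diagonal, Finset.prod_const, Finset.card_univ, Fintype.card_fin]
    ring
  rw [h1, ← sq] at h2
  have hm' : (((Polynomial.X : Polynomial F) ^ 2 - Polynomial.C d) ^ 2).Monic :=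
    (Polynomial.monic_X_pow_sub_C d (by norm_num)).pow 2
  have h : X.charpoly = ((Polynomial.X : Polynomial F) ^ 2 - Polynomial.C d) ^ 2 := by
    rcases sq_eq_sq_iff_eq_or_eq_neg.1 h2 with h | h
    · exact h
    · have hm := X.charpoly_monic
      rw [h, Polynomial.Monic, Polynomial.leadingCoeff_neg, hm'.leadingCoeff] at hm
      rw [h, ← neg_one_smul F, hm, one_smul]
  have := congrArg (Polynomial.eval 0) h
  rw [Matrix.eval_charpoly] at this
  simpa [Matrix.det_neg, show ((-1:F)) ^ 4 = 1 by norm_num] using this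

/-- Standing data: `N` is irreducible, normalised by `H`, and abelian of exponent two modulo scalars. -/
structure AbData (H N : Subgroup (GL (Fin 4) F)) : Prop where
  normed : Normed H N
  le_sl : N ≤ specialLinear (Fin 4) F
  ns : ¬ N ≤ scalars (Fin 4) F
  absIrr : ActsAbsolutelyIrreducibly (matrixSet N)
  comm : ∀ x ∈ N, ∀ y ∈ N, x * y * x⁻¹ * y⁻¹ ∈ scalars (Fin 4) F
  sq : ∀ x ∈ N, x * x ∈ scalars (Fin 4) F


section data
variable {H N : Subgroup (GL (Fin 4) F)}

set_option maxHeartbeats 400000 in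
theorem AbData.anti (hd : AbData H N) {x : GL (Fin 4) F} (hx : x ∈ N) (hxs : x ∉ scalars (Fin 4) F) :
    (2 : F) ≠ 0 ∧ ∃ y ∈ N, (y : Matrix (Fin 4) (Fin 4) F) * x * ((y⁻¹ : GL (Fin 4) F) : Matrix (Fin 4) (Fin 4) F)
      = -(x : Matrix (Fin 4) (Fin 4) F) := by
  obtain ⟨d, hd'⟩ := (mem_scalars_iff _).1 (hd.sq x hx)
  have hall : ∀ y ∈ N, ∃ c : F, c ^ 2 = 1 ∧ (y : Matrix (Fin 4) (Fin 4) F) * x * ((y⁻¹ : GL (Fin 4) F) : Matrix (Fin 4) (Fin 4) F)
      = c • (x : Matrix (Fin 4) (Fin 4) F) := by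
    intro y hy
    obtain ⟨c, hc⟩ := (mem_scalars_iff _).1 (hd.comm y hy x hx)
    have e : (y : Matrix (Fin 4) (Fin 4) F) * x * ((y⁻¹ : GL (Fin 4) F) : Matrix (Fin 4) (Fin 4) F)
        = (c : F) • (x : Matrix (Fin 4) (Fin 4) F) := by
      calc _ = ((y * x * y⁻¹ * x⁻¹ : GL (Fin 4) F) : Matrix (Fin 4) (Fin 4) F) * x := by
            rw [← Units.val_mul, ← Units.val_mul, ← Units.val_mul]; congr 1; group
        _ = _ := by rw [hc, Matrix.smul_mul, one_mul]
    refine ⟨c, ?_, e⟩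
    have hxx : (x : Matrix (Fin 4) (Fin 4) F) * x = (d : F) • 1 := by rw [← Units.val_mul]; exact hd'
    have e2 := congrArg (fun A => A * A) e
    rw [Matrix.smul_mul, Matrix.mul_smul, smul_smul, hxx, smul_smul] at e2
    have hlhs : (y : Matrix (Fin 4) (Fin 4) F) * x * ((y⁻¹ : GL (Fin 4) F) : Matrix (Fin 4) (Fin 4) F) *
        ((y : Matrix (Fin 4) (Fin 4) F) * x * ((y⁻¹ : GL (Fin 4) F) : Matrix (Fin 4) (Fin 4) F)) = (d : F) • 1 := by
      have h1 : (y : Matrix (Fin 4) (Fin 4) F) * x * ((y⁻¹ : GL (Fin 4) F) : Matrix (Fin 4) (Fin 4) F) *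
        ((y : Matrix (Fin 4) (Fin 4) F) * x * ((y⁻¹ : GL (Fin 4) F) : Matrix (Fin 4) (Fin 4) F))
        = cj y ((x : Matrix (Fin 4) (Fin 4) F) * x) := (cj_mul y _ _).symm
      rw [h1, hxx]; simp [cj]
    rw [hlhs] at e2
    have := congrFun (congrFun e2 0) 0
    simp at this
    linear_combination this
  obtain ⟨y, hy, c, hc2, hyc, hne⟩ : ∃ y ∈ N, ∃ c : F, c ^ 2 = 1 ∧
      (y : Matrix (Fin 4) (Fin 4) F) * x * ((y⁻¹ : GL (Fin 4) F) : Matrix (Fin 4) (Fin 4) F)
      = c • (x : Matrix (Fin 4) (Fin 4) F) ∧ c ≠ 1 := by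
    by_contra hcon; push Not at hcon
    obtain ⟨c, hc⟩ := hd.absIrr.2 (x : Matrix (Fin 4) (Fin 4) F) (by
      rintro _ ⟨y, hy, rfl⟩
      obtain ⟨c, h1, h2⟩ := hall y hy
      rw [hcon y hy c h1 h2, one_smul] at h2
      conv_lhs => rw [← h2]
      simp [mul_assoc])
    exact hxs (scalar_of_val hc)
  have hcm : c = -1 := by
    rcases sq_eq_one_iff.1 hc2 with h | h
    exacts [absurd h hne, h]
  refine ⟨fun h2 => hne (by rw [hcm]; linear_combination -h2), y, hy, by rw [hyc, hcm, neg_one_smul]⟩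

theorem AbData.two_ne (hd : AbData H N) : (2 : F) ≠ 0 := by
  obtain ⟨x, hx, hxs⟩ := SetLike.not_le_iff_exists.1 hd.ns
  exact (hd.anti hx hxs).1

theorem AbData.four_ne (hd : AbData H N) : (4 : F) ≠ 0 := by
  rw [show (4 : F) = 2 * 2 by norm_num]; exact mul_ne_zero hd.two_ne hd.two_ne

theorem AbData.trace_zero (hd : AbData H N) {x : GL (Fin 4) F} (hx : x ∈ N) (hxs : x ∉ scalars (Fin 4) F) :
    Matrix.trace (x : Matrix (Fin 4) (Fin 4) F) = 0 := by
  obtain ⟨h2, y, -, hy⟩ := hd.anti hx hxs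
  have := congrArg Matrix.trace hy
  rw [Matrix.trace_units_conj, Matrix.trace_neg] at this
  rcases mul_eq_zero.1 (show (2:F) * Matrix.trace (x : Matrix (Fin 4) (Fin 4) F) = 0 by linear_combination this) with h | h
  exacts [absurd h h2, h]

theorem AbData.sq_sign (hd : AbData H N) {x : GL (Fin 4) F} (hx : x ∈ N) (hxs : x ∉ scalars (Fin 4) F) :
    (x : Matrix (Fin 4) (Fin 4) F) * x = 1 ∨ (x : Matrix (Fin 4) (Fin 4) F) * x = (-1 : F) • 1 := by
  obtain ⟨d, hd'⟩ := (mem_scalars_iff _).1 (hd.sq x hx)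
  rw [Units.val_mul] at hd'
  obtain ⟨-, y, -, hy⟩ := hd.anti hx hxs
  have h1 := det_of_sq hd' hy
  rw [mem_sl.1 (hd.le_sl hx)] at h1
  rcases sq_eq_one_iff.1 h1.symm with h | h
  · left; rw [hd', h, one_smul]
  · right; rw [hd', h]

theorem AbData.scalar_pow (hd : AbData H N) {x : GL (Fin 4) F} (hx : x ∈ N) {c : Fˣ} (hc : x = sc c) :
    c ^ 4 = 1 := by
  have := mem_sl.1 (hd.le_sl hx)
  rw [hc, sc_val, Matrix.det_smul, Matrix.det_one, mul_one, Fintype.card_fin] at this
  exact Units.ext (by simpa using this)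

theorem AbData.pow_four (hd : AbData H N) {x : GL (Fin 4) F} (hx : x ∈ N) : x ^ 4 = 1 := by
  by_cases hxs : x ∈ scalars (Fin 4) F
  · obtain ⟨c, hc⟩ := mem_sc hxs
    have h4 := hd.scalar_pow hx hc
    rw [hc, sc, ← map_pow, h4, map_one]
  · refine Units.ext ?_
    rw [pow_succ, pow_succ, pow_succ, pow_one, mul_assoc, Units.val_mul, Units.val_mul, Units.val_one]
    rcases hd.sq_sign hx hxs with h | h <;> simp [h]

theorem AbData.card_two_pow (hd : AbData H N) : ∃ k, Nat.card N = 2 ^ k := by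
  haveI : Fact (Nat.Prime 2) := ⟨Nat.prime_two⟩
  exact IsPGroup.iff_card.1 (fun x => ⟨2, Subtype.ext (hd.pow_four x.2)⟩)

theorem AbData.card_ne (hd : AbData H N) : (Nat.card N : F) ≠ 0 := by
  obtain ⟨k, hk⟩ := hd.card_two_pow
  rw [hk]; push_cast; exact pow_ne_zero _ hd.two_ne

set_option maxHeartbeats 400000 in
theorem AbData.span (hd : AbData H N) : Submodule.span F (matrixSet N) = ⊤ := by
  classical
  haveI : Fintype N := Fintype.ofFinite N
  refine eq_top_iff.2 fun B _ => ?_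
  set k : F := (Nat.card N : F) / 4
  have hk : k ≠ 0 := div_ne_zero hd.card_ne hd.four_ne
  let L : Matrix (Fin 4) (Fin 4) F → Matrix (Fin 4) (Fin 4) F := fun C =>
    ∑ x : N, (x.1 : Matrix (Fin 4) (Fin 4) F) * C * ((x.1⁻¹ : GL (Fin 4) F) : Matrix (Fin 4) (Fin 4) F)
  have hL : ∀ C, L C = (k * Matrix.trace C) • 1 := by
    intro C
    obtain ⟨c, hc⟩ := hd.absIrr.2 (L C) (by
      rintro _ ⟨y, hy, rfl⟩
      change L C * (y : Matrix (Fin 4) (Fin 4) F) = (y : Matrix (Fin 4) (Fin 4) F) * L C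
      simp only [L, Finset.mul_sum, Finset.sum_mul]
      refine (Fintype.sum_equiv (Equiv.mulLeft (⟨y, hy⟩ : N)) _ _ (fun x => ?_)).symm
      simp [mul_assoc])
    rw [hc]
    have h4 := congrArg Matrix.trace hc
    simp only [L, Matrix.trace_sum, Matrix.trace_units_conj, Matrix.trace_smul, Matrix.trace_one,
      Finset.sum_const, Finset.card_univ, nsmul_eq_mul, smul_eq_mul, Fintype.card_fin] at h4
    congr 1
    simp only [k, Nat.card_eq_fintype_card]
    field_simp [hd.four_ne]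
    push_cast at h4
    linear_combination -h4
  have key : k • B = ∑ x : N, Matrix.trace (((x.1⁻¹ : GL (Fin 4) F) : Matrix (Fin 4) (Fin 4) F) * B) •
      (x.1 : Matrix (Fin 4) (Fin 4) F) := by
    ext i a
    have h : ∀ b j, (∑ x : N, (x.1 : Matrix (Fin 4) (Fin 4) F) i a *
        ((x.1⁻¹ : GL (Fin 4) F) : Matrix (Fin 4) (Fin 4) F) b j) = if a = b ∧ i = j then k else 0 := by
      intro b j
      have := congrFun (congrFun (hL (Matrix.single a b 1)) i) j
      simp [L, Matrix.sum_apply, Matrix.mul_apply, Matrix.single, ite_and, -Matrix.coe_units_inv] at this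
      rw [this]
      by_cases h1 : a = b <;> by_cases h2 : i = j <;>
        simp [h1, h2, eq_comm (a := b) (b := a), Matrix.trace, Matrix.single, Matrix.one_apply]
    simp only [Matrix.smul_apply, Matrix.sum_apply, smul_eq_mul, Matrix.trace, Matrix.diag, Matrix.mul_apply,
      Finset.sum_mul]
    rw [Finset.sum_comm]
    calc k * B i a = ∑ b, ∑ j, B j b * (if a = b ∧ i = j then k else 0) := by
          rw [Finset.sum_eq_single a (fun b _ hb => by simp [Ne.symm hb]) (by simp),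
            Finset.sum_eq_single i (fun j _ hj => by simp [Ne.symm hj]) (by simp)]
          simp [mul_comm]
      _ = _ := Finset.sum_congr rfl fun b _ => by
          rw [Finset.sum_comm]
          refine Finset.sum_congr rfl fun j _ => ?_
          rw [← h b j, Finset.mul_sum]
          exact Finset.sum_congr rfl fun x _ => by ring
  have : B = k⁻¹ • (k • B) := by rw [smul_smul, inv_mul_cancel₀ hk, one_smul]
  rw [this, key]
  exact Submodule.smul_mem _ _ (Submodule.sum_mem _ fun x _ =>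
    Submodule.smul_mem _ _ (Submodule.subset_span ⟨x.1, x.2, rfl⟩))

set_option maxHeartbeats 400000 in
/-- Sixteen classes modulo scalars. -/
theorem AbData.reps (hd : AbData H N) : ∃ (Q : Finset (GL (Fin 4) F)), Q.card = 16 ∧ (∀ x ∈ Q, x ∈ N) ∧
    (∀ x ∈ N, ∃ r ∈ Q, r⁻¹ * x ∈ scalars (Fin 4) F) ∧
    (∀ r ∈ Q, ∀ s ∈ Q, r⁻¹ * s ∈ scalars (Fin 4) F → r = s) := by
  classical
  let S := (scalars (Fin 4) F).subgroupOf N
  haveI : Fintype (N ⧸ S) := Fintype.ofFinite _
  let ρ : N ⧸ S → GL (Fin 4) F := fun q => (Quotient.out q : N).1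
  have hsep : ∀ q r, (ρ q)⁻¹ * ρ r ∈ scalars (Fin 4) F → q = r := by
    intro q r h
    rw [← QuotientGroup.out_eq' q, ← QuotientGroup.out_eq' r, QuotientGroup.eq]
    exact h
  have hrep : ∀ x ∈ N, ∃ q, (ρ q)⁻¹ * x ∈ scalars (Fin 4) F := by
    intro x hx
    refine ⟨QuotientGroup.mk ⟨x, hx⟩, ?_⟩
    have h := QuotientGroup.eq.1 (QuotientGroup.out_eq' (QuotientGroup.mk (⟨x, hx⟩ : N) : N ⧸ S))
    exact h
  have hli : LinearIndependent F (fun q => (ρ q : Matrix (Fin 4) (Fin 4) F)) := by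
    rw [Fintype.linearIndependent_iff]
    intro g hg r
    have h1 := congrArg (fun A => Matrix.trace (((ρ r)⁻¹ : GL (Fin 4) F).1 * A)) hg
    simp only [Finset.mul_sum, Matrix.mul_smul, Matrix.trace_sum, Matrix.trace_smul, mul_zero, Matrix.trace_zero] at h1
    rw [Finset.sum_eq_single r (fun q _ hq => by
      rw [← Units.val_mul, hd.trace_zero (mul_mem (inv_mem (Quotient.out r : N).2) (Quotient.out q : N).2)
        (fun h => hq (hsep r q h).symm), smul_zero]) (by simp)] at h1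
    rw [← Units.val_mul, inv_mul_cancel, Units.val_one, Matrix.trace_one, Fintype.card_fin] at h1
    simpa [hd.four_ne] using h1
  have hsp : Submodule.span F (Set.range fun q => (ρ q : Matrix (Fin 4) (Fin 4) F)) = ⊤ := by
    rw [eq_top_iff, ← hd.span, Submodule.span_le]
    rintro _ ⟨x, hx, rfl⟩
    obtain ⟨q, hq⟩ := hrep x hx
    obtain ⟨c, hc⟩ := mem_sc hq
    have : x = ρ q * sc c := by rw [← hc]; simp
    change (x : Matrix (Fin 4) (Fin 4) F) ∈ _
    rw [this, Units.val_mul, sc_val, Matrix.mul_smul, mul_one]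
    exact Submodule.smul_mem _ _ (Submodule.subset_span ⟨q, rfl⟩)
  have hcard : Fintype.card (N ⧸ S) = 16 := by
    rw [← Module.finrank_eq_card_basis (Module.Basis.mk hli hsp.ge), Module.finrank_matrix]
    simp
  refine ⟨Finset.univ.image ρ, ?_, ?_, ?_, ?_⟩
  · rw [Finset.card_image_of_injective _ (fun q r h => hsep q r (by rw [h]; simp)), Finset.card_univ, hcard]
  · simp only [Finset.mem_image, Finset.mem_univ, true_and]; rintro _ ⟨q, rfl⟩; exact (Quotient.out q : N).2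
  · intro x hx; obtain ⟨q, hq⟩ := hrep x hx; exact ⟨ρ q, by simp, hq⟩
  · simp only [Finset.mem_image, Finset.mem_univ, true_and]
    rintro _ ⟨q, rfl⟩ _ ⟨r, rfl⟩ h
    rw [hsep q r h]

set_option maxHeartbeats 400000 in
theorem AbData.trace_sum_ne (hd : AbData H N) (τ : F ≃+* F) (hτ : ∀ c : F, c ^ 4 = 1 → c * τ c = 1) :
    ∑ᶠ x : N, Matrix.trace (x.1 : Matrix (Fin 4) (Fin 4) F) * τ (Matrix.trace (x.1 : Matrix (Fin 4) (Fin 4) F)) ≠ 0 := by
  classical
  haveI : Fintype N := Fintype.ofFinite N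
  rw [finsum_eq_sum_of_fintype]
  let Z := (scalars (Fin 4) F).subgroupOf N
  have e : ∀ x : N, Matrix.trace (x.1 : Matrix (Fin 4) (Fin 4) F) * τ (Matrix.trace (x.1 : Matrix (Fin 4) (Fin 4) F))
      = if x ∈ Z then 16 else 0 := by
    intro x
    by_cases hx : x.1 ∈ scalars (Fin 4) F
    · rw [if_pos (show x ∈ Z from hx)]
      obtain ⟨c, hc⟩ := mem_sc hx
      have h4 : (c : F) ^ 4 = 1 := by
        have := congrArg Units.val (hd.scalar_pow x.2 hc); simpa using this
      rw [hc, sc_val, Matrix.trace_smul, Matrix.trace_one, Fintype.card_fin, smul_eq_mul, map_mul, map_natCast]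
      push_cast
      linear_combination 16 * hτ c h4
    · rw [if_neg (show x ∉ Z from hx), hd.trace_zero x.2 hx, zero_mul]
  simp only [e, Finset.sum_ite, Finset.sum_const_zero, add_zero, Finset.sum_const, nsmul_eq_mul]
  have hc : (Finset.univ.filter fun x => x ∈ Z).card = Nat.card Z := by
    rw [Nat.card_eq_fintype_card, Fintype.card_subtype]
  rw [hc]
  obtain ⟨k, hk⟩ := hd.card_two_pow
  obtain ⟨j, -, hj⟩ := (Nat.dvd_prime_pow Nat.prime_two).1 (hk ▸ Subgroup.card_subgroup_dvd_card Z)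
  rw [hj, show (16:F) = 4 * 4 by norm_num]
  push_cast
  exact mul_ne_zero (pow_ne_zero _ hd.two_ne) (mul_ne_zero hd.four_ne hd.four_ne)

end data

end Cfsg.Agent.Lib.SL4Max
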